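import Groth.Agent.SweepSix.GeomConn
import Groth.Prelude.Def_Red

/-!
# Criteria for geometrically connected fibres
-/

set_option autoImplicit false
set_option backward.isDefEq.respectTransparency false

universe u

open CategoryTheory CategoryTheory.Limits AlgebraicGeometry

namespace Groth.Agent.WeilRes

theorem geometricallyConnected_of_geomPt {X S : Scheme.{u}} (f : X ⟶ S)
    (hconn : ∀ s : S, ConnectedSpace ↥(pullback f (Red.geomPt s))) : GeometricallyConnected f := by
  refine (GeometricallyConnected.iff_geometricallyConnected_fiber f).2 fun s => ?_
  let a := Spec.map (CommRingCat.ofHom (algebraMap (S.residueField s) (AlgebraicClosure (S.residueField s))))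
  let g : f.fiber s ⟶ Spec (CommRingCat.of (S.residueField s)) := f.fiberToSpecResidueField s
  have hc := hconn s
  haveI : ConnectedSpace ↥(pullback g a) :=
    (pullbackLeftPullbackSndIso f (S.fromSpecResidueField s) a).hom.homeomorph.connectedSpace_iff.2 hc
  haveI : GeometricallyConnected (pullback.snd g a) := SweepSix.GeomConn.gc_of_isAlgClosed _
  exact SweepSix.GeomConn.gc_of_bc g (AlgebraicClosure (S.residueField s))

theorem geometricallyConnected_of_geometricallyIrreducible {X S : Scheme.{u}} (f : X ⟶ S)
    [GeometricallyIrreducible f] : GeometricallyConnected f := by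
  refine geometricallyConnected_of_geomPt f fun s => ?_
  haveI : IrreducibleSpace ↥(pullback f (Red.geomPt s)) :=
    GeometricallyIrreducible.geometrically_irreducibleSpace _ _ _ (IsPullback.of_hasPullback f (Red.geomPt s))
  infer_instance

end Groth.Agent.WeilRes
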