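import Groth.Agent.WeilResLib.Closed
import Groth.Agent.WeilResLib.GeomConn
import Groth.Agent.FinHomLib.Affine

/-!
# A monomorphism of group schemes which is etale-locally invertible near the unit is an isomorphism
-/

set_option autoImplicit false
set_option backward.isDefEq.respectTransparency false

noncomputable section

universe u

open CategoryTheory CategoryTheory.Limits MonoidalCategory CartesianMonoidalCategory AlgebraicGeometry MonObj

namespace Groth.Agent.WeilRes

variable {S : Scheme.{u}}

theorem geometricallyConnected_of_grp (X : Over S) [GrpObj X]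
    (hconn : ∀ s : S, ConnectedSpace ↥(pullback X.hom (S.fromSpecResidueField s))) :
    GeometricallyConnected X.hom := by
  refine (GeometricallyConnected.iff_geometricallyConnected_fiber X.hom).2 fun s => ?_
  let g : X.hom.fiber s ⟶ Spec (CommRingCat.of (S.residueField s)) := X.hom.fiberToSpecResidueField s
  haveI : ConnectedSpace ↥(X.hom.fiber s) := hconn s
  let e : Spec (CommRingCat.of (S.residueField s)) ⟶ X.hom.fiber s :=
    pullback.lift (S.fromSpecResidueField s ≫ (η[X] : 𝟙_ (Over S) ⟶ X).left) (𝟙 _) (by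
      rw [Category.assoc, Over.w (η[X] : 𝟙_ (Over S) ⟶ X), Category.id_comp]
      exact Category.comp_id _)
  haveI : GeometricallyConnected (𝟙 (Spec (CommRingCat.of (S.residueField s)))) := by
    refine ⟨geometrically_iff_of_commRing_of_isClosedUnderIsomorphisms.mpr fun K _ _ => ?_⟩
    exact (asIso (pullback.snd (𝟙 (Spec (CommRingCat.of (S.residueField s))))
      (Spec.map (CommRingCat.ofHom (algebraMap (S.residueField s) K))))).hom.homeomorph.connectedSpace_iff.2
        (inferInstanceAs (ConnectedSpace ↥(Spec (CommRingCat.of K))))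
  exact SweepSix.GeomConn.gc_of_source g e (𝟙 _) (pullback.lift_snd _ _ _)

theorem connectedSpace_fiber_of_isConnected {X : Scheme.{u}} (f : X ⟶ S) {s : S}
    (h : _root_.IsConnected (f ⁻¹' {s})) : ConnectedSpace ↥(pullback f (S.fromSpecResidueField s)) := by
  haveI := Subtype.connectedSpace h
  exact (f.fiberHomeo s).symm.surjective.connectedSpace (f.fiberHomeo s).symm.continuous

theorem smooth_snd (X Y : Over S) [Smooth X.hom] : Smooth (snd X Y).left := by
  rw [Over.snd_left]
  exact MorphismProperty.pullback_snd _ _ inferInstance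

theorem smooth_mul (X : Over S) [GrpObj X] [Smooth X.hom] : Smooth (μ[X] : X ⊗ X ⟶ X).left := by
  let sh : X ⊗ X ⟶ X ⊗ X := lift (fst X X) μ[X]
  let sh' : X ⊗ X ⟶ X ⊗ X := lift (fst X X) ((fst X X)⁻¹ * snd X X)
  have hμ : (μ[X] : X ⊗ X ⟶ X) = fst X X * snd X X := by
    rw [Hom.mul_def, lift_fst_snd, Category.id_comp]
  have h1 : sh ≫ sh' = 𝟙 _ := CartesianMonoidalCategory.hom_ext _ _ (by simp [sh, sh']) (by
    simp only [sh, sh', Category.assoc, lift_snd, Category.id_comp, MonObj.comp_mul, GrpObj.comp_inv, lift_fst, hμ]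
    simp)
  have h2 : sh' ≫ sh = 𝟙 _ := CartesianMonoidalCategory.hom_ext _ _ (by simp [sh, sh']) (by
    simp only [sh, sh', Category.assoc, lift_snd, Category.id_comp, MonObj.comp_mul, GrpObj.comp_inv, lift_fst, hμ]
    simp)
  haveI : IsIso sh := ⟨sh', h1, h2⟩
  haveI : IsIso sh.left := inferInstanceAs (IsIso ((Over.forget S).map sh))
  haveI := smooth_snd X X
  rw [show (μ[X] : X ⊗ X ⟶ X) = sh ≫ snd X X from (lift_snd _ _).symm, Over.comp_left]
  infer_instance

theorem isPullback_whiskerRight (X : Over S) {T T' : Over S} (g : T' ⟶ T) :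
    IsPullback (g ▷ X).left (pullback.fst T'.hom X.hom) (pullback.fst T.hom X.hom) g.left := by
  refine IsPullback.of_right (h₁₂ := pullback.snd T.hom X.hom) (v₁₃ := X.hom) (h₂₂ := T.hom) ?_
    (Over.whiskerRight_left_fst g) (IsPullback.of_hasPullback T.hom X.hom).flip
  rw [Over.w g, Over.whiskerRight_left_snd]
  exact (IsPullback.of_hasPullback T'.hom X.hom).flip

theorem etale_whiskerRight (X : Over S) {T T' : Over S} (g : T' ⟶ T) [Etale g.left] : Etale (g ▷ X).left :=
  MorphismProperty.of_isPullback (P := @Etale) (isPullback_whiskerRight X g).flip inferInstance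

theorem etale_whiskerLeft (X : Over S) {T T' : Over S} (g : T' ⟶ T) [Etale g.left] : Etale (X ◁ g).left :=
  MorphismProperty.of_isPullback (P := @Etale) (FinHom.isPullback_whiskerLeft X g).flip inferInstance

theorem range_tensor_mem {O X : Over S} (κ : O ⟶ X) (P : (X ⊗ X).left)
    (h₁ : (fst X X).left P ∈ Set.range κ.left) (h₂ : (snd X X).left P ∈ Set.range κ.left) :
    P ∈ Set.range (κ ⊗ₘ κ).left := by
  obtain ⟨a, ha⟩ := h₁
  obtain ⟨b, hb⟩ := h₂
  obtain ⟨w, hw, -⟩ := Scheme.exists_preimage_of_isPullback (isPullback_whiskerRight X κ) P a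
    (show pullback.fst X.hom X.hom P = κ.left a from ha.symm)
  have hb' : pullback.snd O.hom X.hom w = κ.left b := by
    rw [← Over.whiskerRight_left_snd κ, Scheme.Hom.comp_apply]
    exact (congrArg (pullback.snd X.hom X.hom) hw).trans hb.symm
  obtain ⟨z, hz, -⟩ := Scheme.exists_preimage_of_isPullback (FinHom.isPullback_whiskerLeft O κ) w b hb'
  refine ⟨z, ?_⟩
  rw [tensorHom_def', Over.comp_left, Scheme.Hom.comp_apply, hz, hw]

/-- If a monomorphism of group schemes lifts an etale chart of the unit, it is an isomorphism. -/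
theorem isIso_of_chart (X Y : Over S) [GrpObj X] [GrpObj Y] [Smooth X.hom] [GeometricallyConnected X.hom]
    [QuasiSeparated X.hom] (i : Y ⟶ X) [IsMonHom i] [Mono i] (O : Over S) [QuasiCompact O.hom]
    [QuasiSeparated O.hom] (κ : O ⟶ X) [Etale κ.left] (o : O ⟶ Y) (ho : o ≫ i = κ)
    (ε : 𝟙_ (Over S) ⟶ O) (hε : ε ≫ κ = η[X]) : IsIso i := by
  let q : O ⊗ O ⟶ X := (κ ⊗ₘ κ) ≫ μ[X]
  have hfac : ((o ⊗ₘ o) ≫ μ[Y]) ≫ i = q := by
    rw [Category.assoc, IsMonHom.mul_hom, tensorHom_comp_tensorHom_assoc, ho]
  haveI := smooth_mul X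
  haveI : Etale (κ ⊗ₘ κ).left := by
    rw [tensorHom_def', Over.comp_left]
    haveI := etale_whiskerLeft O κ
    haveI := etale_whiskerRight X κ
    infer_instance
  haveI : Smooth q.left := by
    rw [Over.comp_left]
    infer_instance
  have hunit : ∀ s : S, (η[X] : 𝟙_ (Over S) ⟶ X).left s ∈ Set.range κ.left := fun s =>
    ⟨ε.left s, by rw [← Scheme.Hom.comp_apply, ← Over.comp_left, hε]⟩
  haveI : Surjective q.left := by
    refine ⟨fun x => ?_⟩
    let s : S := X.hom x
    let T : Over S := Over.mk (X.left.fromSpecResidueField x ≫ X.hom)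
    let xT : T ⟶ X := Over.homMk (X.left.fromSpecResidueField x) rfl
    haveI : Smooth (pullback.snd X.hom T.hom) := MorphismProperty.pullback_snd _ _ inferInstance
    let gT : (X ⊗ T).left ⟶ Spec (CommRingCat.of (X.left.residueField x)) := pullback.snd X.hom T.hom
    haveI : Smooth gT := MorphismProperty.pullback_snd _ _ inferInstance
    haveI : GeometricallyConnected gT := inferInstanceAs (GeometricallyConnected (pullback.snd X.hom T.hom))
    haveI : IrreducibleSpace ↥(X ⊗ T).left := irreducibleSpace_of_smooth_of_field gT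
    let v₁ : X ⊗ T ⟶ X := fst X T
    let v₂ : X ⊗ T ⟶ X := (fst X T)⁻¹ * (snd X T ≫ xT)
    let A : Set ↥(X ⊗ T).left := v₁.left ⁻¹' Set.range κ.left
    let B : Set ↥(X ⊗ T).left := v₂.left ⁻¹' Set.range κ.left
    have hA : IsOpen A := κ.left.isOpenMap.isOpen_range.preimage v₁.left.continuous
    have hB : IsOpen B := κ.left.isOpenMap.isOpen_range.preimage v₂.left.continuous
    let pt : T.left := IsLocalRing.closedPoint (X.left.residueField x)
    let a : T ⟶ X ⊗ T := lift (toUnit T ≫ η[X]) (𝟙 T)
    let b : T ⟶ X ⊗ T := lift xT (𝟙 T)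
    have haA : a.left pt ∈ A := by
      refine (show v₁.left (a.left pt) ∈ Set.range κ.left from ?_)
      rw [← Scheme.Hom.comp_apply, ← Over.comp_left, show a ≫ v₁ = toUnit T ≫ η[X] from lift_fst _ _,
        Over.comp_left, Scheme.Hom.comp_apply]
      exact hunit _
    have hbB : b.left pt ∈ B := by
      refine (show v₂.left (b.left pt) ∈ Set.range κ.left from ?_)
      rw [← Scheme.Hom.comp_apply, ← Over.comp_left,
        show b ≫ v₂ = toUnit T ≫ η[X] by
          simp only [v₂, b, MonObj.comp_mul, GrpObj.comp_inv, lift_fst, lift_snd_assoc, Category.id_comp,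
            inv_mul_cancel]
          exact Hom.one_def,
        Over.comp_left, Scheme.Hom.comp_apply]
      exact hunit _
    obtain ⟨z, -, hzA, hzB⟩ := (IrreducibleSpace.isIrreducible_univ ↥(X ⊗ T).left).2 A B hA hB
      ⟨_, Set.mem_univ _, haA⟩ ⟨_, Set.mem_univ _, hbB⟩
    let P := lift v₁ v₂
    obtain ⟨w, hw⟩ := range_tensor_mem κ (P.left z)
      (by rw [← Scheme.Hom.comp_apply, ← Over.comp_left, lift_fst]; exact hzA)
      (by rw [← Scheme.Hom.comp_apply, ← Over.comp_left, lift_snd]; exact hzB)
    refine ⟨w, ?_⟩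
    rw [Over.comp_left, Scheme.Hom.comp_apply, hw, ← Scheme.Hom.comp_apply, ← Over.comp_left,
      show P ≫ μ[X] = snd X T ≫ xT by
        rw [← Hom.mul_def]
        exact mul_inv_cancel_left _ _,
      Over.comp_left, Scheme.Hom.comp_apply]
    show X.left.fromSpecResidueField x _ = x
    rw [Scheme.fromSpecResidueField_apply]
  haveI : QuasiCompact (O ⊗ O).hom := by
    rw [show (O ⊗ O).hom = pullback.fst O.hom O.hom ≫ O.hom from rfl]
    infer_instance
  haveI : QuasiCompact q.left := by
    haveI : QuasiCompact (q.left ≫ X.hom) := by rw [Over.w q]; infer_instance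
    exact QuasiCompact.of_comp q.left X.hom
  have hQ : (@Surjective ⊓ @Flat ⊓ @QuasiCompact : MorphismProperty Scheme.{u}) q.left :=
    ⟨⟨inferInstance, inferInstance⟩, inferInstance⟩
  haveI : Mono i.left := inferInstanceAs (Mono ((Over.forget S).map i))
  haveI : IsSplitEpi (pullback.fst q.left i.left) :=
    ⟨⟨⟨pullback.lift (𝟙 _) ((o ⊗ₘ o) ≫ μ[Y]).left (by rw [Category.id_comp, ← Over.comp_left, hfac]),
      pullback.lift_fst _ _ _⟩⟩⟩
  haveI : IsIso (pullback.fst q.left i.left) := isIso_of_mono_of_isSplitEpi _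
  haveI : IsIso ((Over.forget S).map i) := MorphismProperty.of_pullback_fst_of_descendsAlong
    (P := MorphismProperty.isomorphisms Scheme.{u}) (Q := @Surjective ⊓ @Flat ⊓ @QuasiCompact) (f := q.left) hQ
    (show IsIso (pullback.fst q.left i.left) from inferInstance)
  exact isIso_of_reflects_iso i (Over.forget S)

end Groth.Agent.WeilRes
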