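import Groth.Agent.WeilResLib.GrpGlobal
import Groth.Agent.SubDescLib.Main
import Groth.Prelude.Def_ActBC
import Groth.Agent.AlgSpLib.Sep

/-!
# Transporters of smooth subgroups with connected fibres
-/

set_option autoImplicit false
set_option backward.isDefEq.respectTransparency false

noncomputable section

universe u

open CategoryTheory CategoryTheory.Limits MonoidalCategory CartesianMonoidalCategory AlgebraicGeometry
open scoped MonObj

namespace Groth.Agent.WeilRes

variable {S : Scheme.{u}} {H G K : Over S} [GrpObj H] [GrpObj G] [GrpObj K]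

/-- The points of `P` over which a family of homomorphisms from `H` factors through `K`. -/
def Maps {P : Over S} (c : H ⊗ P ⟶ G) (j : K ⟶ G) {X : Over S} (g : X ⟶ P) : Prop :=
  ∀ (X' : Over S) (x : X' ⟶ X) (h : X' ⟶ H), ∃ κ : X' ⟶ K, lift h (x ≫ g) ≫ c = κ ≫ j

/-- The locus where a family of homomorphisms from a smooth group with connected fibres factors through a
subgroup is closed. -/
theorem exists_maps_closed [Smooth H.hom] [QuasiSeparated H.hom] [GeometricallyConnected H.hom]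
    {P : Over S} (c : H ⊗ P ⟶ G)
    (hc : ∀ (Z : Over S) (a b : Z ⟶ H) (t : Z ⟶ P), lift (a * b) t ≫ c = (lift a t ≫ c) * (lift b t ≫ c))
    (j : K ⟶ G) [IsMonHom j] [Mono j] [LocallyOfFinitePresentation j.left] :
    ∃ (T : Over S) (t : T ⟶ P), IsClosedImmersion t.left ∧ LocallyOfFinitePresentation t.left ∧
      ∀ (X : Over S) (g : X ⟶ P), (∃ x : X ⟶ T, x ≫ t = g) ↔ Maps c j g := by
  let p := P.hom
  let HP := (Over.pullback p).obj H
  letI : GrpObj HP := Functor.grpObjObj
  let adj := Over.mapPullbackAdj p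
  haveI : Mono j.left := inferInstanceAs (Mono ((Over.forget S).map j))
  haveI : Smooth HP.hom := MorphismProperty.pullback_snd _ _ inferInstance
  haveI : QuasiSeparated HP.hom := MorphismProperty.pullback_snd _ _ inferInstance
  haveI : GeometricallyConnected HP.hom := inferInstanceAs (GeometricallyConnected (pullback.snd H.hom p))
  let Y : Over P.left := Over.mk (pullback.fst c.left j.left ≫ pullback.snd H.hom p)
  let iY : Y ⟶ HP := Over.homMk (pullback.fst c.left j.left) rfl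
  haveI : Mono iY := by
    haveI : Mono ((Over.forget _).map iY) := inferInstanceAs (Mono (pullback.fst c.left j.left))
    exact (Over.forget _).mono_of_mono_map ‹_›
  -- points of `HP`
  let proj : ∀ Z : Over P.left, (Over.map p).obj Z ⟶ P := fun Z => Over.homMk Z.hom rfl
  let C : ∀ {Z : Over P.left}, ((Over.map p).obj Z ⟶ H) → ((Over.map p).obj Z ⟶ G) := fun {Z} a =>
    lift a (proj Z) ≫ c
  have hfst : ∀ {Z : Over P.left} (a : (Over.map p).obj Z ⟶ H),
      (adj.homEquiv Z H a).left ≫ pullback.fst H.hom p = a.left := by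
    intro Z a
    have := congrArg CommaMorphism.left (adj.homEquiv_counit (g := adj.homEquiv Z H a))
    rw [Equiv.symm_apply_apply] at this
    refine Eq.trans ?_ this.symm
    simp [adj, Over.mapPullbackAdj]
  have hC : ∀ {Z : Over P.left} (a : (Over.map p).obj Z ⟶ H), (C a).left = (adj.homEquiv Z H a).left ≫ c.left := by
    intro Z a
    show (lift a (proj Z)).left ≫ c.left = _
    congr 1
    apply pullback.hom_ext
    · rw [hfst]
      exact congrArg CommaMorphism.left (lift_fst a (proj Z))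
    · exact (congrArg CommaMorphism.left (lift_snd a (proj Z))).trans (Over.w (adj.homEquiv Z H a)).symm
  have hmem : ∀ {Z : Over P.left} (a : (Over.map p).obj Z ⟶ H),
      (∃ w : Z ⟶ Y, w ≫ iY = adj.homEquiv Z H a) ↔ ∃ κ, C a = κ ≫ j := by
    intro Z a
    constructor
    · rintro ⟨w, hw⟩
      have h1 : (w.left ≫ pullback.snd c.left j.left) ≫ j.left = (C a).left := by
        rw [Category.assoc, ← pullback.condition, hC, ← hw, ← Category.assoc]
        rfl
      refine ⟨Over.homMk (w.left ≫ pullback.snd c.left j.left) ?_, Over.OverMorphism.ext h1.symm⟩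
      rw [← Over.w j, ← Category.assoc, h1, Over.w (C a)]
    · rintro ⟨κ, hκ⟩
      exact ⟨Over.homMk (pullback.lift (adj.homEquiv Z H a).left κ.left
        (by rw [← hC, hκ, Over.comp_left])) (by
          show pullback.lift _ _ _ ≫ pullback.fst c.left j.left ≫ pullback.snd H.hom p = Z.hom
          rw [pullback.lift_fst_assoc]
          exact Over.w (adj.homEquiv Z H a)),
        Over.OverMorphism.ext (pullback.lift_fst _ _ _)⟩
  let φ : ∀ Z : Over P.left, ((Over.map p).obj Z ⟶ H) →* (Z ⟶ HP) := fun Z =>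
    MonoidHom.mk' (adj.homEquiv Z H) fun a b => AlgGrp.Action.homEquiv_mul p a b
  let Cm : ∀ Z : Over P.left, ((Over.map p).obj Z ⟶ H) →* ((Over.map p).obj Z ⟶ G) := fun Z =>
    MonoidHom.mk' C fun a b => hc _ a b (proj Z)
  -- `Y` is a subgroup
  obtain ⟨_, hiY⟩ := SubDesc.exists_grpObj_of_mono iY (by
      obtain ⟨a, ha⟩ := (adj.homEquiv (Y ⊗ Y) H).surjective (fst Y Y ≫ iY)
      obtain ⟨b, hb⟩ := (adj.homEquiv (Y ⊗ Y) H).surjective (snd Y Y ≫ iY)
      obtain ⟨κ, hκ⟩ := (hmem a).1 ⟨fst Y Y, ha.symm⟩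
      obtain ⟨κ', hκ'⟩ := (hmem b).1 ⟨snd Y Y, hb.symm⟩
      obtain ⟨w, hw⟩ := (hmem (a * b)).2 ⟨κ * κ', by
        rw [MonObj.mul_comp, ← hκ, ← hκ']
        exact map_mul (Cm _) a b⟩
      exact ⟨w, hw.trans ((AlgGrp.Action.homEquiv_mul p a b).trans (congrArg₂ (· * ·) ha hb))⟩) (by
      obtain ⟨w, hw⟩ := (hmem (1 : (Over.map p).obj (𝟙_ _) ⟶ H)).2 ⟨1, by
        rw [MonObj.one_comp]
        exact map_one (Cm _)⟩
      exact ⟨w, hw.trans (map_one (φ _))⟩) (by
      obtain ⟨a, ha⟩ := (adj.homEquiv Y H).surjective iY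
      obtain ⟨κ, hκ⟩ := (hmem a).1 ⟨𝟙 Y, (Category.id_comp _).trans ha.symm⟩
      obtain ⟨w, hw⟩ := (hmem a⁻¹).2 ⟨κ⁻¹, by
        rw [GrpObj.inv_comp, ← hκ]
        exact map_inv (Cm _) a⟩
      exact ⟨w, hw.trans ((map_inv (φ _) a).trans (congrArg (·⁻¹) ha))⟩)
  haveI := hiY
  haveI : LocallyOfFinitePresentation Y.hom :=
    inferInstanceAs (LocallyOfFinitePresentation (pullback.fst c.left j.left ≫ pullback.snd H.hom p))
  obtain ⟨T, t, htc, htf, ht⟩ := exists_closed_inG HP Y iY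
  refine ⟨Over.mk (t ≫ p), Over.homMk t rfl, htc, htf, fun X g => ?_⟩
  have key : (∃ g' : X.left ⟶ T, g' ≫ t = g.left) ↔ InG iY g.left := ht g.left
  constructor
  · rintro ⟨x₀, hx₀⟩ X' x h
    obtain ⟨l, hl⟩ := key.1 ⟨x₀.left, congrArg CommaMorphism.left hx₀⟩
    let Z : Over P.left := Over.mk ((x ≫ g).left)
    let ε : (Over.map p).obj Z ⟶ X' := Over.homMk (𝟙 _) (by
      show 𝟙 _ ≫ X'.hom = (x ≫ g).left ≫ p
      rw [Category.id_comp]
      exact (Over.w (x ≫ g)).symm)
    let a : (Over.map p).obj Z ⟶ H := ε ≫ h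
    let m : X'.left ⟶ pullback HP.hom g.left := pullback.lift (adj.homEquiv Z H a).left x.left (by
      rw [Over.w (adj.homEquiv Z H a)]; rfl)
    let w : Z ⟶ Y := Over.homMk (m ≫ l) (by
      show (m ≫ l) ≫ Y.hom = Z.hom
      rw [← Over.w iY, Category.assoc, reassoc_of% hl, ← Category.assoc, pullback.lift_fst]
      exact Over.w (adj.homEquiv Z H a))
    obtain ⟨κ, hκ⟩ := (hmem a).1 ⟨w, Over.OverMorphism.ext (by
      show (m ≫ l) ≫ iY.left = _
      rw [Category.assoc, hl, pullback.lift_fst])⟩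
    let ε' : X' ⟶ (Over.map p).obj Z := Over.homMk (𝟙 _) (by
      show 𝟙 _ ≫ (x ≫ g).left ≫ p = X'.hom
      rw [Category.id_comp]
      exact Over.w (x ≫ g))
    refine ⟨ε' ≫ κ, ?_⟩
    rw [Category.assoc, ← hκ, comp_lift_assoc]
    congr 1
  · intro hg
    obtain ⟨g', hg'⟩ := key.2 (by
      let X' : Over S := Over.mk (pullback.snd HP.hom g.left ≫ X.hom)
      let x : X' ⟶ X := Over.homMk (pullback.snd HP.hom g.left) rfl
      let Z : Over P.left := Over.mk ((x ≫ g).left)
      let q : Z ⟶ HP := Over.homMk (pullback.fst HP.hom g.left) pullback.condition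
      obtain ⟨a, ha⟩ := (adj.homEquiv Z H).surjective q
      let ε : X' ⟶ (Over.map p).obj Z := Over.homMk (𝟙 _) (by
        show 𝟙 _ ≫ (x ≫ g).left ≫ p = X'.hom
        rw [Category.id_comp]
        exact Over.w (x ≫ g))
      let ε' : (Over.map p).obj Z ⟶ X' := Over.homMk (𝟙 _) (by
        show 𝟙 _ ≫ X'.hom = (x ≫ g).left ≫ p
        rw [Category.id_comp]
        exact (Over.w (x ≫ g)).symm)
      obtain ⟨κ, hκ⟩ := hg X' x (ε ≫ a)
      obtain ⟨w, hw⟩ := (hmem a).2 ⟨ε' ≫ κ, by
        rw [Category.assoc, ← hκ, comp_lift_assoc]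
        show lift a (proj Z) ≫ c = _
        congr 1⟩
      exact ⟨w.left, (congrArg CommaMorphism.left (hw.trans ha))⟩)
    exact ⟨Over.homMk g' (by
      show g' ≫ t ≫ p = X.hom
      rw [← Category.assoc, hg']
      exact Over.w g), Over.OverMorphism.ext hg'⟩

/-- A subobject cut out by a predicate stable under the group operations is a subgroup. -/
theorem exists_grpObj_of_pred {N G : Over S} [GrpObj G] (j : N ⟶ G) [Mono j]
    (Q : ∀ {X : Over S}, (X ⟶ G) → Prop) (hj : ∀ {X : Over S} (g : X ⟶ G), (∃ z, z ≫ j = g) ↔ Q g)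
    (h1 : Q (1 : 𝟙_ (Over S) ⟶ G)) (hm : ∀ {X : Over S} (a b : X ⟶ G), Q a → Q b → Q (a * b))
    (hi : ∀ {X : Over S} (a : X ⟶ G), Q a → Q a⁻¹) : ∃ _ : GrpObj N, IsMonHom j :=
  SubDesc.exists_grpObj_of_mono j ((hj _).2 (hm _ _ ((hj _).1 ⟨_, rfl⟩) ((hj _).1 ⟨_, rfl⟩))) ((hj _).2 h1)
    ((hj _).2 (hi _ ((hj _).1 ⟨𝟙 N, Category.id_comp j⟩)))

end Groth.Agent.WeilRes
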