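import Groth.Agent.WeilResLib.Krull
import Groth.Agent.DepthLib.GeomRk
import Groth.Agent.AlgSpLib.ReducedStalk

/-!
# Fibres of smooth morphisms with geometrically connected fibres

They are integral; consequently an open subscheme meeting every fibre is schematically dense after
any base change.
-/

set_option autoImplicit false

universe u

open CategoryTheory CategoryTheory.Limits AlgebraicGeometry TopologicalSpace
open scoped TensorProduct

namespace Groth.Agent.WeilRes

theorem irreducibleSpace_of_connectedSpace {T : Type u} [TopologicalSpace T] [ConnectedSpace T]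
    (h : ∀ x : T, ∃ W : Set T, IsOpen W ∧ x ∈ W ∧ IsPreirreducible W) : IrreducibleSpace T := by
  haveI : PreirreducibleSpace T := by
    refine ⟨fun A B hA hB ⟨a, _, ha⟩ ⟨b, _, hb⟩ => ?_⟩
    have hclopen : IsClopen (closure A) := ⟨isClosed_closure, isOpen_iff_forall_mem_open.2 fun x hx => by
      obtain ⟨W, hW, hxW, hWirr⟩ := h x
      refine ⟨W, fun y hy => mem_closure_iff.2 fun O hO hyO => ?_, hW, hxW⟩
      obtain ⟨a', ha'W, ha'⟩ := mem_closure_iff.1 hx W hW hxW
      obtain ⟨z, -, hzO, hzA⟩ := hWirr O A hO hA ⟨y, hy, hyO⟩ ⟨a', ha'W, ha'⟩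
      exact ⟨z, hzO, hzA⟩⟩
    have huniv : closure A = Set.univ := hclopen.eq_univ ⟨a, subset_closure ha⟩
    obtain ⟨z, hzB, hzA⟩ := mem_closure_iff.1 (huniv.ge (Set.mem_univ b)) B hB hb
    exact ⟨z, Set.mem_univ _, hzA, hzB⟩
  exact ⟨inferInstance⟩

theorem component_unique {X : Scheme.{u}} [∀ x : X, IsDomain (X.presheaf.stalk x)] {Z Z' : Set X} (hZ : Z ∈ irreducibleComponents X)
    (hZ' : Z' ∈ irreducibleComponents X) {x : X} (hx : x ∈ Z) (hx' : x ∈ Z') : Z = Z' := by
  have key : ∀ W ∈ irreducibleComponents X, x ∈ W →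
      W = closure {X.fromSpecStalk x (⟨⊥, Ideal.isPrime_bot⟩ : PrimeSpectrum (X.presheaf.stalk x))} := by
    intro W hW hxW
    obtain ⟨ξ, hξ⟩ := QuasiSober.sober hW.1 (isClosed_of_mem_irreducibleComponents W hW)
    have hsp : ξ ∈ Set.range (X.fromSpecStalk x) := by
      rw [Scheme.range_fromSpecStalk]
      exact hξ.specializes hxW
    obtain ⟨a, ha⟩ := hsp
    let z : Spec (X.presheaf.stalk x) := (⟨⊥, Ideal.isPrime_bot⟩ : PrimeSpectrum (X.presheaf.stalk x))
    have hza : z ⤳ a := (PrimeSpectrum.le_iff_specializes _ _).mp bot_le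
    have hsub : W ⊆ closure {X.fromSpecStalk x z} := by
      rw [← hξ, ← ha]
      exact closure_minimal (Set.singleton_subset_iff.mpr
        (hza.map (X.fromSpecStalk x).continuous).mem_closure) isClosed_closure
    exact (hW.eq_of_le isIrreducible_singleton.closure hsub)
  exact (key Z hZ hx).trans (key Z' hZ' hx').symm

theorem irreducibleSpace_of_isDomain_stalks {X : Scheme.{u}} [IsLocallyNoetherian X] [ConnectedSpace X]
    [∀ x : X, IsDomain (X.presheaf.stalk x)] : IrreducibleSpace X := by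
  refine irreducibleSpace_of_connectedSpace fun x => ?_
  obtain ⟨W, hW, hxW, -⟩ := exists_isAffineOpen_mem_and_subset (X := X) (x := x) (U := ⊤) trivial
  haveI : IsAffine W.toScheme := hW
  haveI : NoetherianSpace W.toScheme := by
    haveI : IsNoetherian W.toScheme := { }
    infer_instance
  haveI : ∀ y : W.toScheme, IsDomain (W.toScheme.presheaf.stalk y) := fun y =>
    (W.stalkIso y).commRingCatIsoToRingEquiv.toMulEquiv.isDomain _
  let y : W.toScheme := ⟨x, hxW⟩
  let Z := irreducibleComponent y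
  have hfin := NoetherianSpace.finite_irreducibleComponents (α := W.toScheme)
  have hopen : IsOpen Z := by
    have hc : Z = (⋃ V ∈ irreducibleComponents W.toScheme \ {Z}, V)ᶜ := by
      ext z
      simp only [Set.mem_compl_iff, Set.mem_iUnion, not_exists, Set.mem_sdiff, Set.mem_singleton_iff]
      refine ⟨fun hz V hV hzV => hV.2 (component_unique hV.1 (irreducibleComponent_mem_irreducibleComponents y) hzV hz),
        fun h => ?_⟩
      by_contra hz
      exact h (irreducibleComponent z) ⟨irreducibleComponent_mem_irreducibleComponents z,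
        fun he => hz (he ▸ mem_irreducibleComponent)⟩ mem_irreducibleComponent
    rw [hc]
    exact ((hfin.subset Set.sdiff_subset).isClosed_biUnion fun V hV =>
      isClosed_of_mem_irreducibleComponents V hV.1).isOpen_compl
  exact ⟨W.ι '' Z, W.ι.isOpenEmbedding.isOpenMap _ hopen, ⟨y, mem_irreducibleComponent, rfl⟩,
    isIrreducible_irreducibleComponent.2.image _ W.ι.continuous.continuousOn⟩

variable {X S : Scheme.{u}}

theorem irreducibleSpace_of_smooth_of_field {K : Type u} [Field K] (g : X ⟶ Spec (CommRingCat.of K)) [Smooth g]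
    [GeometricallyConnected g] : IrreducibleSpace X := by
  haveI := LocallyOfFiniteType.isLocallyNoetherian g
  haveI : ConnectedSpace X := GeometricallyConnected.connectedSpace_of_subsingleton g
  haveI : ∀ x : X, IsDomain (X.presheaf.stalk x) := fun x =>
    haveI : IsRegularLocalRing (X.presheaf.stalk x) :=
      (DepthLib.regular_of_smooth_and_conversely g x).1 (by rw [Scheme.Hom.smoothLocus_eq_top]; trivial)
    CommAlgDim.isDomain_of_isRegularLocalRing _
  exact irreducibleSpace_of_isDomain_stalks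

theorem isIrreducible_preimage_singleton (f : X ⟶ S) [Smooth f] [GeometricallyConnected f] (s : S) :
    IsIrreducible (f ⁻¹' {s}) := by
  let g : f.fiber s ⟶ Spec (CommRingCat.of (S.residueField s)) := f.fiberToSpecResidueField s
  haveI : Smooth g := MorphismProperty.pullback_snd _ _ inferInstance
  haveI : GeometricallyConnected g := inferInstanceAs (GeometricallyConnected (f.fiberToSpecResidueField s))
  haveI : IrreducibleSpace (f.fiber s) := irreducibleSpace_of_smooth_of_field g
  rw [← f.range_fiberι, ← Set.image_univ]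
  exact (IrreducibleSpace.isIrreducible_univ (X := f.fiber s)).image _ (f.fiberι s).continuous.continuousOn

/-- The fibres of an affine chart of a smooth morphism with geometrically connected fibres are domains (or zero). -/
theorem noZeroDivisors_fibre (f : X ⟶ S) [Smooth f] [GeometricallyConnected f] {R B : Type u} [CommRing R]
    [CommRing B] [Algebra R B] (jS : Spec (CommRingCat.of R) ⟶ S) [IsOpenImmersion jS]
    (jX : Spec (CommRingCat.of B) ⟶ X) [IsOpenImmersion jX]
    (hcomm : jX ≫ f = Spec.map (CommRingCat.ofHom (algebraMap R B)) ≫ jS) (K : Type u) [Field K] [Algebra R K]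
    [Algebra.Smooth R B] : NoZeroDivisors (K ⊗[R] B) := by
  let gK : Spec (CommRingCat.of K) ⟶ Spec (CommRingCat.of R) := Spec.map (CommRingCat.ofHom (algebraMap R K))
  let fB : Spec (CommRingCat.of B) ⟶ Spec (CommRingCat.of R) := Spec.map (CommRingCat.ofHom (algebraMap R B))
  haveI : Smooth (pullback.snd f (gK ≫ jS)) := MorphismProperty.pullback_snd _ _ inferInstance
  haveI := irreducibleSpace_of_smooth_of_field (pullback.snd f (gK ≫ jS))
  let m : pullback fB gK ⟶ pullback f (gK ≫ jS) := pullback.map fB gK f (gK ≫ jS) jX (𝟙 _) jS hcomm.symm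
    (by simp)
  haveI : IsOpenImmersion m := inferInstanceAs (IsOpenImmersion (pullback.map ..))
  let e : Spec (CommRingCat.of (K ⊗[R] B)) ⟶ pullback f (gK ≫ jS) :=
    (pullbackSpecIso R K B).inv ≫ (pullbackSymmetry _ _).hom ≫ m
  haveI : IsOpenImmersion e := inferInstanceAs (IsOpenImmersion (_ ≫ _ ≫ _))
  rcases subsingleton_or_nontrivial (K ⊗[R] B) with h | h
  · exact ⟨fun _ => Or.inl (Subsingleton.elim _ _)⟩
  haveI : Algebra.Smooth K (K ⊗[R] B) := inferInstance
  haveI : _root_.IsReduced (K ⊗[R] B) := by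
    haveI : Smooth (Spec.map (CommRingCat.ofHom (algebraMap K (K ⊗[R] B)))) :=
      (HasRingHomProperty.Spec_iff (P := @Smooth)).2 (RingHom.smooth_algebraMap.2 inferInstance)
    haveI := AlgSpLib.isReduced_of_smooth (Spec.map (CommRingCat.ofHom (algebraMap K (K ⊗[R] B))))
    exact (affine_isReduced_iff (CommRingCat.of (K ⊗[R] B))).1 inferInstance
  haveI : IrreducibleSpace (PrimeSpectrum (K ⊗[R] B)) := by
    have hne : (Set.range e).Nonempty := ⟨_, (Classical.arbitrary (PrimeSpectrum (K ⊗[R] B)) : _), rfl⟩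
    have h1 : IsIrreducible (Set.range e) := ⟨hne,
      (IrreducibleSpace.isIrreducible_univ _).2.open_subset e.isOpenEmbedding.isOpen_range (Set.subset_univ _)⟩
    haveI : PreirreducibleSpace (PrimeSpectrum (K ⊗[R] B)) :=
      ⟨(h1.2.preimage e.isOpenEmbedding).open_subset isOpen_univ (fun x _ => ⟨x, rfl⟩)⟩
    exact ⟨inferInstance⟩
  haveI : (nilradical (K ⊗[R] B)).IsPrime := PrimeSpectrum.irreducibleSpace_iff_isPrime_nilradical.1 inferInstance
  refine ⟨fun {a b} hab => ?_⟩
  have h0 := nilradical_eq_zero (K ⊗[R] B)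
  rcases Ideal.IsPrime.mem_or_mem ‹_› (show a * b ∈ nilradical (K ⊗[R] B) by rw [hab]; exact zero_mem _) with h | h
  · exact Or.inl (by rwa [h0] at h)
  · exact Or.inr (by rwa [h0] at h)

/-- An open meeting every fibre of a smooth morphism with geometrically connected fibres is schematically dense. -/
theorem isIso_of_open {Z : Scheme.{u}} (f : X ⟶ S) [Smooth f] [GeometricallyConnected f] (ι : Z ⟶ X)
    [IsClosedImmersion ι] (U : X.Opens) (hU : ∀ s : S, ∃ x ∈ U, f x = s)
    (hl : ∃ l : U.toScheme ⟶ Z, l ≫ ι = U.ι) : IsIso ι := by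
  obtain ⟨l, hl⟩ := hl
  suffices h : ∀ (V : S.Opens) (W : X.Opens) (hV : IsAffineOpen V) (hW : IsAffineOpen W) (hle : W ≤ f ⁻¹ᵁ V)
      (a : Γ(X, W)), ι.app W a = 0 → a = 0 by
    have hker : ι.ker = ⊥ := by
      refine Scheme.IdealSheafData.ext_of_iSup_eq_top (ι := {W : X.affineOpens // ∃ V : S.affineOpens, W.1 ≤ f ⁻¹ᵁ V.1})
        (fun W => W.1) ?_ fun W => ?_
      · refine eq_top_iff.2 fun x _ => ?_
        obtain ⟨V, hV, hxV, -⟩ := exists_isAffineOpen_mem_and_subset (X := S) (x := f x) (U := ⊤) trivial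
        obtain ⟨W, hW, hxW, hWV⟩ := exists_isAffineOpen_mem_and_subset (X := X) (x := x) (U := f ⁻¹ᵁ V) hxV
        exact Opens.mem_iSup.2 ⟨⟨⟨W, hW⟩, ⟨V, hV⟩, hWV⟩, hxW⟩
      · obtain ⟨⟨W, hW⟩, ⟨V, hV⟩, hle⟩ := W
        rw [Scheme.Hom.ker_apply]
        exact (RingHom.injective_iff_ker_eq_bot _).1 ((injective_iff_map_eq_zero _).2 (h V W hV hW hle)) |>.trans
          (by rfl)
    exact (IsClosedImmersion.isIso_iff_ker_eq_bot).2 hker
  intro V W hV hW hle a ha
  letI : Algebra Γ(S, V) Γ(X, W) := (f.appLE V W hle).hom.toAlgebra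
  haveI : Algebra.Smooth Γ(S, V) Γ(X, W) :=
    RingHom.smooth_algebraMap.1 (HasRingHomProperty.appLE @Smooth f inferInstance ⟨V, hV⟩ ⟨W, hW⟩ hle)
  have hkill : ∀ u : Γ(X, W), X.basicOpen u ≤ U → ∃ N : ℕ, u ^ N * a = 0 := by
    intro u hu
    haveI := hW.isLocalization_basicOpen u
    have hle' : X.basicOpen u ≤ W := X.basicOpen_le u
    have hfac : (X.homOfLE hu ≫ l) ≫ ι = (X.basicOpen u).ι := by
      rw [Category.assoc, hl, Scheme.homOfLE_ι]
    have h0 : X.presheaf.map (homOfLE hle').op a = 0 := by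
      have h1 : ((X.homOfLE hu ≫ l) ≫ ι).appLE W ⊤ (fun x _ => by
          rw [hfac]; exact hle' x.2) a = 0 := by
        rw [Scheme.Hom.comp_appLE, CommRingCat.comp_apply, ha, map_zero]
      have h1' : (X.basicOpen u).ι.appLE W ⊤ (fun x _ => hle' x.2) a = 0 := by
        simpa only [hfac] using h1
      rw [Scheme.Opens.ι_appLE] at h1'
      refine (ConcreteCategory.bijective_of_isIso ((X.basicOpen u).topIso.inv)).1 ?_
      rw [map_zero, ← h1', Scheme.Opens.topIso_inv]
      refine (CommRingCat.comp_apply _ _ _).symm.trans ?_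
      exact congrArg (fun m : Γ(X, W) ⟶ _ => m a) ((X.presheaf.map_comp _ _).symm.trans rfl)
    obtain ⟨⟨_, ⟨N, rfl⟩⟩, hN⟩ := (IsLocalization.map_eq_zero_iff (Submonoid.powers u) Γ(X, X.basicOpen u) a).1 h0
    exact ⟨N, hN⟩
  let Ann : Ideal Γ(X, W) := LinearMap.ker (LinearMap.mulRight Γ(X, W) a)
  suffices h : Ann = ⊤ by
    have := LinearMap.mem_ker.1 ((Ideal.eq_top_iff_one _).1 h)
    rwa [LinearMap.mulRight_apply, one_mul] at this
  by_contra hne
  obtain ⟨q, hq, hqle⟩ := Ideal.exists_le_maximal _ hne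
  let w : X := hW.fromSpec ⟨q, hq.isPrime⟩
  have hwW : w ∈ W := hW.range_fromSpec.le ⟨_, rfl⟩
  obtain ⟨x, hxU, hx⟩ := hU (f w)
  obtain ⟨z, hz, hzU, hzW⟩ := (isIrreducible_preimage_singleton f (f w)).2 U W U.2 W.2 ⟨x, hx, hxU⟩ ⟨w, rfl, hwW⟩
  obtain ⟨zp, rfl⟩ : z ∈ Set.range hW.fromSpec := hW.range_fromSpec.ge hzW
  let zq : PrimeSpectrum Γ(X, W) := zp
  obtain ⟨_, ⟨u, rfl⟩, hzu, hu⟩ := PrimeSpectrum.isTopologicalBasis_basic_opens.exists_subset_of_mem_open
    (show zq ∈ hW.fromSpec ⁻¹' (U : Set X) from hzU) (U.2.preimage hW.fromSpec.continuous)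
  have huU : X.basicOpen u ≤ U := fun y hy => by
    obtain ⟨p, rfl⟩ : y ∈ Set.range hW.fromSpec := hW.range_fromSpec.ge (X.basicOpen_le u hy)
    have : p ∈ hW.fromSpec ⁻¹ᵁ X.basicOpen u := hy
    rw [hW.fromSpec_preimage_basicOpen] at this
    exact hu this
  obtain ⟨N, hN⟩ := hkill u huU
  have hcomm := IsAffineOpen.SpecMap_appLE_fromSpec f hV hW hle
  have hunder : zq.asIdeal.under Γ(S, V) = q.under Γ(S, V) := by
    have h1 : hV.fromSpec (Spec.map (f.appLE V W hle) zp) =
        hV.fromSpec (Spec.map (f.appLE V W hle) ⟨q, hq.isPrime⟩) := by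
      rw [← Scheme.Hom.comp_apply, ← Scheme.Hom.comp_apply, hcomm, Scheme.Hom.comp_apply, Scheme.Hom.comp_apply]
      exact hz
    exact congrArg PrimeSpectrum.asIdeal (hV.fromSpec.isOpenEmbedding.injective h1)
  haveI := noZeroDivisors_fibre f (R := Γ(S, V)) (B := Γ(X, W)) hV.fromSpec hW.fromSpec hcomm.symm
    (q.under Γ(S, V)).ResidueField
  have hu0 : (1 : (q.under Γ(S, V)).ResidueField) ⊗ₜ[Γ(S, V)] u ≠ 0 := by
    intro h0
    let ψ : (q.under Γ(S, V)).ResidueField →+* zq.asIdeal.ResidueField :=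
      Ideal.ResidueField.map _ _ (algebraMap Γ(S, V) Γ(X, W)) hunder.symm
    let ψa : (q.under Γ(S, V)).ResidueField →ₐ[Γ(S, V)] zq.asIdeal.ResidueField :=
      { toRingHom := ψ
        commutes' := fun r => by
          rw [IsScalarTower.algebraMap_apply Γ(S, V) Γ(X, W) zq.asIdeal.ResidueField]
          exact Ideal.ResidueField.map_algebraMap _ _ _ _ r }
    have h2 := congrArg (Algebra.TensorProduct.lift ψa (IsScalarTower.toAlgHom Γ(S, V) Γ(X, W) zq.asIdeal.ResidueField)
      fun _ _ => Commute.all _ _) h0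
    rw [map_zero, Algebra.TensorProduct.lift_tmul, map_one, one_mul] at h2
    exact hzu (Ideal.algebraMap_residueField_eq_zero.1 h2)
  obtain ⟨t, ht, hta⟩ := local_zero (u ^ N) a hN q fun v hv => by
    have hpow : (1 : (q.under Γ(S, V)).ResidueField) ⊗ₜ[Γ(S, V)] (u ^ N) =
        ((1 : (q.under Γ(S, V)).ResidueField) ⊗ₜ[Γ(S, V)] u) ^ N := by
      rw [Algebra.TensorProduct.tmul_pow, one_pow]
    rw [hpow] at hv
    exact (mul_eq_zero.1 hv).resolve_left (pow_ne_zero _ hu0)
  exact ht (hqle hta)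

end Groth.Agent.WeilRes
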