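import Groth.Agent.GrpFieldLib.Comps
import Mathlib.CategoryTheory.Monoidal.Cartesian.Over

/-!
# Equalizers into a separated scheme
-/

set_option autoImplicit false
set_option backward.isDefEq.respectTransparency false

noncomputable section

universe u

open CategoryTheory CategoryTheory.Limits MonoidalCategory CartesianMonoidalCategory AlgebraicGeometry

namespace Groth.Agent.WeilRes

/-- The equalizer of two morphisms into a separated scheme is a closed subscheme. -/
theorem exists_eqz {S : Scheme.{u}} {X Y : Over S} [IsSeparated Y.hom] (a b : X ⟶ Y) :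
    ∃ (T : Over S) (t : T ⟶ X), IsClosedImmersion t.left ∧
      ∀ (S' : Over S) (g : S' ⟶ X), (∃ z : S' ⟶ T, z ≫ t = g) ↔ g ≫ a = g ≫ b := by
  let Δ : Y ⟶ Y ⊗ Y := lift (𝟙 Y) (𝟙 Y)
  haveI : IsClosedImmersion Δ.left := inferInstanceAs (IsClosedImmersion (pullback.diagonal Y.hom))
  let j := pullback.fst (lift a b).left Δ.left
  refine ⟨Over.mk (j ≫ X.hom), Over.homMk j rfl, MorphismProperty.pullback_fst _ _ ‹_›, fun S' g => ⟨?_, fun h => ?_⟩⟩
  · rintro ⟨z, rfl⟩
    have h1 : (z ≫ Over.homMk j rfl) ≫ lift a b = Over.homMk (z.left ≫ pullback.snd (lift a b).left Δ.left) (by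
        have : pullback.snd (lift a b).left Δ.left ≫ Y.hom = j ≫ X.hom := by
          conv_lhs => rw [← Over.w Δ]
          rw [← Category.assoc, ← pullback.condition, Category.assoc, Over.w (lift a b)]
        rw [Category.assoc, this]; exact Over.w z) ≫ Δ :=
      Over.OverMorphism.ext (by simp only [Over.comp_left, Over.homMk_left, j, Category.assoc, pullback.condition])
    have e1 := congrArg (· ≫ fst Y Y) h1
    have e2 := congrArg (· ≫ snd Y Y) h1
    simp only [Δ, Category.assoc, lift_fst, lift_snd, Category.comp_id] at e1 e2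
    simpa only [Category.assoc] using e1.trans e2.symm
  · have h1 : g ≫ lift a b = (g ≫ a) ≫ Δ := by
      simp only [Δ, comp_lift, Category.comp_id, h]
    refine ⟨Over.homMk (pullback.lift g.left (g ≫ a).left (congrArg CommaMorphism.left h1)) ?_,
      Over.OverMorphism.ext (pullback.lift_fst _ _ _)⟩
    show _ ≫ j ≫ X.hom = _
    rw [pullback.lift_fst_assoc, Over.w]

end Groth.Agent.WeilRes
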