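import Groth.Agent.UnrStalkLib.DualNumbers
import Groth.Agent.ApproxLib.CommonNbhd
import Groth.Agent.AbSchLib.MulN
import Groth.Agent.NeutralSchLib.Fibre

/-!
# Power maps of group schemes over a field are étale at the unit
-/

set_option autoImplicit false
set_option linter.style.haveILetI false

universe u

open CategoryTheory CategoryTheory.Limits AlgebraicGeometry IsLocalRing MonoidalCategory
  CartesianMonoidalCategory TopologicalSpace
open scoped MonObj DualNumber TensorProduct

noncomputable section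

namespace WeilResLib

section Stalk

variable {k : Type u} [Field k] {X : Scheme.{u}}

theorem surjective_stalkClosedPointTo_id (g : Spec (CommRingCat.of k) ⟶ Spec (CommRingCat.of k)) (hg : g = 𝟙 _) :
    Function.Surjective (Scheme.stalkClosedPointTo g).hom := by
  subst hg
  haveI : IsIso (Scheme.stalkClosedPointTo (𝟙 (Spec (CommRingCat.of k)))) := by
    rw [Scheme.stalkClosedPointTo]; infer_instance
  exact (ConcreteCategory.bijective_of_isIso (Scheme.stalkClosedPointTo (𝟙 (Spec (CommRingCat.of k))))).2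

theorem hat_equiv_of_eq [IsLocallyNoetherian X] {x y : X} (h : y = x) :
    Nonempty (AdicCompletion (maximalIdeal (X.presheaf.stalk y)) (X.presheaf.stalk y) ≃+*
      AdicCompletion (maximalIdeal (X.presheaf.stalk x)) (X.presheaf.stalk x)) := by
  subst h
  exact ⟨RingEquiv.refl _⟩

variable (p : X ⟶ Spec (CommRingCat.of k)) [LocallyOfFiniteType p] (f : X ⟶ X)
  (σ : Spec (CommRingCat.of k) ⟶ X)

include p in
theorem formallyUnramified_stalk_of_tangent (hf : f ≫ p = p) (hσ : σ ≫ p = 𝟙 _) (hfix : σ ≫ f = σ)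
    (H : ∀ v : Spec (CommRingCat.of k[ε]) ⟶ X, v ≫ p = Spec.map (CommRingCat.ofHom (algebraMap k k[ε])) →
      Spec.map (CommRingCat.ofHom (TrivSqZeroExt.fstHom k k k).toRingHom) ≫ v = σ →
      v ≫ f = Spec.map (CommRingCat.ofHom (algebraMap k k[ε])) ≫ σ →
      v = Spec.map (CommRingCat.ofHom (algebraMap k k[ε])) ≫ σ) :
    (f.stalkMap (σ (closedPoint k))).hom.FormallyUnramified := by
  haveI : LocallyOfFiniteType (f ≫ p) := by rw [hf]; infer_instance
  haveI : LocallyOfFiniteType f := locallyOfFiniteType_of_comp f p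
  let := (f.stalkMap (σ (closedPoint k))).hom.toAlgebra
  let R := X.presheaf.stalk (f (σ (closedPoint k)))
  let S := X.presheaf.stalk (σ (closedPoint k))
  let κ := ResidueField S
  haveI : Algebra.EssFiniteType R S := by
    rw [← RingHom.essFiniteType_algebraMap, RingHom.algebraMap_toAlgebra]
    exact LocallyOfFiniteType.stalkMap f _
  show Algebra.FormallyUnramified R S
  let ρ : S →+* k := (Scheme.stalkClosedPointTo σ).hom
  have hρ : Spec.map (CommRingCat.ofHom ρ) ≫ X.fromSpecStalk _ = σ :=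
    Scheme.Spec_stalkClosedPointTo_fromSpecStalk σ
  haveI : IsLocalHom ρ := Scheme.isLocalHom_stalkClosedPointTo σ
  let e : κ →+* k := IsLocalRing.ResidueField.lift ρ
  refine (Algebra.formallyUnramified_iff (R := R) (A := S)).mpr ?_
  rw [← IsLocalRing.subsingleton_tensorProduct (R := S) (M := Ω[S⁄R])]
  by_contra hne
  rw [not_subsingleton_iff_nontrivial] at hne
  obtain ⟨v, hv⟩ := exists_ne (0 : κ ⊗[S] Ω[S⁄R])
  obtain ⟨L, hL⟩ : ∃ L : Module.Dual κ (κ ⊗[S] Ω[S⁄R]), L v ≠ 0 := by
    by_contra hcon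
    push Not at hcon
    exact hv ((Module.forall_dual_apply_eq_zero_iff κ v).mp hcon)
  let δ : S → k := fun s => e (L ((1 : κ) ⊗ₜ KaehlerDifferential.D R S s))
  have hadd : ∀ s t, δ (s + t) = δ s + δ t := fun s t => by simp [δ, TensorProduct.tmul_add]
  have hsmul : ∀ (s : S) (w : Ω[S⁄R]), e (L ((1 : κ) ⊗ₜ (s • w))) = ρ s * e (L ((1 : κ) ⊗ₜ w)) := fun s w => by
    rw [TensorProduct.tmul_smul, ← algebraMap_smul κ s ((1 : κ) ⊗ₜ[S] w), map_smul, smul_eq_mul, map_mul]
    rfl
  have hmul : ∀ s t, δ (s * t) = ρ s * δ t + ρ t * δ s := fun s t => by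
    show e (L ((1 : κ) ⊗ₜ KaehlerDifferential.D R S (s * t))) = _
    rw [Derivation.leibniz, TensorProduct.tmul_add, map_add, map_add, hsmul, hsmul]
  have halg : ∀ r : R, δ (algebraMap R S r) = 0 := fun r => by simp [δ]
  let a₁ : S →+* k[ε] := (TrivSqZeroExt.inlHom k k).comp ρ
  let a₂ : S →+* k[ε] :=
    { toFun := fun s => TrivSqZeroExt.inl (ρ s) + TrivSqZeroExt.inr (δ s)
      map_zero' := by ext <;> simp [δ]
      map_one' := by ext <;> simp [δ]
      map_add' := fun a b => by ext <;> simp [hadd]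
      map_mul' := fun a b => by ext <;> simp [hmul] <;> ring }
  let c := Spec.map (CommRingCat.ofHom (algebraMap k k[ε]))
  let v₂ := Spec.map (CommRingCat.ofHom a₂) ≫ X.fromSpecStalk (σ (closedPoint k))
  have hv1 : Spec.map (CommRingCat.ofHom a₁) ≫ X.fromSpecStalk (σ (closedPoint k)) = c ≫ σ := by
    conv_rhs => rw [← hρ]
    rw [← Category.assoc, ← Spec.map_comp]
    rfl
  have hb : (Spec.map (CommRingCat.ofHom a₁) ≫ X.fromSpecStalk (σ (closedPoint k))) ≫ f = v₂ ≫ f :=
    (UnrStalkLib.comp_stalkMap_eq_iff f _ _).mpr (CommRingCat.hom_ext (RingHom.ext fun r =>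
      show TrivSqZeroExt.inl (ρ (algebraMap R S r)) =
        (TrivSqZeroExt.inl (ρ (algebraMap R S r)) + TrivSqZeroExt.inr (δ (algebraMap R S r)) : k[ε]) by
        rw [halg]; simp))
  have hvf : v₂ ≫ f = c ≫ σ := by rw [← hb, hv1, Category.assoc, hfix]
  have hvp : v₂ ≫ p = c := by
    rw [← hf, ← Category.assoc, hvf, Category.assoc, hσ, Category.comp_id]
  have hfst : Spec.map (CommRingCat.ofHom (TrivSqZeroExt.fstHom k k k).toRingHom) ≫ v₂ = σ := by
    conv_rhs => rw [← hρ]
    rw [← Category.assoc, ← Spec.map_comp]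
    congr 2
    exact CommRingCat.hom_ext (RingHom.ext fun s =>
      show (TrivSqZeroExt.inl (ρ s) + TrivSqZeroExt.inr (δ s) : k[ε]).fst = ρ s by simp)
  have h12 := (UnrStalkLib.stalk_eq_of_lifts _ _).mp ((H v₂ hvp hfst hvf).trans hv1.symm)
  have hδ : ∀ s, δ s = 0 := fun s => by
    have h0 : (TrivSqZeroExt.inl (ρ s) + TrivSqZeroExt.inr (δ s) : k[ε]).snd =
        (TrivSqZeroExt.inl (ρ s) : k[ε]).snd := congr(($h12 s).snd)
    simpa using h0
  refine hL (e.injective (Eq.trans ?_ (map_zero e).symm))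
  suffices h : ∀ w : Ω[S⁄R], e (L ((1 : κ) ⊗ₜ w)) = 0 by
    clear hv hL
    induction v using TensorProduct.induction_on with
    | zero => simp
    | tmul c w =>
      rw [show c ⊗ₜ[S] w = c • ((1 : κ) ⊗ₜ[S] w) by rw [TensorProduct.smul_tmul', smul_eq_mul, mul_one],
        map_smul, smul_eq_mul, map_mul, h, mul_zero]
    | add a b ha hb => rw [map_add, map_add, ha, hb, add_zero]
  intro w
  have hw : w ∈ Submodule.span S (Set.range (KaehlerDifferential.D R S)) := by
    rw [KaehlerDifferential.span_range_derivation]; trivial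
  induction hw using Submodule.span_induction with
  | mem y hy => obtain ⟨s, rfl⟩ := hy; exact hδ s
  | zero => simp
  | add y z _ _ hy hz => rw [TensorProduct.tmul_add, map_add, map_add, hy, hz, add_zero]
  | smul a y _ hy => rw [hsmul, hy, mul_zero]

/-- An endomorphism fixing a rational point and injective on its tangent space is étale near it. -/
theorem exists_open_etale_of_tangent (hf : f ≫ p = p) (hσ : σ ≫ p = 𝟙 _) (hfix : σ ≫ f = σ)
    (H : ∀ v : Spec (CommRingCat.of k[ε]) ⟶ X, v ≫ p = Spec.map (CommRingCat.ofHom (algebraMap k k[ε])) →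
      Spec.map (CommRingCat.ofHom (TrivSqZeroExt.fstHom k k k).toRingHom) ≫ v = σ →
      v ≫ f = Spec.map (CommRingCat.ofHom (algebraMap k k[ε])) ≫ σ →
      v = Spec.map (CommRingCat.ofHom (algebraMap k k[ε])) ≫ σ) :
    ∃ U : X.Opens, σ (closedPoint k) ∈ U ∧ Etale (U.ι ≫ f) := by
  haveI : LocallyOfFiniteType (f ≫ p) := by rw [hf]; infer_instance
  haveI : LocallyOfFiniteType f := locallyOfFiniteType_of_comp f p
  haveI : IsLocallyNoetherian X := LocallyOfFiniteType.isLocallyNoetherian p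
  have hun := formallyUnramified_stalk_of_tangent p f σ hf hσ hfix H
  let x := σ (closedPoint k)
  let := (f.stalkMap x).hom.toAlgebra
  let R := X.presheaf.stalk (f x)
  let S := X.presheaf.stalk x
  haveI : Algebra.EssFiniteType R S := by
    rw [← RingHom.essFiniteType_algebraMap, RingHom.algebraMap_toAlgebra]
    exact LocallyOfFiniteType.stalkMap f _
  haveI : Algebra.FormallyUnramified R S := hun
  haveI : IsLocalHom (algebraMap R S) := inferInstanceAs (IsLocalHom (f.stalkMap x).hom)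
  have hm : (maximalIdeal R).map (algebraMap R S) = maximalIdeal S := Algebra.FormallyUnramified.map_maximalIdeal
  have hres : ∀ z : S, ∃ b : R, z - algebraMap R S b ∈ maximalIdeal S := fun z => by
    let ρ : S →+* k := (Scheme.stalkClosedPointTo σ).hom
    haveI : IsLocalHom ρ := Scheme.isLocalHom_stalkClosedPointTo σ
    obtain ⟨w, hw⟩ := surjective_stalkClosedPointTo_id ((σ ≫ f) ≫ p) (by rw [hfix, hσ]) (ρ z)
    rw [Scheme.stalkClosedPointTo_comp, Scheme.stalkClosedPointTo_comp] at hw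
    refine ⟨(p.stalkMap (f x)).hom w, (mem_maximalIdeal _).mpr fun hu => ?_⟩
    have h0 : ρ (z - algebraMap R S ((p.stalkMap (f x)).hom w)) = 0 := by
      rw [map_sub, sub_eq_zero]; exact hw.symm
    exact (h0 ▸ hu.map ρ).ne_zero rfl
  obtain ⟨eqv⟩ := hat_equiv_of_eq (X := X) (x := x) (y := f x) (by rw [← Scheme.Hom.comp_apply, hfix])
  have hflat : (f.stalkMap x).hom.Flat := RingHom.flat_algebraMap_iff.mpr (ApproxLib.flat_of_cpl_equiv hm hres eqv)
  obtain ⟨U', j, hj, u', hu', het⟩ := ApproxLib.exists_open_etale f x hflat hm hres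
  refine ⟨j.opensRange, ⟨u', hu'⟩, ?_⟩
  rw [← Scheme.Hom.isoOpensRange_inv_comp j, Category.assoc]
  infer_instance

end Stalk

section Power

theorem exists_open_etale_pow {k : Type u} [Field k] (G : Over (Spec (CommRingCat.of k))) [GrpObj G]
    [LocallyOfFiniteType G.hom] (n : ℕ) (hn : (n : k) ≠ 0) :
    ∃ U : G.left.Opens, (η[G] : 𝟙_ (Over (Spec (CommRingCat.of k))) ⟶ G).left (closedPoint k) ∈ U ∧
      Etale (U.ι ≫ ((𝟙 G : G ⟶ G) ^ n).left) := by
  let σ : Spec (CommRingCat.of k) ⟶ G.left := (η[G] : 𝟙_ (Over (Spec (CommRingCat.of k))) ⟶ G).left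
  have hσ : σ ≫ G.hom = 𝟙 _ := Over.w η[G]
  have hfix : σ ≫ ((𝟙 G : G ⟶ G) ^ n).left = σ := by
    show (η[G] : 𝟙_ (Over (Spec (CommRingCat.of k))) ⟶ G).left ≫ _ = _
    rw [← Over.comp_left, MonObj.comp_pow, Category.comp_id, MonObj.one_eq_one, one_pow]
    rfl
  refine exists_open_etale_of_tangent G.hom ((𝟙 G : G ⟶ G) ^ n).left σ (Over.w _) hσ hfix
    fun v hvp hv0 hvn => ?_
  let φ : CommRingCat.of k[ε] ⟶ CommRingCat.of k := CommRingCat.ofHom (TrivSqZeroExt.fstHom k k k).toRingHom
  let st := Spec.map (CommRingCat.ofHom (algebraMap k k[ε]))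
  let d : Over.mk st ⟶ G := Over.homMk v hvp
  have hone : (1 : Over.mk st ⟶ G).left = st ≫ σ := by
    rw [show (1 : Over.mk st ⟶ G) = (Over.homMk st (Category.comp_id _) : Over.mk st ⟶ 𝟙_ _) ≫ η[G] from
      (MonObj.comp_one _).symm.trans (by rw [MonObj.one_eq_one])]
    rfl
  have hsq : RingHom.ker φ.hom ^ 2 = ⊥ := by
    rw [pow_two, eq_bot_iff, Ideal.mul_le]
    intro a ha b hb
    have ha' : a.fst = 0 := ha
    have hb' : b.fst = 0 := hb
    rw [Ideal.mem_bot]
    ext <;> simp [ha', hb']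
  have hd : Spec.map φ ≫ d.left = Spec.map φ ≫ (1 : Over.mk st ⟶ G).left := by
    rw [hone]
    show Spec.map φ ≫ v = _
    rw [← Category.assoc, ← Spec.map_comp]
    refine hv0.trans ?_
    have : CommRingCat.ofHom (algebraMap k k[ε]) ≫ φ = 𝟙 _ := CommRingCat.hom_ext (RingHom.ext fun a => rfl)
    rw [this, Spec.map_id, Category.id_comp]
  have hdn : d ^ ((n : ℤ)) = 1 := by
    rw [zpow_natCast]
    have : d ≫ ((𝟙 G : G ⟶ G) ^ n) = 1 := by
      ext1
      rw [hone]
      exact hvn
    rwa [MonObj.comp_pow, Category.comp_id] at this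
  have h1 := AbSchLib.eq_one_of_zpow_eq_one φ (fun a => ⟨TrivSqZeroExt.inl a, rfl⟩) hsq st d hd (n : ℤ)
    (by rw [Int.cast_natCast, ← map_natCast (algebraMap k k[ε])]; exact (isUnit_iff_ne_zero.2 hn).map _) hdn
  exact (congrArg Over.Hom.left h1).trans hone

end Power

end WeilResLib

namespace WeilResLib

open Groth.Agent

/-- A homomorphism of groups over an algebraically closed field which is flat at one point is flat. -/
theorem flat_of_flatAt {K : Type u} [Field K] [IsAlgClosed K] (X Y : Over (Spec (CommRingCat.of K)))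
    [GrpObj X] [GrpObj Y] [LocallyOfFiniteType X.hom] [LocallyOfFiniteType Y.hom] (f : X ⟶ Y) [IsMonHom f]
    (x₁ : X.left) (hx₁ : FlatLib.FlatAt f.left x₁) : Flat f.left := by
  haveI : LocallyOfFiniteType (f.left ≫ Y.hom) := by rw [Over.w]; infer_instance
  haveI : LocallyOfFiniteType f.left := locallyOfFiniteType_of_comp f.left Y.hom
  haveI : IsLocallyNoetherian Y.left := LocallyOfFiniteType.isLocallyNoetherian Y.hom
  haveI : LocallyOfFinitePresentation f.left := inferInstance
  haveI : JacobsonSpace X.left := LocallyOfFiniteType.jacobsonSpace X.hom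
  let O : Set X.left := {x | (f.left.stalkMap x).hom.Flat}
  have hO : IsOpen O := FlatLib.isOpen_setOf_flat_stalkMap f.left
  have hx₁O : x₁ ∈ O := hx₁
  obtain ⟨x₀, hx₀, hx₀c⟩ := nonempty_inter_closedPoints ⟨x₁, hx₁O⟩ hO.isLocallyClosed
  have hall : ∀ x : X.left, IsClosed ({x} : Set X.left) → x ∈ O := by
    intro x hxc
    let a₀ : 𝟙_ (Over (Spec (CommRingCat.of K))) ⟶ X :=
      Over.homMk _ ((pointEquivClosedPoint X.hom).symm ⟨x₀, hx₀c⟩).2
    let a₁ : 𝟙_ (Over (Spec (CommRingCat.of K))) ⟶ X :=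
      Over.homMk _ ((pointEquivClosedPoint X.hom).symm ⟨x, hxc⟩).2
    let a := a₀⁻¹ * a₁
    let R := lift (𝟙 X) (toUnit X ≫ a) ≫ μ[X]
    haveI : IsIso R := inferInstanceAs (IsIso (GrpObj.mulRight a).hom)
    have hR : a₀ ≫ R = a₁ := by
      simp only [R, comp_lift_assoc, Category.comp_id]
      rw [← Category.assoc a₀, toUnit_unique (a₀ ≫ toUnit X) (𝟙 _), Category.id_comp, ← Hom.mul_def]
      simp [a]
    let R' := lift (𝟙 Y) (toUnit Y ≫ a ≫ f) ≫ μ[Y]
    haveI : IsIso R' := inferInstanceAs (IsIso (GrpObj.mulRight (a ≫ f)).hom)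
    have hcomm : R ≫ f = f ≫ R' := by
      simp only [R, R', Category.assoc, IsMonHom.mul_hom, comp_lift_assoc]
      rw [← Category.assoc (lift _ _), lift_map]
      congr 2
      · simp only [← Category.assoc]
        congr 2
        exact toUnit_unique _ _
    haveI : IsIso R.left := inferInstanceAs (IsIso ((Over.forget _).map R))
    haveI : IsIso R'.left := inferInstanceAs (IsIso ((Over.forget _).map R'))
    have h1 : FlatLib.FlatAt (f.left ≫ R'.left) x₀ := FlatLib.flatAt_comp hx₀ (FlatLib.flatAt_of_flat R'.left _)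
    rw [FlatLib.flatAt_congr (show f.left ≫ R'.left = R.left ≫ f.left from (congrArg Over.Hom.left hcomm).symm)] at h1
    have h2 := FlatLib.flatAt_of_comp (FlatLib.flatAt_of_flat R.left x₀) h1
    have hx : R.left.base x₀ = x := by
      have := congrArg (fun m : (𝟙_ (Over (Spec (CommRingCat.of K)))).left ⟶ X.left =>
        m.base (IsLocalRing.closedPoint K)) (congrArg Over.Hom.left hR)
      simpa [a₀, a₁] using this
    rw [hx] at h2
    exact h2
  rw [Flat.iff_flat_stalkMap]
  intro x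
  by_contra hne
  obtain ⟨z, hz, hzc⟩ := nonempty_inter_closedPoints (Z := Oᶜ) ⟨x, hne⟩ hO.isClosed_compl.isLocallyClosed
  exact hz (hall z hzc)

/-- The `n`-th power of a commutative group of finite type over a field is étale for `n` invertible. -/
theorem etale_pow {k : Type u} [Field k] (G : Over (Spec (CommRingCat.of k))) [GrpObj G] [IsCommMonObj G]
    [LocallyOfFiniteType G.hom] (n : ℕ) (hn : (n : k) ≠ 0) : Etale ((𝟙 G : G ⟶ G) ^ n).left := by
  let f := ((𝟙 G : G ⟶ G) ^ n).left
  haveI : FormallyUnramified f := by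
    have h := AbSchLib.formallyUnramified_zpow G (n : ℤ) (by
      rw [Int.cast_natCast]
      have := (isUnit_iff_ne_zero.2 hn).map (Scheme.ΓSpecIso (CommRingCat.of k)).inv.hom
      rwa [map_natCast] at this)
    rwa [zpow_natCast] at h
  obtain ⟨U, hU, hUet⟩ := exists_open_etale_pow G n hn
  haveI : LocallyOfFiniteType (f ≫ G.hom) := by rw [Over.w]; infer_instance
  haveI : LocallyOfFiniteType f := locallyOfFiniteType_of_comp f G.hom
  haveI : IsLocallyNoetherian G.left := LocallyOfFiniteType.isLocallyNoetherian G.hom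
  haveI : LocallyOfFinitePresentation f := inferInstance
  haveI : Flat f := by
    refine AbSchLib.flat_of_geometric_fibres ((𝟙 G : G ⟶ G) ^ n) fun K _ _ ξ => ?_
    letI : GrpObj ((Over.pullback ξ).obj G) := Functor.grpObjObj
    haveI : IsMonHom ((𝟙 G : G ⟶ G) ^ n) := by
      have h := AbSchLib.isMonHom_zpow G (n : ℤ)
      rwa [zpow_natCast] at h
    haveI := AbSchLib.isMonHom_pullback_map ξ ((𝟙 G : G ⟶ G) ^ n)
    let Gk := (Over.pullback ξ).obj G
    haveI : LocallyOfFiniteType Gk.hom := inferInstanceAs (LocallyOfFiniteType (pullback.snd G.hom ξ))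
    let f' : Gk.left ⟶ Gk.left := ((Over.pullback ξ).map ((𝟙 G : G ⟶ G) ^ n)).left
    let π : Gk.left ⟶ G.left := pullback.fst G.hom ξ
    have sq : IsPullback π f' f π := by
      refine IsPullback.of_bot ?_ (pullback.lift_fst _ _ _).symm (IsPullback.of_hasPullback G.hom ξ)
      rw [Over.w ((𝟙 G : G ⟶ G) ^ n), show f' ≫ pullback.snd G.hom ξ = pullback.snd G.hom ξ from
        pullback.lift_snd _ _ _]
      exact IsPullback.of_hasPullback G.hom ξ
    have sq2 := (isPullback_morphismRestrict π U).paste_vert sq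
    haveI : Flat ((π ⁻¹ᵁ U).ι ≫ f') := MorphismProperty.of_isPullback sq2 (inferInstance : Flat (U.ι ≫ f))
    let e' := (η[Gk] : 𝟙_ (Over (Spec (CommRingCat.of K))) ⟶ Gk).left (closedPoint K)
    have he' : e' ∈ π ⁻¹ᵁ U := by
      show π e' ∈ U
      have h := NeutralSch.bc_unit_fst G ξ
      have h2 : π e' = (η[G] : 𝟙_ (Over (Spec (CommRingCat.of k))) ⟶ G).left (ξ (closedPoint K)) := by
        rw [← Scheme.Hom.comp_apply, ← Scheme.Hom.comp_apply]
        exact congrArg (fun m : Spec (CommRingCat.of K) ⟶ G.left => m (closedPoint K)) h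
      rw [h2, Subsingleton.elim (ξ (closedPoint K)) (closedPoint k)]
      exact hU
    exact flat_of_flatAt Gk Gk _ ((π ⁻¹ᵁ U).ι ⟨e', he'⟩)
      (FlatLib.flatAt_of_comp (FlatLib.flatAt_of_flat (π ⁻¹ᵁ U).ι ⟨e', he'⟩) (FlatLib.flatAt_of_flat _ _))
  exact Etale.of_formallyUnramified_of_flat _

end WeilResLib
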