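import Groth.Agent.WeilResLib.Closed
import Groth.Prelude.Def_SGA3x
import Mathlib.RingTheory.Flat.Basic

/-!
# Weil restriction of a closed subscheme along an essentially free morphism
-/

set_option autoImplicit false
set_option backward.isDefEq.respectTransparency false

noncomputable section

universe u

open CategoryTheory CategoryTheory.Limits AlgebraicGeometry
open scoped TensorProduct

namespace Groth.Agent.WeilRes

/-- The vanishing of `1 ⊗ x` is read off on coordinates in a free module containing the module as a summand. -/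
theorem one_tmul_eq_zero_iff_coord {R M : Type u} [CommRing R] [AddCommGroup M] [Module R M]
    (i : M →ₗ[R] M →₀ R) (π : (M →₀ R) →ₗ[R] M) (hπ : π.comp i = LinearMap.id)
    (R' : Type u) [CommRing R'] [Algebra R R'] (x : M) :
    (1 : R') ⊗ₜ[R] x = 0 ↔ ∀ l, algebraMap R R' (i x l) = 0 := by
  classical
  let e : R' ⊗[R] (M →₀ R) ≃ₗ[R] (M →₀ R') := TensorProduct.finsuppScalarRight R R R' M
  have he : ∀ z l, e ((1 : R') ⊗ₜ[R] z) l = algebraMap R R' (z l) := fun z l => by
    rw [TensorProduct.finsuppScalarRight_apply_tmul_apply, Algebra.smul_def, mul_one]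
  constructor
  · intro h l
    have := congrArg (fun w => e ((i.lTensor R') w) l) h
    simpa [he] using this
  · intro h
    have h0 : (1 : R') ⊗ₜ[R] i x = 0 :=
      e.injective (Finsupp.ext fun l => by rw [he, h l, map_zero, Finsupp.zero_apply])
    have := congrArg (π.lTensor R') h0
    rwa [LinearMap.lTensor_tmul, ← LinearMap.comp_apply, hπ, map_zero] at this

/-- The chart theorem for a projective coordinate ring. -/
theorem exists_coef_ideal {R A : Type u} [CommRing R] [CommRing A] [Algebra R A] [Module.Projective R A]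
    {X Y : Scheme.{u}} (q : X ⟶ Spec (CommRingCat.of R)) (y : Y ⟶ X) [IsClosedImmersion y]
    (ja : Spec (CommRingCat.of A) ⟶ X) (hA : ja ≫ q = sp (algebraMap R A)) :
    ∃ I : Ideal R, (LocallyOfFinitePresentation y → I.FG) ∧ ∀ (R' : Type u) [CommRing R'] (φ : R →+* R'),
      I ≤ RingHom.ker φ ↔ ∃ l : pullback (pullback.fst q (sp φ)) ja ⟶ Y,
        l ≫ y = pullback.fst _ _ ≫ pullback.fst q (sp φ) := by
  classical
  obtain ⟨J, θ, hθ⟩ := IsClosedImmersion.Spec_iff.1
    (inferInstance : IsClosedImmersion (pullback.snd y ja))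
  have hfac : ∀ {D : Type u} [CommRing D] (ψ : A →+* D),
      (∃ l, l ≫ y = sp ψ ≫ ja) ↔ ∀ x ∈ J, ψ x = 0 := by
    intro D _ ψ
    constructor
    · rintro ⟨l, hl⟩ x hx
      let l' := pullback.lift l (sp ψ) hl ≫ θ.hom
      obtain ⟨ψ', hψ'⟩ := Spec.map_surjective l'
      have h1 : sp ψ = Spec.map (CommRingCat.ofHom (Ideal.Quotient.mk J) ≫ ψ') := by
        rw [Spec.map_comp, hψ']
        show _ = (pullback.lift l (sp ψ) hl ≫ θ.hom) ≫ _
        rw [Category.assoc]
        exact ((congrArg (pullback.lift l (sp ψ) hl ≫ ·) hθ.symm).trans (pullback.lift_snd _ _ _)).symm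
      have h2 : ψ x = ψ'.hom (Ideal.Quotient.mk J x) :=
        congrArg (fun m => (CommRingCat.Hom.hom m) x) (Spec.map_injective h1)
      rw [h2, Ideal.Quotient.eq_zero_iff_mem.2 hx, map_zero]
    · intro h
      refine ⟨sp (Ideal.Quotient.lift J ψ h) ≫ θ.inv ≫ pullback.fst _ _, ?_⟩
      rw [Category.assoc, Category.assoc, pullback.condition, ← Category.assoc θ.inv,
        show θ.inv ≫ pullback.snd y ja = sp (Ideal.Quotient.mk J) from by rw [hθ, Iso.inv_hom_id_assoc],
        ← Category.assoc, sp_comp, Ideal.Quotient.lift_comp_mk]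
  obtain ⟨s, hs, hsfg⟩ : ∃ s : Set A, Ideal.span s = J ∧ (LocallyOfFinitePresentation y → s.Finite) := by
    by_cases hlfp : LocallyOfFinitePresentation y
    · haveI : LocallyOfFinitePresentation (pullback.snd y ja) := MorphismProperty.pullback_snd _ _ hlfp
      have h1 : LocallyOfFinitePresentation (sp (Ideal.Quotient.mk J)) := by
        rw [show sp (Ideal.Quotient.mk J) = θ.inv ≫ pullback.snd y ja from by rw [hθ, Iso.inv_hom_id_assoc]]
        infer_instance
      have h2 := (HasRingHomProperty.Spec_iff (P := @LocallyOfFinitePresentation)).1 h1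
      haveI : Algebra.FinitePresentation A (A ⧸ J) := RingHom.finitePresentation_algebraMap.1 h2
      have := Algebra.FinitePresentation.ker_fG_of_surjective (Ideal.Quotient.mkₐ A J) Ideal.Quotient.mk_surjective
      obtain ⟨F, hF⟩ : J.FG := (Ideal.mk_ker (I := J)) ▸ this
      exact ⟨F, hF, fun _ => F.finite_toSet⟩
    · exact ⟨J, Ideal.span_eq J, fun h => absurd h hlfp⟩
  obtain ⟨i, hπ⟩ := Module.projective_def'.1 (inferInstance : Module.Projective R A)
  let π : (A →₀ R) →ₗ[R] A := Finsupp.linearCombination R (id : A → A)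
  refine ⟨Ideal.span (⋃ x ∈ s, Set.range fun l => i x l), fun hlfp => ?_, fun R' _ φ => ?_⟩
  · refine Submodule.fg_def.2 ⟨(⋃ x ∈ s, Set.range fun l => i x l) \ {0}, ?_, Submodule.span_sdiff_singleton_zero⟩
    refine ((hsfg hlfp).biUnion fun x _ => ((i x).support.finite_toSet.image (fun l => i x l))).subset ?_
    rintro r ⟨hr, hr0⟩
    simp only [Set.mem_iUnion, Set.mem_range] at hr
    obtain ⟨x, hx, l, rfl⟩ := hr
    exact Set.mem_biUnion hx ⟨l, Finsupp.mem_support_iff.2 hr0, rfl⟩
  letI : Algebra R R' := φ.toAlgebra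
  let ψ : A →+* R' ⊗[R] A := (Algebra.TensorProduct.includeRight : A →ₐ[R] R' ⊗[R] A).toRingHom
  have hiff : Ideal.span (⋃ x ∈ s, Set.range fun l => i x l) ≤ RingHom.ker φ ↔ ∀ x ∈ J, ψ x = 0 := by
    rw [Ideal.span_le]
    trans ∀ x ∈ s, ψ x = 0
    · simp only [Set.iUnion_subset_iff, Set.range_subset_iff]
      exact forall₂_congr fun x _ => (one_tmul_eq_zero_iff_coord i π hπ R' x).symm
    · exact ⟨fun h x hx => (Ideal.span_le (I := RingHom.ker ψ)).2 h (hs.symm ▸ hx),
        fun h x hx => h x (hs ▸ Ideal.subset_span hx)⟩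
  rw [hiff, ← hfac]
  let ν : pullback (pullback.fst q (sp φ)) ja ⟶ Spec (CommRingCat.of (R' ⊗[R] A)) :=
    pullback.lift (pullback.fst _ _ ≫ pullback.snd _ _) (pullback.snd _ _)
      (by
        show _ ≫ sp (algebraMap R R') = _ ≫ sp (algebraMap R A)
        rw [← hA, ← pullback.condition_assoc, Category.assoc]
        show _ ≫ _ ≫ sp φ = _
        rw [pullback.condition]) ≫ (pullbackSpecIso R R' A).hom
  have hν : ν ≫ sp ψ ≫ ja = pullback.fst _ _ ≫ pullback.fst q (sp φ) := by
    simp only [ν, Category.assoc]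
    rw [← Category.assoc (pullbackSpecIso R R' A).hom, show (pullbackSpecIso R R' A).hom ≫ sp ψ = pullback.snd _ _
      from pullbackSpecIso_hom_snd R R' A, pullback.lift_snd_assoc, ← pullback.condition]
  constructor
  · rintro ⟨l, hl⟩
    exact ⟨ν ≫ l, by rw [Category.assoc, hl, hν]⟩
  · rintro ⟨l, hl⟩
    let μ : Spec (CommRingCat.of (R' ⊗[R] A)) ⟶ pullback q (sp φ) :=
      pullback.lift (sp ψ ≫ ja) (sp (Algebra.TensorProduct.includeLeftRingHom : R' →+* R' ⊗[R] A)) (by
        rw [Category.assoc, hA, sp_comp, sp_comp]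
        refine congrArg sp (RingHom.ext fun r => ?_)
        exact ((Algebra.TensorProduct.includeRight : A →ₐ[R] R' ⊗[R] A).commutes r).trans
          (Algebra.TensorProduct.algebraMap_apply r))
    refine ⟨pullback.lift μ (sp ψ) (pullback.lift_fst _ _ _) ≫ l, ?_⟩
    rw [Category.assoc, hl, pullback.lift_fst_assoc, pullback.lift_fst]

theorem exists_closed_inY_essFree {S Z Y : Scheme.{u}} (f : Z ⟶ S) (hf : SGA3x.IsEssentiallyFree f)
    (j : Y ⟶ Z) [IsClosedImmersion j] :
    ∃ (T : Scheme.{u}) (t : T ⟶ S), IsClosedImmersion t ∧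
      (∀ ⦃S' : Scheme.{u}⦄ (g : S' ⟶ S), (∃ g' : S' ⟶ T, g' ≫ t = g) ↔ InY f j g) ∧
      ((QuasiCompact f ∧ LocallyOfFinitePresentation j) → LocallyOfFinitePresentation t) := by
  refine exists_closed (isLocalProp_inY f j) _ fun s => ?_
  obtain ⟨U, hsU, hU, S', hS', g, hgf, hgs, hproj⟩ := hf s
  haveI := hS'
  haveI := hgf
  haveI := hgs
  haveI : IsAffine (U : Scheme.{u}) := hU
  let R : Type u := Γ((U : Scheme.{u}), ⊤)
  let R' : Type u := Γ(S', ⊤)
  let j₀ : Spec (CommRingCat.of R) ⟶ S := (U : Scheme.{u}).isoSpec.inv ≫ U.ι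
  refine ⟨CommRingCat.of R, j₀, inferInstance, ⟨(U : Scheme.{u}).isoSpec.hom ⟨s, hsU⟩, by
    show ((U : Scheme.{u}).isoSpec.inv ≫ U.ι) ((U : Scheme.{u}).isoSpec.hom ⟨s, hsU⟩) = s
    rw [← Scheme.Hom.comp_apply, Iso.hom_inv_id_assoc]; rfl⟩, ?_⟩
  letI : Algebra R R' := g.appTop.hom.toAlgebra
  have hFF : (g.appTop.hom).FaithfullyFlat := by
    have he : Spec.map g.appTop = S'.isoSpec.inv ≫ g ≫ (U : Scheme.{u}).isoSpec.hom := by
      rw [← Scheme.isoSpec_inv_naturality_assoc, Iso.inv_hom_id, Category.comp_id]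
    haveI : Flat (Spec.map g.appTop) := he ▸ inferInstance
    haveI : Surjective (Spec.map g.appTop) := he ▸ inferInstance
    exact (flat_and_surjective_SpecMap_iff g.appTop).1 ⟨inferInstance, inferInstance⟩
  haveI : Module.FaithfullyFlat R R' := RingHom.faithfullyFlat_algebraMap_iff.1 hFF
  let k : Spec (CommRingCat.of R') ⟶ S := sp (algebraMap R R') ≫ j₀
  have hk : k = S'.isoSpec.inv ≫ g ≫ U.ι := by
    show Spec.map g.appTop ≫ (U : Scheme.{u}).isoSpec.inv ≫ U.ι = _
    rw [Scheme.isoSpec_inv_naturality_assoc]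
  suffices H : ∃ J : Ideal R', RepIdeal (InY f j) k J ∧
      ((QuasiCompact f ∧ LocallyOfFinitePresentation j) → J.FG) by
    obtain ⟨J, hJ, hJfg⟩ := H
    obtain ⟨I, hI, hIfg⟩ := exists_repIdeal_of_faithfullyFlat (isLocalProp_inY f j)
      (fun φ hφ g => inY_of_faithfullyFlat f j φ hφ g) j₀ hJ
    exact ⟨I, hI, fun hq => hIfg (hJfg hq)⟩
  let Xk := pullback f k
  let q : Xk ⟶ Spec (CommRingCat.of R') := pullback.snd f k
  let y := pullback.snd j (pullback.fst f k)
  let P := pullback f (g ≫ U.ι)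
  let w : Xk ⟶ P := pullback.lift (pullback.fst _ _) (pullback.snd _ _ ≫ S'.isoSpec.inv) (by
    rw [Category.assoc, ← hk, pullback.condition])
  choose V hVx hVa hVp using hproj
  let c : ∀ x : P, Spec Γ((V x : Scheme.{u}), ⊤) ⟶ Xk := fun x =>
    haveI : IsAffine (V x : Scheme.{u}) := hVa x
    (V x : Scheme.{u}).isoSpec.inv ≫ pullback.lift ((V x).ι ≫ pullback.fst _ _)
      ((V x).ι ≫ pullback.snd _ _ ≫ S'.isoSpec.hom) (by
        rw [hk, Category.assoc, Category.assoc, Category.assoc, Iso.hom_inv_id_assoc, pullback.condition])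
  have hc : ∀ x, (c x ≫ w) = (haveI : IsAffine (V x : Scheme.{u}) := hVa x; (V x : Scheme.{u}).isoSpec.inv ≫ (V x).ι) := by
    intro x
    simp only [c, Category.assoc]
    congr 1
    apply pullback.hom_ext <;> simp [w]
  haveI : IsIso w := ⟨pullback.lift (pullback.fst _ _) (pullback.snd _ _ ≫ S'.isoSpec.hom) (by
      rw [hk, Category.assoc, Iso.hom_inv_id_assoc, pullback.condition]),
    by apply pullback.hom_ext <;> simp [w], by apply pullback.hom_ext <;> simp [w]⟩
  have hco : ∀ x, IsOpenImmersion (c x) := fun x => by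
    haveI : IsAffine (V x : Scheme.{u}) := hVa x
    have : c x = ((V x : Scheme.{u}).isoSpec.inv ≫ (V x).ι) ≫ inv w := by
      rw [← hc, Category.assoc, IsIso.hom_inv_id, Category.comp_id]
    rw [this]
    infer_instance
  let alg : ∀ x : P, Algebra R' Γ((V x : Scheme.{u}), ⊤) := fun x =>
    ((V x).ι ≫ pullback.snd f (g ≫ U.ι)).appTop.hom.toAlgebra
  have hcoef : ∀ x : P, ∃ I : Ideal R', (LocallyOfFinitePresentation y → I.FG) ∧
      ∀ (A : Type u) [CommRing A] (φ : R' →+* A), I ≤ RingHom.ker φ ↔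
        ∃ l : pullback (pullback.fst q (sp φ)) (c x) ⟶ pullback j (pullback.fst f k), l ≫ y = pullback.fst _ _ ≫ pullback.fst q (sp φ) := by
    intro x
    haveI : IsAffine (V x : Scheme.{u}) := hVa x
    letI : Algebra R' (Γ((V x : Scheme.{u}), ⊤) : Type u) := alg x
    haveI : Module.Projective R' (Γ((V x : Scheme.{u}), ⊤) : Type u) := hVp x
    refine @exists_coef_ideal R' (Γ((V x : Scheme.{u}), ⊤) : Type u) _ _ (alg x) (hVp x) _ _ q y _ (c x) ?_
    simp only [c, q, Category.assoc, pullback.lift_snd]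
    change _ = Spec.map (((V x).ι ≫ pullback.snd f (g ≫ U.ι)).appTop)
    rw [← Category.assoc (V x).ι, ← Scheme.isoSpec_inv_naturality_assoc, Iso.inv_hom_id, Category.comp_id]
  choose I hIfg hI using hcoef
  obtain ⟨T, hT, hTfin⟩ : ∃ T : Set P, (∀ z : P, ∃ x ∈ T, z ∈ V x) ∧ (QuasiCompact f → T.Finite) := by
    by_cases hq : QuasiCompact f
    · haveI := hq
      haveI : CompactSpace P := QuasiCompact.compactSpace_of_compactSpace (pullback.snd f (g ≫ U.ι))
      obtain ⟨T, hT⟩ := isCompact_univ.elim_finite_subcover (fun x => ((V x) : Set P)) (fun x => (V x).2)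
        (fun z _ => Set.mem_iUnion.2 ⟨z, hVx z⟩)
      exact ⟨T, fun z => by simpa using Set.mem_iUnion₂.1 (hT (Set.mem_univ z)), fun _ => T.finite_toSet⟩
    · exact ⟨Set.univ, fun z => ⟨z, trivial, hVx z⟩, fun h => absurd h hq⟩
  refine ⟨⨆ x : T, I x, fun A _ φ => ?_, fun ⟨hq, hfp⟩ => ?_⟩
  swap
  · haveI := (hTfin hq).to_subtype
    exact Submodule.fg_iSup _ fun x => hIfg x (MorphismProperty.pullback_snd _ _ hfp)
  rw [← inY_base_change f j k (sp φ)]
  show InY q y (sp φ) ↔ _
  rw [iSup_le_iff]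
  constructor
  · rintro ⟨l, hl⟩ x
    exact (hI x A φ).2 ⟨pullback.fst _ _ ≫ l, by rw [Category.assoc, hl]⟩
  · intro h
    let 𝒰 : Xk.OpenCover :=
      { I₀ := T
        X := fun x => Spec Γ((V x : Scheme.{u}), ⊤)
        f := fun x => c x
        mem₀ := by
          rw [Scheme.presieve₀_mem_precoverage_iff]
          refine ⟨fun z => ?_, fun x => hco x⟩
          obtain ⟨x, hxT, hx⟩ := hT (w z)
          haveI : IsAffine (V x : Scheme.{u}) := hVa x
          refine ⟨⟨x, hxT⟩, (V x : Scheme.{u}).isoSpec.hom ⟨w z, hx⟩, w.homeomorph.injective ?_⟩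
          show w (c x _) = w z
          rw [← Scheme.Hom.comp_apply, hc, ← Scheme.Hom.comp_apply, Iso.hom_inv_id_assoc]
          rfl }
    exact factors_of_cover y (𝒰.pullback₁ (pullback.fst q (sp φ))) (pullback.fst q (sp φ))
      fun x => (hI x.1 A φ).1 (h x)

end Groth.Agent.WeilRes
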