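import Groth.Agent.WeilResLib.FieldBase
import Groth.Agent.WeilResLib.EssFree
import Groth.Agent.WeilResLib.GeomConn
import Groth.Agent.AlgSpLib.Sep
import Mathlib.RingTheory.Flat.EquationalCriterion
import Mathlib.AlgebraicGeometry.Morphisms.Affine
import Mathlib.CategoryTheory.Monoidal.Cartesian.Over

/-!
# The locus where a family of morphisms lands in a closed subscheme
-/

set_option autoImplicit false
set_option backward.isDefEq.respectTransparency false

noncomputable section

universe u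

open CategoryTheory CategoryTheory.Limits MonoidalCategory CartesianMonoidalCategory AlgebraicGeometry
open scoped TensorProduct

namespace Groth.Agent.WeilRes

variable {S : Scheme.{u}} {P X G Y : Over S}

/-- The whole family `c` of morphisms parametrised by `X` over a point `g` of `P` lands in `Y`. -/
def MapsInto (c : P ⊗ X ⟶ G) (y : Y ⟶ G) {S' : Over S} (g : S' ⟶ P) : Prop :=
  ∀ (S'' : Over S) (s : S'' ⟶ S') (x : S'' ⟶ X), ∃ x' : S'' ⟶ Y, lift (s ≫ g) x ≫ c = x' ≫ y

theorem exists_mapsInto_closed_of {Q : Prop} (c : P ⊗ X ⟶ G) (y : Y ⟶ G)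
    (hW : ∃ (T : Scheme.{u}) (t : T ⟶ P.left), IsClosedImmersion t ∧
      (∀ ⦃S' : Scheme.{u}⦄ (g : S' ⟶ P.left), (∃ g' : S' ⟶ T, g' ≫ t = g) ↔
        InY (fst P X).left (pullback.fst c.left y.left) g) ∧ (Q → LocallyOfFinitePresentation t)) :
    ∃ (T : Over S) (t : T ⟶ P), IsClosedImmersion t.left ∧
      (∀ (S' : Over S) (g : S' ⟶ P), (∃ z : S' ⟶ T, z ≫ t = g) ↔ MapsInto c y g) ∧
      (Q → LocallyOfFinitePresentation t.left) := by
  obtain ⟨T, t, ht, hT, hQ⟩ := hW
  refine ⟨Over.mk (t ≫ P.hom), Over.homMk t rfl, ht, fun S' g => ⟨?_, fun h => ?_⟩, hQ⟩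
  · rintro ⟨z, hz⟩ S'' s x
    have hg : z.left ≫ t = g.left := congrArg CommaMorphism.left hz
    obtain ⟨l, hl⟩ := (hT g.left).1 ⟨z.left, hg⟩
    let st : S'' ⟶ P ⊗ X := lift (s ≫ g) x
    have hfst : st.left ≫ (fst P X).left = s.left ≫ g.left := by
      rw [← Over.comp_left, lift_fst, Over.comp_left]
    let π : S''.left ⟶ pullback (fst P X).left g.left := pullback.lift st.left s.left hfst
    have hst : st.left ≫ c.left = (π ≫ l ≫ pullback.snd c.left y.left) ≫ y.left := by
      simp only [Category.assoc, ← pullback.condition]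
      rw [reassoc_of% hl, pullback.lift_fst_assoc]
    refine ⟨Over.homMk (π ≫ l ≫ pullback.snd c.left y.left) ?_, Over.OverMorphism.ext ?_⟩
    · rw [← Over.w y, ← Category.assoc, ← hst, ← Over.comp_left, Over.w]
    · exact hst
  · let S'' : Over S := Over.mk (pullback.snd (fst P X).left g.left ≫ S'.hom)
    let s : S'' ⟶ S' := Over.homMk (pullback.snd _ _) rfl
    let st : S'' ⟶ P ⊗ X := Over.homMk (pullback.fst _ _) (by
      show _ = pullback.snd (fst P X).left g.left ≫ S'.hom
      rw [← Over.w g, ← pullback.condition_assoc, Over.w])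
    have hfst : st ≫ fst P X = s ≫ g := Over.OverMorphism.ext pullback.condition
    obtain ⟨x', hx'⟩ := h S'' s (st ≫ snd P X)
    have he : lift (s ≫ g) (st ≫ snd P X) = st :=
      CartesianMonoidalCategory.hom_ext _ _ (by simp [hfst]) (by simp)
    rw [he] at hx'
    obtain ⟨z, hz⟩ := (hT g.left).2
      ⟨pullback.lift st.left x'.left (congrArg CommaMorphism.left hx'), pullback.lift_fst _ _ _⟩
    exact ⟨Over.homMk z (by rw [← Over.w g, ← hz, Category.assoc]; rfl), Over.OverMorphism.ext hz⟩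

/-- Over a field, the locus of maps into a closed subscheme is closed. -/
theorem exists_mapsInto_closed_field {k : Type u} [Field k] {P X G Y : Over (Spec (CommRingCat.of k))}
    (c : P ⊗ X ⟶ G) (y : Y ⟶ G) [IsClosedImmersion y.left] :
    ∃ (T : Over (Spec (CommRingCat.of k))) (t : T ⟶ P), IsClosedImmersion t.left ∧
      ∀ (S' : Over (Spec (CommRingCat.of k))) (g : S' ⟶ P), (∃ z : S' ⟶ T, z ≫ t = g) ↔ MapsInto c y g := by
  haveI : IsClosedImmersion (pullback.fst c.left y.left) :=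
    MorphismProperty.pullback_fst _ _ inferInstance
  obtain ⟨T, t, h1, h2⟩ := exists_closed_inY_field P.hom X.hom (pullback.fst c.left y.left)
  obtain ⟨T', t', h1', h2', -⟩ := exists_mapsInto_closed_of (Q := False) c y ⟨T, t, h1, h2, False.elim⟩
  exact ⟨T', t', h1', h2'⟩

/-- A finite flat morphism of finite presentation is essentially free. -/
theorem isEssentiallyFree_of_finite_flat {Z S : Scheme.{u}} (f : Z ⟶ S) [IsFinite f] [Flat f]
    [LocallyOfFinitePresentation f] : SGA3x.IsEssentiallyFree f := by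
  intro s
  obtain ⟨U, hU, hsU, -⟩ := exists_isAffineOpen_mem_and_subset (X := S) (x := s) (U := ⊤) trivial
  haveI : IsAffine (U : Scheme.{u}) := hU
  refine ⟨U, hsU, hU, U, inferInstance, 𝟙 _, inferInstance, inferInstance, fun x => ?_⟩
  let P := pullback f (𝟙 (U : Scheme.{u}) ≫ U.ι)
  let π : P ⟶ (U : Scheme.{u}) := pullback.snd f (𝟙 (U : Scheme.{u}) ≫ U.ι)
  haveI : IsAffine P := isAffine_of_isAffineHom π
  refine ⟨⊤, trivial, isAffineOpen_top P, ?_⟩
  let g := (⊤ : P.Opens).ι ≫ π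
  haveI : IsFinite π := MorphismProperty.pullback_snd _ _ ‹IsFinite f›
  haveI : Flat π := MorphismProperty.pullback_snd _ _ ‹Flat f›
  haveI : LocallyOfFinitePresentation π := MorphismProperty.pullback_snd _ _ ‹LocallyOfFinitePresentation f›
  haveI : IsIso (⊤ : P.Opens).ι := (Scheme.topIso P).isIso_hom
  haveI : IsAffine ((⊤ : P.Opens) : Scheme.{u}) := isAffineOpen_top P
  have hfin : g.appTop.hom.Finite :=
    ((HasAffineProperty.iff_of_isAffine (P := @IsFinite)).1 (inferInstance : IsFinite g)).2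
  have hfp : g.appTop.hom.FinitePresentation :=
    (HasRingHomProperty.iff_of_isAffine (P := @LocallyOfFinitePresentation)).1 inferInstance
  have hfl : g.appTop.hom.Flat :=
    (HasRingHomProperty.iff_of_isAffine (P := @Flat)).1 inferInstance
  letI := g.appTop.hom.toAlgebra
  haveI : Module.Finite _ _ := hfin
  haveI : Algebra.FinitePresentation _ _ := hfp
  haveI : Module.Flat Γ((U : Scheme.{u}), ⊤) Γ(((⊤ : P.Opens) : Scheme.{u}), ⊤) := hfl
  haveI : Module.FinitePresentation Γ((U : Scheme.{u}), ⊤) Γ(((⊤ : P.Opens) : Scheme.{u}), ⊤) :=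
    Module.FinitePresentation.of_finite_of_finitePresentation _ _
  exact Module.Flat.projective_of_finitePresentation

/-- Projectivity of a coordinate ring survives affine base change. -/
theorem projective_appTop_of_isPullback {A' A₂ B' B₂ : Scheme.{u}} {v : A₂ ⟶ A'} {b : B₂ ⟶ B'}
    {q : A' ⟶ B'} {q₂ : A₂ ⟶ B₂} [IsAffine A'] [IsAffine B₂] [IsAffine B'] (h : IsPullback v q₂ q b)
    (hp : letI := q.appTop.hom.toAlgebra; Module.Projective Γ(B', ⊤) Γ(A', ⊤)) :
    letI := q₂.appTop.hom.toAlgebra; Module.Projective Γ(B₂, ⊤) Γ(A₂, ⊤) := by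
  have hpo := (isPushout_appTop_of_isPullback h).flip
  letI := q.appTop.hom.toAlgebra
  letI := b.appTop.hom.toAlgebra
  letI := q₂.appTop.hom.toAlgebra
  letI := v.appTop.hom.toAlgebra
  letI : Algebra Γ(B', ⊤) Γ(A₂, ⊤) := (q₂.appTop.hom.comp b.appTop.hom).toAlgebra
  haveI : IsScalarTower Γ(B', ⊤) Γ(B₂, ⊤) Γ(A₂, ⊤) := IsScalarTower.of_algebraMap_eq' rfl
  haveI : IsScalarTower Γ(B', ⊤) Γ(A', ⊤) Γ(A₂, ⊤) := IsScalarTower.of_algebraMap_eq' (by
    show q₂.appTop.hom.comp b.appTop.hom = v.appTop.hom.comp q.appTop.hom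
    rw [← CommRingCat.hom_comp, ← CommRingCat.hom_comp, ← Scheme.Hom.comp_appTop, ← Scheme.Hom.comp_appTop, h.w])
  haveI : Algebra.IsPushout Γ(B', ⊤) Γ(B₂, ⊤) Γ(A', ⊤) Γ(A₂, ⊤) := CommRingCat.isPushout_iff_isPushout.1 hpo
  exact Module.Projective.of_equiv (Algebra.IsPushout.equiv Γ(B', ⊤) Γ(B₂, ⊤) Γ(A', ⊤) Γ(A₂, ⊤)).toLinearEquiv

/-- Essentially free morphisms are stable under base change. -/
theorem isEssentiallyFree_baseChange {Z S P Z' : Scheme.{u}} (f : Z ⟶ S) (hf : SGA3x.IsEssentiallyFree f)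
    (p : P ⟶ S) (f' : Z' ⟶ P) (π : Z' ⟶ Z) (hsq : IsPullback π f' f p) :
    SGA3x.IsEssentiallyFree f' := by
  intro z
  obtain ⟨U, hzU, hU, S', hS', g, hgf, hgs, hproj⟩ := hf (p z)
  haveI := hS'; haveI := hgf; haveI := hgs
  haveI : IsAffine (U : Scheme.{u}) := hU
  obtain ⟨V, hV, hzV, hVU⟩ := exists_isAffineOpen_mem_and_subset (X := P) (x := z) (U := p ⁻¹ᵁ U) hzU
  haveI : IsAffine (V : Scheme.{u}) := hV
  let e := p.resLE U V hVU
  haveI : IsAffineHom g := inferInstance
  let S₂ := pullback e g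
  haveI : IsAffine S₂ := isAffine_of_isAffineHom (pullback.fst e g)
  refine ⟨V, hzV, hV, S₂, inferInstance, pullback.fst e g, inferInstance, inferInstance, fun x => ?_⟩
  let b : S₂ ⟶ S' := pullback.snd e g
  let P₂ := pullback f' (pullback.fst e g ≫ V.ι)
  let P₁ := pullback f (g ≫ U.ι)
  have hb : b ≫ g ≫ U.ι = (pullback.fst e g ≫ V.ι) ≫ p := by
    rw [Category.assoc, ← p.resLE_comp_ι hVU, ← pullback.condition_assoc]
  let w : P₂ ⟶ P₁ := pullback.lift (pullback.fst _ _ ≫ π) (pullback.snd _ _ ≫ b) (by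
    rw [Category.assoc, hsq.w, Category.assoc, hb, pullback.condition_assoc])
  have hw : IsPullback w (pullback.snd f' (pullback.fst e g ≫ V.ι)) (pullback.snd f (g ≫ U.ι)) b := by
    refine IsPullback.of_right ?_ (pullback.lift_snd _ _ _) (IsPullback.of_hasPullback f (g ≫ U.ι))
    rw [pullback.lift_fst, hb]
    exact (IsPullback.of_hasPullback f' (pullback.fst e g ≫ V.ι)).paste_horiz hsq
  obtain ⟨W, hxW, hW, hWp⟩ := hproj (w x)
  haveI : IsAffineHom w := MorphismProperty.of_isPullback hw.flip (inferInstance : IsAffineHom b)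
  refine ⟨w ⁻¹ᵁ W, hxW, hW.preimage w, ?_⟩
  haveI : IsAffine (W : Scheme.{u}) := hW
  exact projective_appTop_of_isPullback ((isPullback_morphismRestrict w W).flip.paste_horiz hw.flip).flip hWp

/-- The equalizer locus of two families of points with closed equalizer, along an essentially free parameter. -/
theorem exists_eqLocus_essFree' (a b : P ⊗ X ⟶ G) (hX : SGA3x.IsEssentiallyFree X.hom)
    (hcl : IsClosedImmersion (pullback.fst (lift a b).left (lift (𝟙 G) (𝟙 G) : G ⟶ G ⊗ G).left)) :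
    ∃ (T : Over S) (t : T ⟶ P), IsClosedImmersion t.left ∧
      (∀ (S' : Over S) (g : S' ⟶ P), (∃ z : S' ⟶ T, z ≫ t = g) ↔
        ∀ (S'' : Over S) (s : S'' ⟶ S') (x : S'' ⟶ X), lift (s ≫ g) x ≫ a = lift (s ≫ g) x ≫ b) ∧
      ((QuasiCompact X.hom ∧ LocallyOfFiniteType G.hom) → LocallyOfFinitePresentation t.left) := by
  let Δ : G ⟶ G ⊗ G := lift (𝟙 G) (𝟙 G)
  haveI := hcl
  obtain ⟨T, t, h1, h2, h3⟩ := exists_closed_inY_essFree (fst P X).left
    (isEssentiallyFree_baseChange X.hom hX P.hom _ _ (IsPullback.of_hasPullback P.hom X.hom).flip)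
    (pullback.fst (lift a b).left Δ.left)
  obtain ⟨T', t', h1', h2', h3'⟩ := exists_mapsInto_closed_of (Q := QuasiCompact X.hom ∧ LocallyOfFiniteType G.hom)
    (lift a b) Δ ⟨T, t, h1, h2, fun ⟨hq, hg⟩ => by
      haveI := hg
      haveI : LocallyOfFinitePresentation Δ.left := AlgSpLib.lfp_diagonal G.hom
      exact h3 ⟨MorphismProperty.pullback_fst P.hom X.hom hq, MorphismProperty.pullback_fst _ _ this⟩⟩
  refine ⟨T', t', h1', fun S' g => (h2' S' g).trans (forall₃_congr fun S'' s x => ?_), h3'⟩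
  refine ⟨fun ⟨w, hw⟩ => ?_, fun h => ⟨lift (s ≫ g) x ≫ a, ?_⟩⟩
  · have e1 := congrArg (· ≫ fst G G) hw
    have e2 := congrArg (· ≫ snd G G) hw
    simp only [Δ, Category.assoc, lift_fst, lift_snd, Category.comp_id] at e1 e2
    rw [e1, e2]
  · simp only [Δ, comp_lift, Category.comp_id, h]

/-- The equalizer locus of two families of points of a separated scheme, along an essentially free parameter. -/
theorem exists_eqLocus_essFree [IsSeparated G.hom] (a b : P ⊗ X ⟶ G) (hX : SGA3x.IsEssentiallyFree X.hom) :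
    ∃ (T : Over S) (t : T ⟶ P), IsClosedImmersion t.left ∧
      (∀ (S' : Over S) (g : S' ⟶ P), (∃ z : S' ⟶ T, z ≫ t = g) ↔
        ∀ (S'' : Over S) (s : S'' ⟶ S') (x : S'' ⟶ X), lift (s ≫ g) x ≫ a = lift (s ≫ g) x ≫ b) ∧
      ((QuasiCompact X.hom ∧ LocallyOfFiniteType G.hom) → LocallyOfFinitePresentation t.left) := by
  haveI : IsClosedImmersion (lift (𝟙 G) (𝟙 G) : G ⟶ G ⊗ G).left :=
    inferInstanceAs (IsClosedImmersion (pullback.diagonal G.hom))
  exact exists_eqLocus_essFree' a b hX (MorphismProperty.pullback_fst _ _ inferInstance)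

/-- A morphism to the spectrum of a field is essentially free. -/
theorem isEssentiallyFree_of_field {k : Type u} [Field k] {Z : Scheme.{u}} (f : Z ⟶ Spec (CommRingCat.of k)) :
    SGA3x.IsEssentiallyFree f := by
  intro s
  let U : (Spec (CommRingCat.of k)).Opens := ⊤
  haveI : IsAffine (U : Scheme.{u}) := isAffineOpen_top _
  refine ⟨U, trivial, isAffineOpen_top _, U, inferInstance, 𝟙 _, inferInstance, inferInstance, fun x => ?_⟩
  obtain ⟨W, hW, hxW, -⟩ := exists_isAffineOpen_mem_and_subset (X := pullback f (𝟙 (U : Scheme.{u}) ≫ U.ι)) (x := x) (U := ⊤) trivial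
  refine ⟨W, hxW, hW, ?_⟩
  have hF : IsField Γ((U : Scheme.{u}), ⊤) := by
    let e : Γ((U : Scheme.{u}), ⊤) ≅ CommRingCat.of k :=
      U.topIso ≪≫ Scheme.ΓSpecIso (CommRingCat.of k)
    exact MulEquiv.isField (Field.toIsField k) e.commRingCatIsoToRingEquiv.toMulEquiv
  letI := hF.toField
  letI := (W.ι ≫ pullback.snd f (𝟙 (U : Scheme.{u}) ≫ U.ι)).appTop.hom.toAlgebra
  exact Module.Projective.of_free

/-- Maps from a finite flat family into a closed subscheme. -/
theorem exists_mapsInto_closed_finite (c : P ⊗ X ⟶ G) (y : Y ⟶ G) [IsClosedImmersion y.left]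
    [IsFinite X.hom] [Flat X.hom] [LocallyOfFinitePresentation X.hom] :
    ∃ (T : Over S) (t : T ⟶ P), IsClosedImmersion t.left ∧
      (∀ (S' : Over S) (g : S' ⟶ P), (∃ z : S' ⟶ T, z ≫ t = g) ↔ MapsInto c y g) ∧
      (LocallyOfFinitePresentation y.left → LocallyOfFinitePresentation t.left) := by
  haveI : IsClosedImmersion (pullback.fst c.left y.left) :=
    MorphismProperty.pullback_fst _ _ inferInstance
  haveI : IsFinite (fst P X).left := MorphismProperty.pullback_fst P.hom X.hom ‹IsFinite X.hom›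
  haveI : Flat (fst P X).left := MorphismProperty.pullback_fst P.hom X.hom ‹Flat X.hom›
  haveI : LocallyOfFinitePresentation (fst P X).left :=
    MorphismProperty.pullback_fst P.hom X.hom ‹LocallyOfFinitePresentation X.hom›
  obtain ⟨T, t, h1, h2, h3⟩ := exists_closed_inY_essFree (fst P X).left
    (isEssentiallyFree_of_finite_flat _) (pullback.fst c.left y.left)
  exact exists_mapsInto_closed_of c y ⟨T, t, h1, h2, fun hy => h3 ⟨inferInstance,
    MorphismProperty.pullback_fst _ _ hy⟩⟩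

/-- Maps from a smooth family with connected fibres into a closed subscheme. -/
theorem exists_mapsInto_closed_smooth (c : P ⊗ X ⟶ G) (y : Y ⟶ G) [IsClosedImmersion y.left]
    [Smooth X.hom] [GeometricallyConnected X.hom] :
    ∃ (T : Over S) (t : T ⟶ P), IsClosedImmersion t.left ∧
      (∀ (S' : Over S) (g : S' ⟶ P), (∃ z : S' ⟶ T, z ≫ t = g) ↔ MapsInto c y g) ∧
      (LocallyOfFinitePresentation y.left → LocallyOfFinitePresentation t.left) := by
  haveI : IsClosedImmersion (pullback.fst c.left y.left) :=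
    MorphismProperty.pullback_fst _ _ inferInstance
  haveI : Smooth (fst P X).left := MorphismProperty.pullback_fst P.hom X.hom ‹Smooth X.hom›
  haveI : GeometricallyConnected (fst P X).left := inferInstanceAs (GeometricallyConnected (pullback.fst P.hom X.hom))
  obtain ⟨T, t, h1, h2, h3⟩ := exists_closed_inY (fst P X).left (pullback.fst c.left y.left)
  exact exists_mapsInto_closed_of c y ⟨T, t, h1, h2, fun hy => h3 (MorphismProperty.pullback_fst _ _ hy)⟩

/-- Projectivity along a ring map transfers along isomorphisms of source and target. -/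
theorem projective_of_square {R A R₂ A₂ : CommRingCat.{u}} (φ : R ⟶ A) (φ₂ : R₂ ⟶ A₂) (b : R ⟶ R₂) (a : A ⟶ A₂)
    [IsIso b] [IsIso a] (w : φ ≫ a = b ≫ φ₂) (hp : letI := φ.hom.toAlgebra; Module.Projective R A) :
    letI := φ₂.hom.toAlgebra; Module.Projective R₂ A₂ := by
  have hpo : IsPushout b φ φ₂ a := IsPushout.of_horiz_isIso ⟨w.symm⟩
  letI := φ.hom.toAlgebra
  letI := b.hom.toAlgebra
  letI := φ₂.hom.toAlgebra
  letI := a.hom.toAlgebra
  letI : Algebra R A₂ := (φ₂.hom.comp b.hom).toAlgebra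
  haveI : IsScalarTower R R₂ A₂ := IsScalarTower.of_algebraMap_eq' rfl
  haveI : IsScalarTower R A A₂ := IsScalarTower.of_algebraMap_eq' (by
    show φ₂.hom.comp b.hom = a.hom.comp φ.hom
    rw [← CommRingCat.hom_comp, ← CommRingCat.hom_comp, w])
  haveI : Algebra.IsPushout R R₂ A A₂ := CommRingCat.isPushout_iff_isPushout.1 hpo
  exact Module.Projective.of_equiv (Algebra.IsPushout.equiv R R₂ A A₂).toLinearEquiv

/-- An affine morphism with locally projective direct image is essentially free. -/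
theorem isEssentiallyFree_of_affine {Z S : Scheme.{u}} (f : Z ⟶ S) [IsAffineHom f]
    (h : ∀ s : S, ∃ U : S.affineOpens, s ∈ (U : S.Opens) ∧
      letI := (f.app U).hom.toAlgebra; Module.Projective Γ(S, U) Γ(Z, f ⁻¹ᵁ U)) :
    SGA3x.IsEssentiallyFree f := by
  intro s
  obtain ⟨⟨U, hU⟩, hsU, hp⟩ := h s
  haveI : IsAffine (U : Scheme.{u}) := hU
  haveI : IsAffine (f ⁻¹ᵁ U : Scheme.{u}) := hU.preimage f
  have hp' : letI := (f ∣_ U).appTop.hom.toAlgebra;
      Module.Projective Γ((U : Scheme.{u}), ⊤) Γ((f ⁻¹ᵁ U : Scheme.{u}), ⊤) := by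
    refine projective_of_square (f.app U) (f ∣_ U).appTop U.topIso.inv (f ⁻¹ᵁ U).topIso.inv ?_ hp
    rw [Iso.comp_inv_eq, Category.assoc, Iso.eq_inv_comp, morphismRestrict_appTop]
    simp [Scheme.Opens.topIso, Scheme.Hom.app_eq_appLE]
  let P := pullback f (𝟙 (U : Scheme.{u}) ≫ U.ι)
  haveI : IsAffineHom (pullback.snd f (𝟙 (U : Scheme.{u}) ≫ U.ι)) := MorphismProperty.pullback_snd _ _ ‹IsAffineHom f›
  haveI : IsAffine P := isAffine_of_isAffineHom (pullback.snd f (𝟙 (U : Scheme.{u}) ≫ U.ι))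
  refine ⟨U, hsU, hU, U, inferInstance, 𝟙 _, inferInstance, inferInstance, fun x => ⟨⊤, trivial, isAffineOpen_top P, ?_⟩⟩
  have hsq : IsPullback (pullback.fst f (𝟙 (U : Scheme.{u}) ≫ U.ι)) (pullback.snd f (𝟙 (U : Scheme.{u}) ≫ U.ι)) f U.ι := by
    simpa using IsPullback.of_hasPullback f (𝟙 (U : Scheme.{u}) ≫ U.ι)
  let e := hsq.isoIsPullback _ _ (isPullback_morphismRestrict f U).flip
  have he : e.hom ≫ (f ∣_ U) = pullback.snd f (𝟙 (U : Scheme.{u}) ≫ U.ι) := IsPullback.isoIsPullback_hom_snd ..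
  haveI : IsIso (⊤ : P.Opens).ι := (Scheme.topIso P).isIso_hom
  exact projective_of_square (f ∣_ U).appTop _ (𝟙 _) (((⊤ : P.Opens).ι ≫ e.hom).appTop) (by
    refine Eq.trans ?_ (Category.id_comp _).symm
    rw [← Scheme.Hom.comp_appTop, Category.assoc, he]) hp'

/-- An affine scheme whose coordinate ring becomes projective after a faithfully flat extension of the base. -/
theorem isEssentiallyFree_of_ff_projective {k k' A : Type u} [CommRing k] [CommRing k'] [CommRing A]
    [Algebra k k'] [Algebra k A] [Module.FaithfullyFlat k k'] [Module.Projective k' (k' ⊗[k] A)]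
    {Z : Scheme.{u}} (f : Z ⟶ Spec (CommRingCat.of k)) (eA : Z ≅ Spec (CommRingCat.of A))
    (heA : eA.hom ≫ sp (algebraMap k A) = f) : SGA3x.IsEssentiallyFree f := by
  intro s
  let U : (Spec (CommRingCat.of k)).Opens := ⊤
  haveI : IsIso U.ι := (Scheme.topIso _).isIso_hom
  let g : Spec (CommRingCat.of k') ⟶ (U : Scheme.{u}) := sp (algebraMap k k') ≫ inv U.ι
  have hfs := (flat_and_surjective_SpecMap_iff (CommRingCat.ofHom (algebraMap k k'))).2
    (RingHom.faithfullyFlat_algebraMap_iff.2 ‹_›)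
  haveI : Flat (sp (algebraMap k k')) := hfs.1
  haveI : Surjective (sp (algebraMap k k')) := hfs.2
  have hg : g ≫ U.ι = sp (algebraMap k k') := by simp [g]
  refine ⟨U, trivial, isAffineOpen_top _, _, inferInstance, g, inferInstance, inferInstance, fun x => ?_⟩
  let P := pullback f (g ≫ U.ι)
  let B := k' ⊗[k] A
  let e : P ≅ Spec (CommRingCat.of B) :=
    asIso (pullback.map f (g ≫ U.ι) (sp (algebraMap k A)) (sp (algebraMap k k')) eA.hom (𝟙 _) (𝟙 _)
      (by rw [Category.comp_id, heA]) (by rw [hg, Category.comp_id, Category.id_comp])) ≪≫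
      pullbackSymmetry _ _ ≪≫ pullbackSpecIso k k' A
  have he : e.hom ≫ sp (algebraMap k' B) = pullback.snd f (g ≫ U.ι) := by
    simp only [e, Iso.trans_hom, Category.assoc, asIso_hom]
    rw [pullbackSpecIso_hom_fst', pullbackSymmetry_hom_comp_fst, pullback.lift_snd, Category.comp_id]
  haveI : IsAffine P := IsAffine.of_isIso e.hom
  refine ⟨⊤, trivial, isAffineOpen_top P, ?_⟩
  haveI : IsIso (⊤ : P.Opens).ι := (Scheme.topIso P).isIso_hom
  exact projective_of_square (CommRingCat.ofHom (algebraMap k' B)) _ (Scheme.ΓSpecIso (CommRingCat.of k')).inv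
    ((Scheme.ΓSpecIso (CommRingCat.of B)).inv ≫ ((⊤ : P.Opens).ι ≫ e.hom).appTop) (by
      rw [← he, ← Category.assoc, ← Category.assoc, Scheme.ΓSpecIso_inv_naturality,
        Scheme.Hom.comp_appTop, Scheme.Hom.comp_appTop, Scheme.Hom.comp_appTop]
      simp only [Category.assoc])
    (by rw [show (CommRingCat.ofHom (algebraMap k' B)).hom.toAlgebra = (inferInstance : Algebra k' B) from Algebra.algebra_ext _ _ fun _ => rfl]; exact ‹Module.Projective k' (k' ⊗[k] A)›)

end Groth.Agent.WeilRes
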