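import Groth.Agent.FFDescLib.EtaleGraph
import Groth.Agent.GrpFieldLib.Comps

/-!
# The diagonal of a group scheme is a base change of its unit section
-/

set_option autoImplicit false
set_option backward.isDefEq.respectTransparency false

noncomputable section

universe u

open CategoryTheory CategoryTheory.Limits MonoidalCategory CartesianMonoidalCategory MonObj AlgebraicGeometry

namespace Groth.Agent.WeilRes

theorem isPullback_diagonal_unit {S : Scheme.{u}} (G : Over S) [GrpObj G] :
    IsPullback (lift (𝟙 G) (𝟙 G)) (toUnit G) (fst G G * (snd G G)⁻¹) η[G] := by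
  refine ⟨⟨by simp [MonObj.comp_mul, GrpObj.comp_inv, Hom.one_def]⟩, ⟨PullbackCone.IsLimit.mk _
    (fun s => s.fst ≫ fst G G) (fun s => ?_) (fun s => Subsingleton.elim _ _) (fun s m h _ => ?_)⟩⟩
  · have h := s.condition
    simp only [MonObj.comp_mul, GrpObj.comp_inv] at h
    rw [show s.snd ≫ η[G] = (1 : s.pt ⟶ G) by rw [Hom.one_def]; exact congrArg (· ≫ η[G]) (Subsingleton.elim _ _),
      mul_inv_eq_one] at h
    exact CartesianMonoidalCategory.hom_ext _ _ (by simp) (by simp [h])
  · rw [← h]; simp

theorem formallyUnramified_iff_unit {S : Scheme.{u}} (G : Over S) [GrpObj G] [LocallyOfFiniteType G.hom] :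
    FormallyUnramified G.hom ↔ IsOpenImmersion (η[G] : 𝟙_ (Over S) ⟶ G).left := by
  constructor
  · intro h
    exact FFDescLib.isOpenImmersion_of_section G.hom η[G].left (Over.w η[G])
  · intro h
    haveI : IsOpenImmersion (pullback.diagonal G.hom) :=
      MorphismProperty.of_isPullback (P := @IsOpenImmersion) (((isPullback_diagonal_unit G).map (Over.forget _)).flip) h
    infer_instance

end Groth.Agent.WeilRes
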