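import Groth.Agent.WeilResLib.Transporter

/-!
# Transporter, centralizer and normalizer of a smooth subgroup with connected fibres
-/

set_option autoImplicit false
set_option backward.isDefEq.respectTransparency false

noncomputable section

universe u

open CategoryTheory CategoryTheory.Limits MonoidalCategory CartesianMonoidalCategory AlgebraicGeometry
open scoped MonObj

namespace Groth.Agent.WeilRes

variable {S : Scheme.{u}} {G H : Over S} [GrpObj G] [GrpObj H] [Smooth H.hom] [QuasiSeparated H.hom]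
  [GeometricallyConnected H.hom] (i : H ⟶ G) [IsMonHom i]

theorem exists_transporter {K : Over S} [GrpObj K] (j : K ⟶ G) [IsMonHom j] [Mono j]
    [LocallyOfFinitePresentation j.left] {P : Over S} (u : P ⟶ G) :
    ∃ (T : Over S) (t : T ⟶ P), IsClosedImmersion t.left ∧ LocallyOfFinitePresentation t.left ∧
      ∀ (X : Over S) (g : X ⟶ P), (∃ x : X ⟶ T, x ≫ t = g) ↔
        ∀ (X' : Over S) (x : X' ⟶ X) (h : X' ⟶ H), ∃ κ : X' ⟶ K,
          (x ≫ g ≫ u) * (h ≫ i) * (x ≫ g ≫ u)⁻¹ = κ ≫ j := by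
  let c : H ⊗ P ⟶ G := (snd H P ≫ u) * (fst H P ≫ i) * (snd H P ≫ u)⁻¹
  have hc0 : ∀ {Z : Over S} (a : Z ⟶ H) (t : Z ⟶ P), lift a t ≫ c = (t ≫ u) * (a ≫ i) * (t ≫ u)⁻¹ := by
    intro Z a t
    simp only [c, MonObj.comp_mul, GrpObj.comp_inv, lift_fst_assoc, lift_snd_assoc]
  obtain ⟨T, t, htc, htf, ht⟩ := exists_maps_closed c (fun Z a b t => by
    rw [hc0, hc0, hc0, MonObj.mul_comp]
    simp only [mul_assoc, inv_mul_cancel_left]) j
  refine ⟨T, t, htc, htf, fun X g => (ht X g).trans ?_⟩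
  refine forall₃_congr fun X' x h => exists_congr fun κ => ?_
  rw [hc0, Category.assoc]

theorem exists_centralizer [LocallyOfFiniteType G.hom] :
    ∃ (Z : Over S) (z : Z ⟶ G), IsClosedImmersion z.left ∧ LocallyOfFinitePresentation z.left ∧
      ∀ (X : Over S) (g : X ⟶ G), (∃ w : X ⟶ Z, w ≫ z = g) ↔
        ∀ (X' : Over S) (x : X' ⟶ X) (h : X' ⟶ H), (x ≫ g) * (h ≫ i) = (h ≫ i) * (x ≫ g) := by
  let Δ : G ⟶ G ⊗ G := lift (𝟙 G) (𝟙 G)
  haveI : Mono Δ := mono_of_mono_fac (lift_fst (𝟙 G) (𝟙 G))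
  haveI : IsMonHom Δ := inferInstanceAs (IsMonHom (lift (𝟙 G) (𝟙 G)))
  haveI : LocallyOfFinitePresentation Δ.left := by
    show LocallyOfFinitePresentation (pullback.diagonal G.hom)
    exact AlgSpLib.lfp_diagonal G.hom
  let c : H ⊗ G ⟶ G ⊗ G := lift (snd H G * (fst H G ≫ i) * (snd H G)⁻¹) (fst H G ≫ i)
  have hc0 : ∀ {Z : Over S} (a : Z ⟶ H) (t : Z ⟶ G), lift a t ≫ c = lift (t * (a ≫ i) * t⁻¹) (a ≫ i) := by
    intro Z a t
    simp only [c, comp_lift, MonObj.comp_mul, GrpObj.comp_inv, lift_fst_assoc, lift_snd]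
  obtain ⟨T, t, htc, htf, ht⟩ := exists_maps_closed (G := G ⊗ G) c (fun Z a b t => by
    rw [hc0, hc0, hc0, MonObj.mul_comp]
    refine CartesianMonoidalCategory.hom_ext _ _ ?_ ?_
    · rw [MonObj.mul_comp, lift_fst, lift_fst, lift_fst]
      simp only [mul_assoc, inv_mul_cancel_left]
    · rw [MonObj.mul_comp, lift_snd, lift_snd, lift_snd]) Δ
  refine ⟨T, t, htc, htf, fun X g => (ht X g).trans ?_⟩
  refine forall₃_congr fun X' x h => ?_
  rw [hc0]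
  constructor
  · rintro ⟨κ, hκ⟩
    have h1 := congrArg (· ≫ fst G G) hκ
    have h2 := congrArg (· ≫ snd G G) hκ
    simp only [Δ, lift_fst, lift_snd, Category.assoc] at h1 h2
    exact mul_inv_eq_iff_eq_mul.1 (h1.trans h2.symm)
  · intro h1
    refine ⟨h ≫ i, ?_⟩
    rw [mul_inv_eq_iff_eq_mul.2 h1, comp_lift, Category.comp_id]

variable [Mono i] [LocallyOfFinitePresentation i.left]

theorem exists_normalizer :
    ∃ (N : Over S) (n : N ⟶ G), IsClosedImmersion n.left ∧ LocallyOfFinitePresentation n.left ∧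
      ∀ (X : Over S) (g : X ⟶ G), (∃ w : X ⟶ N, w ≫ n = g) ↔
        ∀ (X' : Over S) (x : X' ⟶ X) (h : X' ⟶ H),
          (∃ h' : X' ⟶ H, (x ≫ g) * (h ≫ i) * (x ≫ g)⁻¹ = h' ≫ i) ∧
          (∃ h' : X' ⟶ H, (x ≫ g)⁻¹ * (h ≫ i) * (x ≫ g) = h' ≫ i) := by
  obtain ⟨T, t, _, _, ht⟩ := exists_transporter i i (𝟙 G)
  obtain ⟨N, n, _, _, hn⟩ := exists_transporter i i t⁻¹
  refine ⟨N, n ≫ t, ?_, ?_, fun X g => ⟨?_, fun hg => ?_⟩⟩
  · rw [Over.comp_left]; infer_instance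
  · rw [Over.comp_left]; infer_instance
  · rintro ⟨w, rfl⟩ X' x h
    obtain ⟨a, ha⟩ := (ht X ((w ≫ n) ≫ t)).1 ⟨w ≫ n, rfl⟩ X' x h
    obtain ⟨b, hb⟩ := (hn X (w ≫ n)).1 ⟨w, rfl⟩ X' x h
    refine ⟨⟨a, ?_⟩, ⟨b, ?_⟩⟩
    · simpa only [Category.comp_id, Category.assoc] using ha
    · simpa only [GrpObj.comp_inv, inv_inv, Category.assoc] using hb
  · obtain ⟨v, hv⟩ := (ht X g).2 fun X' x h => by simpa only [Category.comp_id] using (hg X' x h).1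
    obtain ⟨w, hw⟩ := (hn X v).2 fun X' x h => by
      simpa only [GrpObj.comp_inv, inv_inv, ← hv] using (hg X' x h).2
    exact ⟨w, by rw [← Category.assoc, hw, hv]⟩

omit [Smooth H.hom] [QuasiSeparated H.hom] [GeometricallyConnected H.hom] [Mono i] [LocallyOfFinitePresentation i.left]
  [IsMonHom i] in
theorem grpObj_centralizer {Z : Over S} (z : Z ⟶ G) [Mono z]
    (hz : ∀ (X : Over S) (g : X ⟶ G), (∃ w : X ⟶ Z, w ≫ z = g) ↔
      ∀ (X' : Over S) (x : X' ⟶ X) (h : X' ⟶ H), (x ≫ g) * (h ≫ i) = (h ≫ i) * (x ≫ g)) :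
    ∃ _ : GrpObj Z, IsMonHom z := by
  refine exists_grpObj_of_pred z (fun {X} g => ∀ (X' : Over S) (x : X' ⟶ X) (h : X' ⟶ H),
    Commute (x ≫ g) (h ≫ i)) (fun {X} g => hz X g) (fun X' x h => ?_) (fun a b ha hb X' x h => ?_)
    (fun a ha X' x h => ?_)
  · rw [MonObj.comp_one]; exact Commute.one_left _
  · rw [MonObj.comp_mul]; exact (ha X' x h).mul_left (hb X' x h)
  · rw [GrpObj.comp_inv]; exact (ha X' x h).inv_left

omit [Smooth H.hom] [QuasiSeparated H.hom] [GeometricallyConnected H.hom] [Mono i] [LocallyOfFinitePresentation i.left]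
  [IsMonHom i] in
theorem grpObj_normalizer {N : Over S} (n : N ⟶ G) [Mono n]
    (hn : ∀ (X : Over S) (g : X ⟶ G), (∃ w : X ⟶ N, w ≫ n = g) ↔
      ∀ (X' : Over S) (x : X' ⟶ X) (h : X' ⟶ H),
        (∃ h' : X' ⟶ H, (x ≫ g) * (h ≫ i) * (x ≫ g)⁻¹ = h' ≫ i) ∧
        (∃ h' : X' ⟶ H, (x ≫ g)⁻¹ * (h ≫ i) * (x ≫ g) = h' ≫ i)) :
    ∃ _ : GrpObj N, IsMonHom n := by
  refine exists_grpObj_of_pred n _ (fun {X} g => hn X g) (fun X' x h => ⟨⟨h, ?_⟩, ⟨h, ?_⟩⟩)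
    (fun a b ha hb X' x h => ⟨?_, ?_⟩) (fun a ha X' x h => ⟨?_, ?_⟩)
  · simp [MonObj.comp_one]
  · simp [MonObj.comp_one]
  · obtain ⟨h₁, e₁⟩ := (hb X' x h).1
    obtain ⟨h₂, e₂⟩ := (ha X' x h₁).1
    refine ⟨h₂, ?_⟩
    rw [← e₂, ← e₁, MonObj.comp_mul, mul_inv_rev]
    simp only [mul_assoc]
  · obtain ⟨h₁, e₁⟩ := (ha X' x h).2
    obtain ⟨h₂, e₂⟩ := (hb X' x h₁).2
    refine ⟨h₂, ?_⟩
    rw [← e₂, ← e₁, MonObj.comp_mul, mul_inv_rev]
    simp only [mul_assoc]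
  · obtain ⟨h₁, e₁⟩ := (ha X' x h).2
    exact ⟨h₁, by rw [GrpObj.comp_inv, inv_inv]; exact e₁⟩
  · obtain ⟨h₁, e₁⟩ := (ha X' x h).1
    exact ⟨h₁, by rw [GrpObj.comp_inv, inv_inv]; exact e₁⟩

end Groth.Agent.WeilRes
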