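import Groth.Agent.GrpHomLib.Image
import Groth.Agent.RedFlatLib.Descent
import Groth.Agent.FlatLib.FlatLocusScheme
import Groth.Agent.FibDimLib.Local

/-!
# Dominant homomorphisms into a reduced group over a field are flat
-/

set_option autoImplicit false
set_option backward.isDefEq.respectTransparency false

universe u

open CategoryTheory CategoryTheory.Limits MonoidalCategory CartesianMonoidalCategory AlgebraicGeometry
open scoped MonObj
open Groth.Agent Groth.Agent.HomogDense Groth.Agent.GrpField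

noncomputable section

namespace Groth.Agent.WeilRes

variable {k : Type u} [Field k] {G H : Over (Spec (CommRingCat.of k))}

/-- A point is a product of two points lying over maximal points of the target. -/
theorem exists_mul_max_over [GrpObj G] [GrpObj H] (f : G ⟶ H) [IsMonHom f] [Surjective f.left] (x : G.left) :
    ∃ z : ↥(G ⊗ G).left, μ[G].left z = x ∧ IsMaxPt (f.left ((fst G G).left z)) ∧
      IsMaxPt (f.left ((snd G G).left z)) := by
  obtain ⟨T, p, hT, hp⟩ := exists_geomPointAt x
  obtain ⟨q⟩ := hT.fieldPt.nonempty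
  haveI := flat_fst (X := H) T
  obtain ⟨θH, hθH, -⟩ := exists_isMax_specializes ((lift (1 : T ⟶ H) (𝟙 T)).left q)
  haveI : Surjective (f ▷ T).left := by
    haveI : Surjective (T ◁ f).left :=
      MorphismProperty.of_isPullback (FinHom.isPullback_whiskerLeft T f).flip ‹Surjective f.left›
    haveI : IsIso (β_ G T).hom.left := ((Over.forget _).mapIso (β_ G T)).isIso_hom
    haveI : IsIso (β_ T H).hom.left := ((Over.forget _).mapIso (β_ T H)).isIso_hom
    rw [show f ▷ T = (β_ G T).hom ≫ (T ◁ f) ≫ (β_ T H).hom from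
      CartesianMonoidalCategory.hom_ext _ _ (by simp) (by simp), Over.comp_left, Over.comp_left]
    infer_instance
  obtain ⟨θ, hθ⟩ := Surjective.surj (f := (f ▷ T).left) θH
  let v : G ⊗ T ⟶ G := (fst G T)⁻¹ * (snd G T ≫ p)
  let vH : H ⊗ T ⟶ H := (fst H T)⁻¹ * (snd H T ≫ p ≫ f)
  let Ψ : H ⊗ T ≅ H ⊗ T :=
    { hom := lift vH (snd H T)
      inv := lift ((snd H T ≫ p ≫ f) * (fst H T)⁻¹) (snd H T)
      hom_inv_id := CartesianMonoidalCategory.hom_ext _ _
        (by simp [vH, MonObj.comp_mul, GrpObj.comp_inv]) (by simp)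
      inv_hom_id := CartesianMonoidalCategory.hom_ext _ _
        (by simp [vH, MonObj.comp_mul, GrpObj.comp_inv]) (by simp) }
  have h2 : v ≫ f = (f ▷ T) ≫ vH := by
    simp [v, vH, MonObj.mul_comp, GrpObj.inv_comp, MonObj.comp_mul, GrpObj.comp_inv]
  refine ⟨(lift (fst G T) v).left θ, ?_, ?_, ?_⟩
  · rw [← Scheme.Hom.comp_apply, ← Over.comp_left, ← Hom.mul_def, show fst G T * v = snd G T ≫ p by simp [v],
      Over.comp_left, Scheme.Hom.comp_apply, hp]
  · rw [← Scheme.Hom.comp_apply (lift (fst G T) v).left, ← Over.comp_left, lift_fst, ← Scheme.Hom.comp_apply,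
      ← Over.comp_left, ← whiskerRight_fst f T, Over.comp_left, Scheme.Hom.comp_apply, hθ]
    exact isMax_map _ hθH
  · rw [← Scheme.Hom.comp_apply (lift (fst G T) v).left, ← Over.comp_left, lift_snd, ← Scheme.Hom.comp_apply,
      ← Over.comp_left, h2, Over.comp_left, Scheme.Hom.comp_apply, hθ,
      show vH = Ψ.hom ≫ fst H T from (lift_fst _ _).symm, Over.comp_left, Scheme.Hom.comp_apply]
    exact isMax_map _ (isMax_homeo' (Scheme.homeoOfIso ((Over.forget _).mapIso Ψ)) hθH)

theorem flat_mul (X : Over (Spec (CommRingCat.of k))) [GrpObj X] : Flat μ[X].left := by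
  let Φ : X ⊗ X ≅ X ⊗ X :=
    { hom := lift (μ[X] : X ⊗ X ⟶ X) (snd X X)
      inv := lift (fst X X * (snd X X)⁻¹) (snd X X)
      hom_inv_id := CartesianMonoidalCategory.hom_ext _ _
        (by simp [MonObj.comp_mul, GrpObj.comp_inv, MonObj.mul_eq_mul]) (by simp)
      inv_hom_id := CartesianMonoidalCategory.hom_ext _ _
        (by simp [MonObj.comp_mul, GrpObj.comp_inv, MonObj.mul_eq_mul]) (by simp) }
  haveI := flat_fst (X := X) X
  haveI : IsIso Φ.hom.left := ((Over.forget _).mapIso Φ).isIso_hom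
  rw [show (μ[X] : X ⊗ X ⟶ X) = Φ.hom ≫ fst X X from (lift_fst _ _).symm, Over.comp_left]
  infer_instance

/-- A surjective homomorphism to a reduced group over a field is flat. -/
theorem flat_of_surjective_reduced [GrpObj G] [GrpObj H] (f : G ⟶ H) [IsMonHom f] [Surjective f.left]
    [IsReduced H.left] : Flat f.left := by
  refine (Flat.iff_flat_stalkMap _).mpr fun x => ?_
  obtain ⟨z, hz, ha, hb⟩ := exists_mul_max_over f x
  let W : G.left → Over (Spec (CommRingCat.of k)) := fun c => Over.mk (G.left.fromSpecStalk c ≫ G.hom)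
  let V : G.left → Over (Spec (CommRingCat.of k)) := fun c => Over.mk (H.left.fromSpecStalk (f.left c) ≫ H.hom)
  let iW : ∀ c, W c ⟶ G := fun c => Over.homMk (G.left.fromSpecStalk c) rfl
  let iV : ∀ c, V c ⟶ H := fun c => Over.homMk (H.left.fromSpecStalk (f.left c)) rfl
  let fW : ∀ c, W c ⟶ V c := fun c => Over.homMk (Spec.map (f.left.stalkMap c)) (by
    show Spec.map _ ≫ H.left.fromSpecStalk _ ≫ H.hom = G.left.fromSpecStalk c ≫ G.hom
    rw [Scheme.SpecMap_stalkMap_fromSpecStalk_assoc, Over.w])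
  have hcomm : ∀ c, iW c ≫ f = fW c ≫ iV c := fun c => by
    ext1
    exact (Scheme.SpecMap_stalkMap_fromSpecStalk f.left (x := c)).symm
  haveI hiW : ∀ c, Flat (iW c).left := fun c => RedFlatLib.flat_fromSpecStalk _ c
  haveI hiV : ∀ c, Flat (iV c).left := fun c => RedFlatLib.flat_fromSpecStalk _ _
  have hfW : ∀ c, IsMaxPt (f.left c) → Flat (fW c).left := fun c hc => by
    have hF := isField_stalk_of_closure_mem_irreducibleComponents H.left (f.left c)
      (FibDimLib.closure_mem_irreducibleComponents_of_max fun y hy => hc y hy)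
    letI := hF.toField
    letI : Algebra (H.left.presheaf.stalk (f.left c)) (G.left.presheaf.stalk c) := (f.left.stalkMap c).hom.toAlgebra
    show Flat (Spec.map (f.left.stalkMap c))
    rw [Flat.SpecMap_iff]
    exact RingHom.flat_algebraMap_iff.mpr inferInstance
  let a := (fst G G).left z
  let b := (snd G G).left z
  have flatT : ∀ {A A' B B' : Over (Spec (CommRingCat.of k))} (g : A ⟶ A') (g' : B ⟶ B'),
      Flat g.left → Flat g'.left → Flat (g ⊗ₘ g').left := fun g g' hg hg' => by
    rw [Over.tensorHom_left]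
    exact MorphismProperty.pullbackMap (P := @Flat) hg hg' (Over.w g).symm (Over.w g').symm
  haveI h1 := flatT _ _ (hiW a) (hiW b)
  haveI h2 : Flat ((iW a ⊗ₘ iW b) ≫ μ[G] ≫ f).left := by
    rw [IsMonHom.mul_hom, ← Category.assoc, tensorHom_comp_tensorHom, hcomm, hcomm, ← tensorHom_comp_tensorHom,
      Over.comp_left, Over.comp_left]
    haveI := flatT _ _ (hfW a ha) (hfW b hb)
    haveI := flatT _ _ (hiV a) (hiV b)
    haveI : Flat μ[H].left := flat_mul H
    infer_instance
  obtain ⟨w, hw⟩ : z ∈ Set.range (iW a ⊗ₘ iW b).left.base := by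
    rw [Over.tensorHom_left]
    refine (Set.ext_iff.mp (Scheme.Pullback.range_map _ _ _ _ _ _ _ _ _) z).mpr ⟨?_, ?_⟩
    · exact ⟨IsLocalRing.closedPoint _, Scheme.fromSpecStalk_closedPoint⟩
    · exact ⟨IsLocalRing.closedPoint _, Scheme.fromSpecStalk_closedPoint⟩
  haveI : Flat μ[G].left := flat_mul G
  have h3 : FlatLib.FlatAt ((iW a ⊗ₘ iW b).left ≫ μ[G].left) w := FlatLib.flatAt_of_flat _ w
  have h4 : FlatLib.FlatAt (((iW a ⊗ₘ iW b).left ≫ μ[G].left) ≫ f.left) w := by
    have h := FlatLib.flatAt_of_flat ((iW a ⊗ₘ iW b) ≫ μ[G] ≫ f).left w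
    rw [FlatLib.flatAt_congr (show ((iW a ⊗ₘ iW b) ≫ μ[G] ≫ f).left =
      ((iW a ⊗ₘ iW b).left ≫ μ[G].left) ≫ f.left by simp only [Over.comp_left, Category.assoc])] at h
    exact h
  have h5 := FlatLib.flatAt_of_comp h3 h4
  rwa [show ((iW a ⊗ₘ iW b).left ≫ μ[G].left) w = x by rw [Scheme.Hom.comp_apply, hw, hz]] at h5

end Groth.Agent.WeilRes
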