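import Groth.Agent.WeilResLib.Rep
import Groth.Agent.EtSectLib.Main

/-!
# Descent of representing ideals along faithfully flat maps; local charts with sections
-/

set_option autoImplicit false
set_option backward.isDefEq.respectTransparency false

noncomputable section

universe u

open CategoryTheory CategoryTheory.Limits AlgebraicGeometry
open scoped TensorProduct

namespace Groth.Agent.WeilRes

variable {S : Scheme.{u}} {P : ∀ ⦃S' : Scheme.{u}⦄, (S' ⟶ S) → Prop}

theorem exists_repIdeal_of_faithfullyFlat (hP : IsLocalProp P)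
    (hff : ∀ {R R' : Type u} [CommRing R] [CommRing R'] (φ : R →+* R'), φ.FaithfullyFlat →
      ∀ g : Spec (CommRingCat.of R) ⟶ S, P (sp φ ≫ g) → P g)
    {R R' : Type u} [CommRing R] [CommRing R'] [Algebra R R'] [Module.FaithfullyFlat R R']
    (j : Spec (CommRingCat.of R) ⟶ S) {J : Ideal R'} (hJ : RepIdeal P (sp (algebraMap R R') ≫ j) J) :
    ∃ I, RepIdeal P j I ∧ (J.FG → I.FG) := by
  let I := J.comap (algebraMap R R')
  let i₁ : R' →+* R' ⊗[R] R' := (Algebra.TensorProduct.includeLeft : R' →ₐ[R] R' ⊗[R] R').toRingHom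
  let i₂ : R' →+* R' ⊗[R] R' := (Algebra.TensorProduct.includeRight : R' →ₐ[R] R' ⊗[R] R').toRingHom
  have hi : i₁.comp (algebraMap R R') = i₂.comp (algebraMap R R') := RingHom.ext fun r => by
    simp only [i₁, i₂, RingHom.comp_apply, AlgHom.toRingHom_eq_coe, RingHom.coe_coe, AlgHom.commutes]
  have heq : J.map i₁ = J.map i₂ := by
    have h1 := hJ.map i₁
    have h2 := hJ.map i₂
    rw [← Category.assoc, sp_comp, hi, ← sp_comp, Category.assoc] at h1
    exact h1.unique h2
  -- elements of `J` die in `(R / I) ⊗ R'`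
  have hkill : ∀ x ∈ J, (1 : R ⧸ I) ⊗ₜ[R] x = 0 := by
    intro x hx
    let ι : (R ⧸ I) →ₐ[R] R' ⧸ J := Ideal.quotientMapₐ J (Algebra.ofId R R') le_rfl
    have hι : Function.Injective ι := Ideal.quotientMap_injective
    let Θ := Algebra.TensorProduct.map ι (AlgHom.id R R')
    have hΘ : Function.Injective Θ := Module.Flat.rTensor_preserves_injective_linearMap ι.toLinearMap hι
    refine hΘ ?_
    rw [map_zero, Algebra.TensorProduct.map_tmul, map_one, AlgHom.id_apply]
    let Ψ := Algebra.TensorProduct.map (Ideal.Quotient.mkₐ R J) (AlgHom.id R R')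
    have h2 : i₂ x ∈ RingHom.ker Ψ := by
      have hle : J.map i₁ ≤ RingHom.ker Ψ := Ideal.map_le_iff_le_comap.2 fun a ha => by
        show Ψ (a ⊗ₜ[R] (1 : R')) = 0
        rw [Algebra.TensorProduct.map_tmul, Ideal.Quotient.mkₐ_eq_mk, Ideal.Quotient.eq_zero_iff_mem.2 ha,
          TensorProduct.zero_tmul]
      exact hle (heq ▸ Ideal.mem_map_of_mem i₂ hx)
    rw [RingHom.mem_ker] at h2
    refine Eq.trans ?_ h2
    show _ = Ψ ((1 : R') ⊗ₜ[R] x)
    rw [Algebra.TensorProduct.map_tmul, map_one]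
    rfl
  refine ⟨I, fun A _ φ => ?_, fun hfg => ?_⟩
  · letI := φ.toAlgebra
    let c : R' →+* A ⊗[R] R' := (Algebra.TensorProduct.includeRight : R' →ₐ[R] A ⊗[R] R').toRingHom
    let b : A →+* A ⊗[R] R' := Algebra.TensorProduct.includeLeftRingHom
    have hbc : c.comp (algebraMap R R') = b.comp φ := RingHom.ext fun r => by
      show (1 : A) ⊗ₜ[R] algebraMap R R' r = algebraMap R A r ⊗ₜ[R] (1 : R')
      rw [Algebra.algebraMap_eq_smul_one, TensorProduct.tmul_smul, TensorProduct.smul_tmul', ← Algebra.algebraMap_eq_smul_one]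
    have hsq : sp b ≫ sp φ ≫ j = sp c ≫ sp (algebraMap R R') ≫ j := by
      rw [← Category.assoc, ← Category.assoc, sp_comp, sp_comp, hbc]
    constructor
    · intro h a ha
      have h1 := hP.comp (sp b) _ h
      rw [hsq] at h1
      have h2 : c (algebraMap R R' a) = 0 := (hJ _ c).1 h1 ha
      rw [show c (algebraMap R R' a) = b (φ a) from RingHom.congr_fun hbc a] at h2
      have hb : Function.Injective b :=
        (RingHom.faithfullyFlat_algebraMap_iff.2 (inferInstance : Module.FaithfullyFlat A (A ⊗[R] R'))).injective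
      exact hb (h2.trans (map_zero b).symm)
    · intro h
      refine hff b ?_ _ ?_
      · haveI : Module.FaithfullyFlat A (A ⊗[R] R') := inferInstance
        exact RingHom.faithfullyFlat_algebraMap_iff.2 this
      · rw [hsq]
        refine (hJ _ c).2 fun x hx => ?_
        let φq : (R ⧸ I) →ₐ[R] A := Ideal.Quotient.liftₐ I (Algebra.ofId R A) fun a ha => h ha
        have := congrArg (Algebra.TensorProduct.map φq (AlgHom.id R R')) (hkill x hx)
        rw [Algebra.TensorProduct.map_tmul, map_one, map_zero] at this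
        exact this
  · have hmap : I.map (algebraMap R R') = J := by
      refine le_antisymm Ideal.map_comap_le fun x hx => ?_
      let Λ : (R ⧸ I) ⊗[R] R' →ₐ[R] R' ⧸ I.map (algebraMap R R') :=
        Algebra.TensorProduct.lift (Ideal.quotientMapₐ _ (Algebra.ofId R R') Ideal.le_comap_map)
          (Ideal.Quotient.mkₐ R _) fun _ _ => Commute.all _ _
      have := congrArg Λ (hkill x hx)
      rw [Algebra.TensorProduct.lift_tmul, map_one, one_mul, map_zero] at this
      exact Ideal.Quotient.eq_zero_iff_mem.1 this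
    obtain ⟨T, hT⟩ := hfg
    have hsub : (↑T : Set R') ⊆ Ideal.span (algebraMap R R' '' (I : Set R)) := by
      intro x hx
      have : x ∈ I.map (algebraMap R R') := hmap.symm ▸ (hT ▸ Ideal.subset_span hx)
      exact this
    obtain ⟨I₀, hI₀, hI₀le, hTI⟩ : ∃ I₀ : Ideal R, I₀.FG ∧ I₀ ≤ I ∧ (↑T : Set R') ⊆ I₀.map (algebraMap R R') := by
      classical
      choose G hG hxG using fun x : (↑T : Set R') => Submodule.mem_span_finite_of_mem_span (hsub x.2)
      choose pre hpre hpre' using fun (x : (↑T : Set R')) (y : (↑(G x) : Set R')) => hG x y.2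
      refine ⟨Ideal.span (Set.range fun p : Σ x : (↑T : Set R'), (↑(G x) : Set R') => pre p.1 p.2),
        Submodule.fg_span (Set.finite_range _), Ideal.span_le.2 ?_, fun x hx => ?_⟩
      · rintro _ ⟨p, rfl⟩
        exact hpre p.1 p.2
      · refine Ideal.span_le.2 ?_ (hxG ⟨x, hx⟩)
        intro y hy
        exact Set.mem_of_eq_of_mem (hpre' ⟨x, hx⟩ ⟨y, hy⟩).symm
          (Ideal.mem_map_of_mem _ (Ideal.subset_span ⟨⟨⟨x, hx⟩, ⟨y, hy⟩⟩, rfl⟩))
    have heq' : I₀.map (algebraMap R R') = J :=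
      le_antisymm ((Ideal.map_mono hI₀le).trans hmap.le) (hT ▸ Ideal.span_le.2 hTI)
    have h3 : I = I₀ := by
      rw [← Ideal.comap_map_eq_self_of_faithfullyFlat (B := R') I₀, heq']
    exact h3 ▸ hI₀

/-- Near a given point of the base, a section of a smooth morphism to an affine scheme lies in an affine chart. -/
theorem exists_section_chart {X : Scheme.{u}} {A : Type u} [CommRing A] (f : X ⟶ Spec (CommRingCat.of A)) [Smooth f]
    (σ : Spec (CommRingCat.of A) ⟶ X) (hσ : σ ≫ f = 𝟙 _) (p : PrimeSpectrum A) :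
    ∃ (r : A) (B : Type u) (_ : CommRing B) (_ : Algebra (Localization.Away r) B)
      (e : B →ₐ[Localization.Away r] Localization.Away r) (j : Spec (CommRingCat.of B) ⟶ X),
      r ∉ p.asIdeal ∧ Algebra.Smooth (Localization.Away r) B ∧ IsOpenImmersion j ∧
      j ≫ f = sp (algebraMap (Localization.Away r) B) ≫ sp (algebraMap A (Localization.Away r)) ∧
      sp e.toRingHom ≫ j = sp (algebraMap A (Localization.Away r)) ≫ σ := by
  obtain ⟨U, hU, hpU, -⟩ := exists_isAffineOpen_mem_and_subset (X := X) (x := σ p) (U := ⊤) trivial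
  obtain ⟨φ, hφ⟩ := Spec.map_surjective (hU.fromSpec ≫ f)
  letI : Algebra A Γ(X, U) := φ.hom.toAlgebra
  have hφ' : sp (algebraMap A Γ(X, U)) = hU.fromSpec ≫ f := hφ
  haveI : Algebra.Smooth A Γ(X, U) := by
    refine RingHom.smooth_algebraMap.1 ((HasRingHomProperty.Spec_iff (P := @Smooth)).1 ?_)
    show Smooth (sp (algebraMap A Γ(X, U)))
    rw [hφ']
    exact inferInstance
  obtain ⟨_, ⟨r, rfl⟩, hrp, hr⟩ := PrimeSpectrum.isTopologicalBasis_basic_opens.exists_subset_of_mem_open
    (show p ∈ σ ⁻¹' (U : Set X) from hpU) (U.2.preimage σ.continuous)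
  let L := Localization.Away r
  have hrange : Set.range (sp (algebraMap A L) ≫ σ) ⊆ Set.range hU.fromSpec := by
    rintro _ ⟨q, rfl⟩
    rw [hU.range_fromSpec, Scheme.Hom.comp_apply]
    exact hr ((sp_away_range r).le ⟨q, rfl⟩)
  obtain ⟨ψ, hψ⟩ := Spec.map_surjective (IsOpenImmersion.lift hU.fromSpec _ hrange)
  have hψ' : sp ψ.hom ≫ hU.fromSpec = sp (algebraMap A L) ≫ σ := by
    rw [show sp ψ.hom = Spec.map ψ from rfl, hψ, IsOpenImmersion.lift_fac]
  have hψA : ψ.hom.comp (algebraMap A Γ(X, U)) = algebraMap A L := by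
    have h1 : sp (ψ.hom.comp (algebraMap A Γ(X, U))) = sp (algebraMap A L) := by
      rw [← sp_comp, hφ', ← Category.assoc, hψ', Category.assoc, hσ, Category.comp_id]
    exact congrArg CommRingCat.Hom.hom (Spec.map_injective h1)
  let ψa : Γ(X, U) →ₐ[A] L := { toRingHom := ψ.hom, commutes' := RingHom.congr_fun hψA }
  let e : L ⊗[A] Γ(X, U) →ₐ[L] L := Algebra.TensorProduct.lift (Algebra.ofId L L) ψa fun _ _ => Commute.all _ _
  let i₂ : Γ(X, U) →+* L ⊗[A] Γ(X, U) := (Algebra.TensorProduct.includeRight : Γ(X, U) →ₐ[A] L ⊗[A] Γ(X, U)).toRingHom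
  let j : Spec (CommRingCat.of (L ⊗[A] Γ(X, U))) ⟶ X := sp i₂ ≫ hU.fromSpec
  haveI := isOpenImmersion_sp_away r
  haveI : IsOpenImmersion (sp i₂) := by
    rw [show sp i₂ = (pullbackSpecIso A L Γ(X, U)).inv ≫ pullback.snd _ _ from
      (pullbackSpecIso_inv_snd A L Γ(X, U)).symm]
    infer_instance
  refine ⟨r, L ⊗[A] Γ(X, U), inferInstance, inferInstance, e, j, hrp, inferInstance,
    inferInstanceAs (IsOpenImmersion (_ ≫ _)), ?_, ?_⟩
  · rw [Category.assoc, ← hφ', sp_comp, sp_comp]
    congr 1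
    refine RingHom.ext fun a => ?_
    show (1 : L) ⊗ₜ[A] algebraMap A Γ(X, U) a = algebraMap A L a ⊗ₜ[A] (1 : Γ(X, U))
    rw [Algebra.algebraMap_eq_smul_one, TensorProduct.tmul_smul, TensorProduct.smul_tmul', ← Algebra.algebraMap_eq_smul_one]
  · rw [← Category.assoc, sp_comp, ← hψ']
    congr 2
    refine RingHom.ext fun a => ?_
    show e ((1 : L) ⊗ₜ[A] a) = ψ.hom a
    rw [Algebra.TensorProduct.lift_tmul, map_one, one_mul]
    rfl

/-- Etale locally on an affine base, a smooth surjective morphism has sections. -/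
theorem exists_etale_section {X : Scheme.{u}} {A : Type u} [CommRing A] (f : X ⟶ Spec (CommRingCat.of A)) [Smooth f]
    (p : PrimeSpectrum A) (hp : p ∈ Set.range f) :
    ∃ (r : A) (A' : Type u) (_ : CommRing A') (_ : Algebra (Localization.Away r) A'), r ∉ p.asIdeal ∧
      Module.FaithfullyFlat (Localization.Away r) A' ∧
      ∃ h : Spec (CommRingCat.of A') ⟶ X,
        h ≫ f = sp (algebraMap (Localization.Away r) A') ≫ sp (algebraMap A (Localization.Away r)) := by
  obtain ⟨S', g, s', hg, hgs, h, hh⟩ := EtSectLib.exists_section f p hp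
  obtain ⟨W, hW, hsW, -⟩ := exists_isAffineOpen_mem_and_subset (X := S') (x := s') (U := ⊤) trivial
  obtain ⟨φ, hφ⟩ := Spec.map_surjective (hW.fromSpec ≫ g)
  letI : Algebra A Γ(S', W) := φ.hom.toAlgebra
  have hφ' : sp (algebraMap A Γ(S', W)) = hW.fromSpec ≫ g := hφ
  haveI hflat : Module.Flat A Γ(S', W) := by
    refine RingHom.flat_algebraMap_iff.1 ((HasRingHomProperty.Spec_iff (P := @Flat)).1 ?_)
    show Flat (sp (algebraMap A Γ(S', W)))
    rw [hφ']
    exact inferInstance
  obtain ⟨w, rfl⟩ : s' ∈ Set.range hW.fromSpec := hW.range_fromSpec.ge hsW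
  haveI : IsOpenImmersion hW.fromSpec := inferInstance
  have hopen : IsOpen (Set.range (hW.fromSpec ≫ g)) := (hW.fromSpec ≫ g).isOpenMap.isOpen_range
  obtain ⟨_, ⟨r, rfl⟩, hrp, hr⟩ := PrimeSpectrum.isTopologicalBasis_basic_opens.exists_subset_of_mem_open
    (show p ∈ Set.range (hW.fromSpec ≫ g) from ⟨w, by rw [Scheme.Hom.comp_apply, hgs]⟩) hopen
  let L := Localization.Away r
  let A' := L ⊗[A] Γ(S', W)
  let i₂ : Γ(S', W) →+* A' := (Algebra.TensorProduct.includeRight : Γ(S', W) →ₐ[A] A').toRingHom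
  have hsq : sp i₂ ≫ hW.fromSpec ≫ g = sp (algebraMap L A') ≫ sp (algebraMap A L) := by
    rw [← hφ', sp_comp, sp_comp]
    congr 1
    refine RingHom.ext fun a => ?_
    show (1 : L) ⊗ₜ[A] algebraMap A Γ(S', W) a = algebraMap A L a ⊗ₜ[A] (1 : Γ(S', W))
    rw [Algebra.algebraMap_eq_smul_one, TensorProduct.tmul_smul, TensorProduct.smul_tmul', ← Algebra.algebraMap_eq_smul_one]
  refine ⟨r, A', inferInstance, inferInstance, hrp, ?_, sp i₂ ≫ hW.fromSpec ≫ h, ?_⟩
  · refine Module.FaithfullyFlat.of_comap_surjective fun q => ?_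
    have hq : sp (algebraMap A L) q ∈ Set.range (hW.fromSpec ≫ g) := hr ((sp_away_range r).le ⟨q, rfl⟩)
    obtain ⟨v, hv⟩ := hq
    obtain ⟨z, hz, -⟩ := Scheme.Pullback.exists_preimage_pullback (f := sp (algebraMap A L))
      (g := sp (algebraMap A Γ(S', W))) q v (hv.symm.trans (congrArg (fun m => (m : Spec Γ(S', W) ⟶ _) v) hφ'.symm))
    refine ⟨(pullbackSpecIso A L Γ(S', W)).hom z, ?_⟩
    show ((pullbackSpecIso A L Γ(S', W)).hom ≫ sp (algebraMap L A')) z = q
    rw [pullbackSpecIso_hom_fst' A L Γ(S', W)]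
    exact hz
  · rw [Category.assoc, Category.assoc, hh, hsq]

end Groth.Agent.WeilRes
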