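import Groth.Agent.WeilResLib.Fibre
import Groth.Agent.WeilResLib.Descend

/-!
# Weil restriction of a closed subscheme along a smooth morphism with geometrically connected fibres
-/

set_option autoImplicit false
set_option backward.isDefEq.respectTransparency false

noncomputable section

universe u

open CategoryTheory CategoryTheory.Limits AlgebraicGeometry
open scoped TensorProduct

namespace Groth.Agent.WeilRes

/-- The base change of `X` to an `S`-scheme lies in `Y`. -/
def InY {S X Y : Scheme.{u}} (f : X ⟶ S) (y : Y ⟶ X) ⦃S' : Scheme.{u}⦄ (g : S' ⟶ S) : Prop :=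
  ∃ l : pullback f g ⟶ Y, l ≫ y = pullback.fst f g

variable {S X Y : Scheme.{u}} (f : X ⟶ S) (y : Y ⟶ X)

theorem inY_iff_isIso [Mono y] {S' : Scheme.{u}} (g : S' ⟶ S) :
    InY f y g ↔ IsIso (pullback.snd y (pullback.fst f g)) := by
  constructor
  · rintro ⟨l, hl⟩
    refine ⟨pullback.lift l (𝟙 _) (by rw [hl, Category.id_comp]), ?_, pullback.lift_snd _ _ _⟩
    rw [← cancel_mono (pullback.snd y (pullback.fst f g)), Category.assoc, pullback.lift_snd]
    simp
  · intro h
    exact ⟨inv (pullback.snd y (pullback.fst f g)) ≫ pullback.fst _ _, by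
      rw [Category.assoc, pullback.condition, IsIso.inv_hom_id_assoc]⟩

theorem factors_of_cover [Mono y] {W : Scheme.{u}} (𝒰 : W.OpenCover) (φ : W ⟶ X)
    (h : ∀ i, ∃ l : 𝒰.X i ⟶ Y, l ≫ y = 𝒰.f i ≫ φ) : ∃ l : W ⟶ Y, l ≫ y = φ := by
  choose L hL using h
  refine ⟨Scheme.Cover.glueMorphisms 𝒰 L fun a b => ?_, Scheme.Cover.hom_ext 𝒰 _ _ fun i => ?_⟩
  · rw [← cancel_mono y, Category.assoc, Category.assoc, hL, hL, pullback.condition_assoc]
  · rw [← Category.assoc, Scheme.Cover.ι_glueMorphisms, hL]

theorem isLocalProp_inY [Mono y] : IsLocalProp (InY f y) := by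
  refine ⟨fun {S'' S'} h g ⟨l, hl⟩ => ?_, fun {S'} g {I S''} j hj hc h => ?_⟩
  · exact ⟨pullback.lift (pullback.fst _ _) (pullback.snd _ _ ≫ h)
      (by rw [pullback.condition, Category.assoc]) ≫ l, by rw [Category.assoc, hl, pullback.lift_fst]⟩
  · let 𝒱 : S'.OpenCover :=
      { I₀ := I
        X := S''
        f := j
        mem₀ := by
          rw [Scheme.presieve₀_mem_precoverage_iff]
          exact ⟨hc, hj⟩ }
    refine factors_of_cover y (𝒱.pullback₁ (pullback.snd f g)) (pullback.fst f g) fun i => ?_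
    obtain ⟨l, hl⟩ := h i
    let Φ : pullback (pullback.snd f g) (j i) ⟶ pullback f (j i ≫ g) :=
      pullback.lift (pullback.fst _ _ ≫ pullback.fst f g) (pullback.snd _ _)
        (by rw [Category.assoc, pullback.condition, ← Category.assoc, pullback.condition, Category.assoc])
    have hΦ : (Φ ≫ l) ≫ y = pullback.fst (pullback.snd f g) (j i) ≫ pullback.fst f g := by
      rw [Category.assoc, hl, pullback.lift_fst]
    exact ⟨Φ ≫ l, hΦ⟩

theorem inY_of_faithfullyFlat [Mono y] {R R' : Type u} [CommRing R] [CommRing R'] (φ : R →+* R')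
    (hφ : φ.FaithfullyFlat) (g : Spec (CommRingCat.of R) ⟶ S) (h : InY f y (sp φ ≫ g)) : InY f y g := by
  rw [inY_iff_isIso] at h ⊢
  let π : pullback f (sp φ ≫ g) ⟶ pullback f g :=
    pullback.lift (pullback.fst _ _) (pullback.snd _ _ ≫ sp φ) (by rw [pullback.condition, Category.assoc])
  have hsq : IsPullback π (pullback.snd f (sp φ ≫ g)) (pullback.snd f g) (sp φ) := by
    refine IsPullback.of_right ?_ (pullback.lift_snd _ _ _) (IsPullback.of_hasPullback f g).flip.flip
    rw [pullback.lift_fst]
    exact IsPullback.of_hasPullback f (sp φ ≫ g)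
  have hQ : (@Surjective ⊓ @Flat ⊓ @QuasiCompact : MorphismProperty Scheme.{u}) (sp φ) := by
    refine ⟨⟨⟨?_⟩, ?_⟩, inferInstance⟩
    · letI := φ.toAlgebra
      haveI : Module.FaithfullyFlat R R' := hφ
      exact fun x => PrimeSpectrum.comap_surjective_of_faithfullyFlat (A := R) (B := R') x
    · exact (HasRingHomProperty.Spec_iff (P := @Flat)).2 hφ.flat
  have hπ : (@Surjective ⊓ @Flat ⊓ @QuasiCompact : MorphismProperty Scheme.{u}) π :=
    MorphismProperty.of_isPullback hsq.flip hQ
  refine MorphismProperty.of_pullback_fst_of_descendsAlong (P := MorphismProperty.isomorphisms Scheme.{u})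
    (Q := @Surjective ⊓ @Flat ⊓ @QuasiCompact) (f := π) hπ ?_
  -- the base change of the immersion
  let w : pullback π (pullback.snd y (pullback.fst f g)) ⟶ pullback y (pullback.fst f (sp φ ≫ g)) :=
    pullback.lift (pullback.snd _ _ ≫ pullback.fst _ _) (pullback.fst _ _) (by
      rw [Category.assoc, pullback.condition, ← Category.assoc, ← pullback.condition, Category.assoc,
        pullback.lift_fst])
  haveI := h
  haveI : Mono (pullback.fst π (pullback.snd y (pullback.fst f g))) := inferInstance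
  haveI : IsSplitEpi (pullback.fst π (pullback.snd y (pullback.fst f g))) :=
    ⟨⟨⟨inv (pullback.snd y (pullback.fst f (sp φ ≫ g))) ≫
      pullback.lift (pullback.snd _ _) (pullback.lift (pullback.fst _ _) (pullback.snd _ _ ≫ π)
        (by rw [pullback.condition, Category.assoc, pullback.lift_fst])) (by rw [pullback.lift_snd]), by
      rw [Category.assoc, pullback.lift_fst, IsIso.inv_hom_id]⟩⟩⟩
  exact isIso_of_mono_of_isSplitEpi _

/-- `InY` for a base change of the whole situation. -/
theorem inY_base_change [Mono y] {S₀ S' : Scheme.{u}} (j : S₀ ⟶ S) (g : S' ⟶ S₀) :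
    InY (pullback.snd f j) (pullback.snd y (pullback.fst f j)) g ↔ InY f y (g ≫ j) := by
  let e : pullback (pullback.snd f j) g ⟶ pullback f (g ≫ j) :=
    pullback.lift (pullback.fst _ _ ≫ pullback.fst f j) (pullback.snd _ _)
      (by rw [Category.assoc, pullback.condition, ← Category.assoc, pullback.condition, Category.assoc])
  let e' : pullback f (g ≫ j) ⟶ pullback (pullback.snd f j) g :=
    pullback.lift (pullback.lift (pullback.fst _ _) (pullback.snd _ _ ≫ g)
      (by rw [pullback.condition, Category.assoc])) (pullback.snd _ _) (by rw [pullback.lift_snd])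
  constructor
  · rintro ⟨l, hl⟩
    refine ⟨e' ≫ l ≫ pullback.fst y (pullback.fst f j), ?_⟩
    rw [Category.assoc, Category.assoc, pullback.condition, ← Category.assoc l, hl, pullback.lift_fst_assoc,
      pullback.lift_fst]
  · rintro ⟨l, hl⟩
    exact ⟨pullback.lift (e ≫ l) (pullback.fst _ _) (by rw [Category.assoc, hl, pullback.lift_fst]),
      pullback.lift_snd _ _ _⟩

section Chart

variable {R B : Type u} [CommRing R] [CommRing B] [Algebra R B] [Algebra.Smooth R B]

theorem vanishes_of_van (hdom : ∀ (R' : Type u) [CommRing R'] [Algebra R R'] (p : Ideal R') [p.IsPrime],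
      NoZeroDivisors (p.ResidueField ⊗[R'] (R' ⊗[R] B)))
    (e : B →ₐ[R] R) (x : B) (R' : Type u) [CommRing R'] [Algebra R R'] (h : ∀ n, Van e R' n x) :
    (1 : R') ⊗ₜ[R] x = 0 := by
  obtain ⟨u, hu, hux⟩ := exists_kill (secBC e R') ((1 : R') ⊗ₜ[R] x) h
  let Ann : Ideal (R' ⊗[R] B) := LinearMap.ker (LinearMap.mulRight (R' ⊗[R] B) ((1 : R') ⊗ₜ[R] x))
  suffices hA : Ann = ⊤ by
    have := LinearMap.mem_ker.1 ((Ideal.eq_top_iff_one _).1 hA)
    rwa [LinearMap.mulRight_apply, one_mul] at this
  by_contra hne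
  obtain ⟨q, hq, hqle⟩ := Ideal.exists_le_maximal _ hne
  haveI := hdom R' (q.under R')
  obtain ⟨t, ht, htx⟩ := local_zero (R := R') u ((1 : R') ⊗ₜ[R] x) hux q fun z hz => by
    refine (mul_eq_zero.1 hz).resolve_left fun h0 => ?_
    have h1 := congrArg (secBC (secBC e R') (q.under R').ResidueField) h0
    rw [secBC_tmul, hu, map_zero, map_one, mul_one] at h1
    exact one_ne_zero h1
  exact ht (hqle htx)

theorem isOpenImmersion_chart_baseChange (fR : X ⟶ Spec (CommRingCat.of R)) (j : Spec (CommRingCat.of B) ⟶ X)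
    [IsOpenImmersion j] (hj : j ≫ fR = sp (algebraMap R B)) (R' : Type u) [CommRing R'] [Algebra R R'] :
    ∃ m : Spec (CommRingCat.of (R' ⊗[R] B)) ⟶ pullback fR (sp (algebraMap R R')),
      IsOpenImmersion m ∧ m ≫ pullback.snd _ _ = sp (algebraMap R' (R' ⊗[R] B)) ∧
      m ≫ pullback.fst _ _ =
        sp (Algebra.TensorProduct.includeRight : B →ₐ[R] R' ⊗[R] B).toRingHom ≫ j := by
  let m₀ : pullback (sp (algebraMap R B)) (sp (algebraMap R R')) ⟶ pullback fR (sp (algebraMap R R')) :=
    pullback.map _ _ _ _ j (𝟙 _) (𝟙 _) (by rw [hj, Category.comp_id]) (by simp)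
  haveI : IsOpenImmersion m₀ := inferInstanceAs (IsOpenImmersion (pullback.map ..))
  refine ⟨(pullbackSpecIso R R' B).inv ≫ (pullbackSymmetry _ _).hom ≫ m₀, inferInstance, ?_, ?_⟩
  · simp only [m₀, Category.assoc, pullback.lift_snd, pullback.lift_snd_assoc, Category.comp_id,
      pullbackSymmetry_hom_comp_snd]
    exact pullbackSpecIso_inv_fst' R R' B
  · simp only [m₀, Category.assoc, pullback.lift_fst, pullbackSymmetry_hom_comp_fst_assoc]
    exact pullbackSpecIso_inv_snd_assoc R R' B j

/-- The chart theorem. -/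
theorem exists_repIdeal_chart (fR : X ⟶ Spec (CommRingCat.of R)) [Smooth fR] [GeometricallyConnected fR]
    (yR : Y ⟶ X) [IsClosedImmersion yR] (j : Spec (CommRingCat.of B) ⟶ X) [IsOpenImmersion j]
    (hj : j ≫ fR = sp (algebraMap R B)) (e : B →ₐ[R] R) :
    ∃ I : Ideal R, RepIdeal (InY fR yR) (𝟙 _) I ∧ (LocallyOfFinitePresentation yR → I.FG) := by
  obtain ⟨J, θ, hθ⟩ := IsClosedImmersion.Spec_iff.1
    (inferInstance : IsClosedImmersion (pullback.snd yR j))
  have hdom : ∀ (R' : Type u) [CommRing R'] [Algebra R R'] (p : Ideal R') [p.IsPrime],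
      NoZeroDivisors (p.ResidueField ⊗[R'] (R' ⊗[R] B)) := fun R' _ _ p _ => by
    obtain ⟨m, hm, hm₂, -⟩ := isOpenImmersion_chart_baseChange fR j hj R'
    haveI : Smooth (pullback.snd fR (sp (algebraMap R R'))) := MorphismProperty.pullback_snd _ _ inferInstance
    exact noZeroDivisors_fibre (pullback.snd fR (sp (algebraMap R R'))) (𝟙 _) m (hm₂.trans (Category.comp_id _).symm) _
  have hfac : ∀ {A : Type u} [CommRing A] (ψ : B →+* A),
      (∃ l, l ≫ yR = sp ψ ≫ j) ↔ ∀ x ∈ J, ψ x = 0 := by
    intro A _ ψ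
    constructor
    · rintro ⟨l, hl⟩ x hx
      let l' := pullback.lift l (sp ψ) hl ≫ θ.hom
      obtain ⟨ψ', hψ'⟩ := Spec.map_surjective l'
      have h1 : sp ψ = Spec.map (CommRingCat.ofHom (Ideal.Quotient.mk J) ≫ ψ') := by
        rw [Spec.map_comp, hψ']
        show _ = (pullback.lift l (sp ψ) hl ≫ θ.hom) ≫ _
        rw [Category.assoc]
        exact ((congrArg (pullback.lift l (sp ψ) hl ≫ ·) hθ.symm).trans (pullback.lift_snd _ _ _)).symm
      have h2 : ψ x = ψ'.hom (Ideal.Quotient.mk J x) :=
        congrArg (fun m => (CommRingCat.Hom.hom m) x) (Spec.map_injective h1)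
      rw [h2, Ideal.Quotient.eq_zero_iff_mem.2 hx, map_zero]
    · intro h
      refine ⟨sp (Ideal.Quotient.lift J ψ h) ≫ θ.inv ≫ pullback.fst _ _, ?_⟩
      rw [Category.assoc, Category.assoc, pullback.condition, ← Category.assoc θ.inv,
        show θ.inv ≫ pullback.snd yR j = sp (Ideal.Quotient.mk J) from by rw [hθ, Iso.inv_hom_id_assoc],
        ← Category.assoc, sp_comp, Ideal.Quotient.lift_comp_mk]
  have hU : ∀ (R' : Type u) [CommRing R'] [Algebra R R'],
      InY fR yR (sp (algebraMap R R') ≫ 𝟙 _) ↔ ∀ n, ∀ x ∈ J, Van e R' n x := by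
    intro R' _ _
    rw [Category.comp_id]
    obtain ⟨m, hm, hm₂, hm₁⟩ := isOpenImmersion_chart_baseChange fR j hj R'
    constructor
    · rintro ⟨l, hl⟩ n x hx
      have h0 := (hfac (Algebra.TensorProduct.includeRight : B →ₐ[R] R' ⊗[R] B).toRingHom).1
        ⟨m ≫ l, by rw [Category.assoc, hl, hm₁]⟩ x hx
      have h0' : (1 : R') ⊗ₜ[R] x = 0 := h0
      show _ ∈ _
      rw [h0']
      exact zero_mem _
    · intro h
      obtain ⟨l, hl⟩ := (hfac (Algebra.TensorProduct.includeRight : B →ₐ[R] R' ⊗[R] B).toRingHom).2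
        fun x hx => vanishes_of_van hdom e x R' fun n => h n x hx
      haveI : Smooth (pullback.snd fR (sp (algebraMap R R'))) := MorphismProperty.pullback_snd _ _ inferInstance
      rw [inY_iff_isIso]
      refine isIso_of_open (pullback.snd fR (sp (algebraMap R R'))) _ m.opensRange (fun s => ?_) ?_
      · refine ⟨m (sp (secBC e R').toRingHom s), ⟨_, rfl⟩, ?_⟩
        rw [← Scheme.Hom.comp_apply, ← Scheme.Hom.comp_apply, hm₂, sp_comp,
          show (secBC e R').toRingHom.comp (algebraMap R' (R' ⊗[R] B)) = RingHom.id R' from (secBC e R').comp_algebraMap]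
        rw [show sp (RingHom.id R') = 𝟙 _ from Spec.map_id _]
        rfl
      · refine ⟨m.isoOpensRange.inv ≫ pullback.lift l m (hl.trans hm₁.symm), ?_⟩
        rw [Category.assoc, pullback.lift_snd, Scheme.Hom.isoOpensRange_inv_comp]
  refine ⟨⨆ n, vanIdeal e n (J : Set B), fun R' _ φ => ?_, fun hlfp => ?_⟩
  · letI := φ.toAlgebra
    refine (hU R').trans ?_
    rw [iSup_le_iff]
    exact forall_congr' fun n => (vanIdeal_le_iff e n (J : Set B) R').symm
  · haveI : LocallyOfFinitePresentation (pullback.snd yR j) := MorphismProperty.pullback_snd _ _ hlfp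
    have hJ : J.FG := by
      have h1 : LocallyOfFinitePresentation (sp (Ideal.Quotient.mk J)) := by
        rw [show sp (Ideal.Quotient.mk J) = θ.inv ≫ pullback.snd yR j from by rw [hθ, Iso.inv_hom_id_assoc]]
        infer_instance
      have h2 := (HasRingHomProperty.Spec_iff (P := @LocallyOfFinitePresentation)).1 h1
      haveI : Algebra.FinitePresentation B (B ⧸ J) := RingHom.finitePresentation_algebraMap.1 h2
      have := Algebra.FinitePresentation.ker_fG_of_surjective (Ideal.Quotient.mkₐ B J) Ideal.Quotient.mk_surjective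
      exact (Ideal.mk_ker (I := J)) ▸ this
    obtain ⟨s, hs⟩ := hJ
    obtain ⟨N, hN⟩ := exists_uniform e s
    have heq : (⨆ n, vanIdeal e n (J : Set B)) = vanIdeal e N (s : Set B) := by
      have hspan : ∀ (R' : Type u) [CommRing R'] [Algebra R R'] (n : ℕ), (∀ x ∈ s, Van e R' n x) →
          ∀ x ∈ J, Van e R' n x := fun R' _ _ n h x hx => by
        have hle : J ≤ (RingHom.ker (secBC e R') ^ n).comap
            (Algebra.TensorProduct.includeRight : B →ₐ[R] R' ⊗[R] B) := hs ▸ Ideal.span_le.2 h
        exact hle hx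
      refine le_antisymm (iSup_le fun n => ?_) ?_
      · have h1 := (vanIdeal_le_iff e N (s : Set B) (R ⧸ vanIdeal e N (s : Set B))).1
          (by rw [Ideal.Quotient.algebraMap_eq, Ideal.mk_ker])
        have h2 := (vanIdeal_le_iff e n (J : Set B) (R ⧸ vanIdeal e N (s : Set B))).2
          (hspan _ n fun x hx => hN _ h1 n x hx)
        rwa [Ideal.Quotient.algebraMap_eq, Ideal.mk_ker] at h2
      · exact le_iSup_of_le N (iSup₂_mono' fun x hx => ⟨x, hs ▸ Ideal.subset_span hx, le_rfl⟩)
    exact heq ▸ vanIdeal_fg e N s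

end Chart

/-- Weil restriction of a closed subscheme. -/
theorem exists_closed_inY [Smooth f] [GeometricallyConnected f] [IsClosedImmersion y] :
    ∃ (T : Scheme.{u}) (t : T ⟶ S), IsClosedImmersion t ∧
      (∀ ⦃S' : Scheme.{u}⦄ (g : S' ⟶ S), (∃ g' : S' ⟶ T, g' ≫ t = g) ↔ InY f y g) ∧
      (LocallyOfFinitePresentation y → LocallyOfFinitePresentation t) := by
  refine exists_closed (isLocalProp_inY f y) _ fun s => ?_
  obtain ⟨V, hV, hsV, -⟩ := exists_isAffineOpen_mem_and_subset (X := S) (x := s) (U := ⊤) trivial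
  obtain ⟨p, rfl⟩ : s ∈ Set.range hV.fromSpec := hV.range_fromSpec.ge hsV
  let A : Type u := Γ(S, V)
  let j₀ : Spec (CommRingCat.of A) ⟶ S := hV.fromSpec
  haveI : IsOpenImmersion j₀ := inferInstanceAs (IsOpenImmersion hV.fromSpec)
  let f₀ := pullback.snd f j₀
  haveI : Smooth f₀ := MorphismProperty.pullback_snd _ _ inferInstance
  obtain ⟨r, A', _, _, hr, hff, h, hh⟩ := exists_etale_section f₀ p (f₀.surjective p)
  let k : Spec (CommRingCat.of A') ⟶ S :=
    sp (algebraMap (Localization.Away r) A') ≫ sp (algebraMap A (Localization.Away r)) ≫ j₀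
  let f₁ := pullback.snd f k
  let y₁ := pullback.snd y (pullback.fst f k)
  haveI : Smooth f₁ := MorphismProperty.pullback_snd _ _ inferInstance
  haveI : IsClosedImmersion y₁ := MorphismProperty.pullback_snd _ _ inferInstance
  let σ : Spec (CommRingCat.of A') ⟶ pullback f k :=
    pullback.lift (h ≫ pullback.fst _ _) (𝟙 _) (by
      rw [Category.assoc, pullback.condition, ← Category.assoc, hh, Category.id_comp, Category.assoc])
  haveI := isOpenImmersion_sp_away r
  suffices H : ∃ I : Ideal (Localization.Away r),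
      RepIdeal (InY f y) (sp (algebraMap A (Localization.Away r)) ≫ j₀) I ∧
        (LocallyOfFinitePresentation y → I.FG) by
    refine ⟨CommRingCat.of (Localization.Away r), sp (algebraMap A (Localization.Away r)) ≫ j₀, inferInstance, ?_, H⟩
    obtain ⟨q, hq⟩ := (sp_away_range r).ge hr
    exact ⟨q, by rw [Scheme.Hom.comp_apply, hq]; rfl⟩
  suffices H : ∃ J : Ideal A', RepIdeal (InY f y) k J ∧ (LocallyOfFinitePresentation y → J.FG) by
    obtain ⟨J, hJ, hJfg⟩ := H
    obtain ⟨I, hI, hIfg⟩ := exists_repIdeal_of_faithfullyFlat (isLocalProp_inY f y)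
      (fun φ hφ g => inY_of_faithfullyFlat f y φ hφ g) (sp (algebraMap A (Localization.Away r)) ≫ j₀) hJ
    exact ⟨I, hI, fun hq => hIfg (hJfg hq)⟩
  -- Zariski locally on `Spec A'` there is a chart through the section
  choose r₁ B _ _ e j₁ hr₁ hsm hjo hj₁ hej using fun q : PrimeSpectrum A' =>
    exists_section_chart f₁ σ (pullback.lift_snd _ _ _) q
  have hloc : ∀ q : PrimeSpectrum A', ∃ I, RepIdeal (InY f y) (sp (algebraMap A' (Localization.Away (r₁ q))) ≫ k) I ∧
      (LocallyOfFinitePresentation y → I.FG) := by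
    intro q
    haveI := hjo q
    haveI := hsm q
    haveI := isOpenImmersion_sp_away (r₁ q)
    let a := sp (algebraMap A' (Localization.Away (r₁ q))) ≫ k
    let f₂ := pullback.snd f a
    haveI : Smooth f₂ := MorphismProperty.pullback_snd _ _ inferInstance
    haveI : IsClosedImmersion (pullback.snd y (pullback.fst f a)) := MorphismProperty.pullback_snd _ _ inferInstance
    let c : pullback f a ⟶ pullback f k := pullback.lift (pullback.fst _ _)
      (pullback.snd _ _ ≫ sp (algebraMap A' (Localization.Away (r₁ q))))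
      (by rw [pullback.condition, Category.assoc])
    let j₂ : Spec (CommRingCat.of (B q)) ⟶ pullback f a :=
      pullback.lift (j₁ q ≫ pullback.fst f k) (sp (algebraMap (Localization.Away (r₁ q)) (B q)))
        (by
          rw [Category.assoc, pullback.condition, ← Category.assoc,
            show j₁ q ≫ pullback.snd f k = sp (algebraMap (Localization.Away (r₁ q)) (B q)) ≫
              sp (algebraMap A' (Localization.Away (r₁ q))) from hj₁ q, Category.assoc])
    haveI : IsOpenImmersion c := by
      have hsq : IsPullback c (pullback.snd f a) (pullback.snd f k) (sp (algebraMap A' (Localization.Away (r₁ q)))) := by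
        refine IsPullback.of_right ?_ (pullback.lift_snd _ _ _) (IsPullback.of_hasPullback f k)
        rw [pullback.lift_fst]
        exact IsPullback.of_hasPullback f a
      exact MorphismProperty.of_isPullback hsq.flip inferInstance
    have hjc : j₂ ≫ c = j₁ q := by
      refine pullback.hom_ext ?_ ?_
      · rw [Category.assoc, pullback.lift_fst, pullback.lift_fst]
      · rw [Category.assoc, pullback.lift_snd, pullback.lift_snd_assoc]
        exact (hj₁ q).symm
    haveI : IsOpenImmersion (j₂ ≫ c) := hjc ▸ hjo q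
    haveI : IsOpenImmersion j₂ := IsOpenImmersion.of_comp j₂ c
    obtain ⟨I, hI, hIfg⟩ := exists_repIdeal_chart f₂ (pullback.snd y (pullback.fst f a)) j₂
      (pullback.lift_snd _ _ _) (e q)
    refine ⟨I, fun R' _ φ => ?_, fun hq => hIfg (MorphismProperty.pullback_snd _ _ hq)⟩
    rw [← hI R' φ, Category.comp_id, inY_base_change]
  choose I hI hIfg using hloc
  obtain ⟨J, hJ⟩ := exists_repIdeal (isLocalProp_inY f y) k fun q => ⟨r₁ q, hr₁ q, I q, hI q⟩
  refine ⟨J, hJ, fun hq => Ideal.fg_of_localizationSpan (Set.range r₁) ?_ fun x => ?_⟩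
  · by_contra hne
    obtain ⟨m, hm, hle⟩ := Ideal.exists_le_maximal _ hne
    exact hr₁ ⟨m, hm.isPrime⟩ (hle (Ideal.subset_span ⟨_, rfl⟩))
  · obtain ⟨_, q, rfl⟩ := x
    rw [(hJ.map (algebraMap A' (Localization.Away (r₁ q)))).unique (hI q)]
    exact hIfg q hq

end Groth.Agent.WeilRes
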