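import Mathlib

/-!
# Flat unramified algebras of finite type are formally étale
-/

set_option autoImplicit false

universe u

open TensorProduct

namespace Groth.Agent.WeilRes

variable {A B R : Type u} [CommRing A] [CommRing B] [CommRing R] [Algebra A B] [Algebra A R]

theorem exists_lift_of_flat [Module.Flat A B] [Algebra.FormallyUnramified A B] [Algebra.EssFiniteType A B]
    (I : Ideal R) (hI : I ^ 2 = ⊥) (φ : B →ₐ[A] R ⧸ I) :
    ∃ g : B →ₐ[A] R, (Ideal.Quotient.mkₐ A I).comp g = φ := by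
  obtain ⟨t, ht, ht1⟩ := (Algebra.FormallyUnramified.iff_exists_tensorProduct (R := A) (S := B)).mp inferInstance
  let σ : (R ⧸ I) ⊗[A] B →ₐ[A] R ⧸ I := Algebra.TensorProduct.lift (AlgHom.id A _) φ fun _ _ => Commute.all _ _
  let Φ : B ⊗[A] B →ₐ[A] (R ⧸ I) ⊗[A] B := Algebra.TensorProduct.map φ (AlgHom.id A B)
  let e := Φ t
  have hσe : σ e = 1 := by
    have h : σ.comp Φ = φ.comp (Algebra.TensorProduct.lmul' A) :=
      Algebra.TensorProduct.ext' fun x y => by simp [σ, Φ]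
    calc σ e = φ (Algebra.TensorProduct.lmul' A t) := AlgHom.congr_fun h t
      _ = 1 := by rw [ht1, map_one]
  have hmul : ∀ z : (R ⧸ I) ⊗[A] B, z * e = (σ z ⊗ₜ[A] (1 : B)) * e := by
    intro z
    induction z using TensorProduct.induction_on with
    | zero => simp
    | tmul q b =>
      have h := congrArg Φ (ht b)
      rw [map_mul, map_sub, map_zero, sub_mul, sub_eq_zero] at h
      simp only [Φ, Algebra.TensorProduct.map_tmul, map_one, AlgHom.id_apply] at h
      have h1 : (q ⊗ₜ[A] b : (R ⧸ I) ⊗[A] B) = (q ⊗ₜ[A] 1) * (1 ⊗ₜ[A] b) := by simp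
      have h2 : (σ (q ⊗ₜ[A] b) ⊗ₜ[A] (1 : B) : (R ⧸ I) ⊗[A] B) = (q ⊗ₜ[A] 1) * (φ b ⊗ₜ[A] 1) := by simp [σ]
      rw [h1, ← h1]
      conv_lhs => rw [h1, mul_assoc]
      rw [h2, mul_assoc]
      exact congrArg _ h
    | add a b ha hb => rw [add_mul, ha, hb, map_add, TensorProduct.add_tmul, add_mul]
  have hee : IsIdempotentElem e := by
    show e * e = e
    rw [hmul e, hσe, ← Algebra.TensorProduct.one_def, one_mul]
  let π : R ⊗[A] B →ₐ[A] (R ⧸ I) ⊗[A] B := Algebra.TensorProduct.map (Ideal.Quotient.mkₐ A I) (AlgHom.id A B)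
  have hsurj : Function.Surjective π :=
    Algebra.TensorProduct.map_surjective _ _ (Ideal.Quotient.mkₐ_surjective A I) fun b => ⟨b, rfl⟩
  have hker : RingHom.ker π = I.map (algebraMap R (R ⊗[A] B)) := by
    rw [Algebra.TensorProduct.rTensor_ker _ (Ideal.Quotient.mkₐ_surjective A I),
      show RingHom.ker (Ideal.Quotient.mkₐ A I) = I from Ideal.mk_ker]
    rfl
  have hnil : ∀ x ∈ RingHom.ker π.toRingHom, IsNilpotent x := fun x hx => ⟨2, by
    have h : x ^ 2 ∈ (I ^ 2).map (algebraMap R (R ⊗[A] B)) := by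
      rw [Ideal.map_pow]
      exact Ideal.pow_mem_pow (hker ▸ hx) 2
    rwa [hI, Ideal.map_bot, Ideal.mem_bot] at h⟩
  obtain ⟨e', he', hπe⟩ := exists_isIdempotentElem_eq_of_ker_isNilpotent π.toRingHom hnil e (hsurj e) hee
  let K : Ideal (R ⊗[A] B) := Ideal.span {1 - e'}
  haveI : K.Pure := Ideal.Pure.of_isIdempotentElem (Submodule.fg_span_singleton _)
    ((Ideal.isIdempotentElem_iff_of_fg _ (Submodule.fg_span_singleton _)).mpr ⟨1 - e', he'.one_sub, rfl⟩)
  let T := (R ⊗[A] B) ⧸ K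
  haveI : Module.Flat R T := Module.Flat.trans R (R ⊗[A] B) T
  let ψ : R →+* T := algebraMap R T
  let σT : T →+* R ⧸ I := Ideal.Quotient.lift K (σ.comp π).toRingHom (by
    intro x hx
    obtain ⟨y, rfl⟩ := Ideal.mem_span_singleton'.mp hx
    show σ (π (y * (1 - e'))) = 0
    rw [map_mul, map_sub, map_one, show π e' = e from hπe, map_mul, map_sub, map_one, hσe, sub_self, mul_zero])
  have hσψ : ∀ r, σT (ψ r) = Ideal.Quotient.mk I r := fun r => by
    show σ (π (r ⊗ₜ[A] 1)) = _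
    simp [σ, π]
  have hstep : ∀ x : T, ∃ r : R, x - ψ r ∈ I.map ψ := by
    intro x
    obtain ⟨x, rfl⟩ := Ideal.Quotient.mk_surjective x
    obtain ⟨r, hr⟩ := Ideal.Quotient.mk_surjective (σ (π x))
    refine ⟨r, ?_⟩
    let w := x - r ⊗ₜ[A] (1 : B)
    have hw : w * e' ∈ RingHom.ker π := by
      rw [RingHom.mem_ker, map_mul, show π e' = e from hπe, map_sub,
        show π (r ⊗ₜ[A] 1) = σ (π x) ⊗ₜ[A] 1 by simp [π, hr], sub_mul, hmul, sub_self]
    have h2 : Ideal.Quotient.mk K x - ψ r = Ideal.Quotient.mk K (w * e') := by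
      show Ideal.Quotient.mk K x - Ideal.Quotient.mk K (r ⊗ₜ[A] 1) = _
      rw [← map_sub, Ideal.Quotient.eq]
      exact Ideal.mem_span_singleton'.mpr ⟨w, by ring⟩
    rw [h2]
    have h3 := Ideal.mem_map_of_mem (Ideal.Quotient.mk K) (hker ▸ hw)
    rwa [Ideal.map_map] at h3
  have hmem : ∀ z ∈ I.map ψ, ∃ r, ψ r = z := by
    intro z hz
    suffices h : ∀ t : T, ∃ r, ψ r = z * t by simpa using h 1
    induction hz using Submodule.span_induction with
    | mem y hy =>
      obtain ⟨i, hi, rfl⟩ := hy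
      intro t
      obtain ⟨r, hr⟩ := hstep t
      refine ⟨i * r, ?_⟩
      have h0 : ψ i * (t - ψ r) = 0 := by
        have h := Ideal.mul_mem_mul (Ideal.mem_map_of_mem ψ hi) hr
        rwa [← Ideal.map_mul, ← pow_two, hI, Ideal.map_bot, Ideal.mem_bot] at h
      rw [map_mul]
      linear_combination -h0
    | zero => intro t; exact ⟨0, by simp⟩
    | add y z _ _ hy hz =>
      intro t
      obtain ⟨a, ha⟩ := hy t
      obtain ⟨b, hb⟩ := hz t
      exact ⟨a + b, by rw [map_add, ha, hb, add_mul]⟩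
    | smul c y _ hy =>
      intro t
      obtain ⟨a, ha⟩ := hy (c * t)
      exact ⟨a, by rw [ha, smul_eq_mul]; ring⟩
  have hψs : Function.Surjective ψ := fun x => by
    obtain ⟨r, hr⟩ := hstep x
    obtain ⟨r', hr'⟩ := hmem _ hr
    exact ⟨r + r', by rw [map_add, hr']; ring⟩
  haveI : (RingHom.ker ψ).Pure :=
    Module.Flat.of_linearEquiv (Ideal.quotientKerAlgEquivOfSurjective (f := Algebra.ofId R T) hψs).toLinearEquiv
  have hψi : Function.Injective ψ := by
    rw [injective_iff_map_eq_zero]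
    intro x hx
    have hle : ∀ y ∈ RingHom.ker ψ, y ∈ I := fun y hy => by
      rw [← Ideal.Quotient.eq_zero_iff_mem, ← hσψ, RingHom.mem_ker.mp hy, map_zero]
    obtain ⟨y, hy, hxy⟩ := Ideal.exists_eq_mul_of_pure (I := RingHom.ker ψ) hx
    have : y * y = 0 := by
      have h := Ideal.mul_mem_mul (hle y hy) (hle y hy)
      rwa [← pow_two, hI, Ideal.mem_bot] at h
    rw [hxy, hxy, mul_assoc, this, mul_zero]
  let E : R ≃ₐ[A] T := AlgEquiv.ofBijective (IsScalarTower.toAlgHom A R T) ⟨hψi, hψs⟩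
  refine ⟨(E.symm.toAlgHom).comp ((Ideal.Quotient.mkₐ A K).comp Algebra.TensorProduct.includeRight), ?_⟩
  ext b
  show Ideal.Quotient.mk I (E.symm (Ideal.Quotient.mk K ((1 : R) ⊗ₜ[A] b))) = φ b
  rw [← hσψ, show ψ (E.symm (Ideal.Quotient.mk K ((1 : R) ⊗ₜ[A] b))) = Ideal.Quotient.mk K ((1 : R) ⊗ₜ[A] b) from
    E.apply_symm_apply _]
  show σ (π (1 ⊗ₜ[A] b)) = φ b
  simp [σ, π]

theorem formallyEtale_of_flat [Module.Flat A B] [Algebra.FormallyUnramified A B] [Algebra.EssFiniteType A B] :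
    Algebra.FormallyEtale A B :=
  haveI : Algebra.FormallySmooth A B :=
    Algebra.FormallySmooth.of_comp_surjective fun _ _ _ I hI φ => exists_lift_of_flat I hI φ
  Algebra.FormallyEtale.iff_formallyUnramified_and_formallySmooth.mpr ⟨inferInstance, inferInstance⟩

end Groth.Agent.WeilRes
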