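import Groth.Agent.UnrStalkLib.DualNumbers
import Groth.Agent.FFDescLib.EtaleGraph
import Mathlib

/-!
# A scheme over a field with one geometric point and no tangent vectors
-/

set_option autoImplicit false
set_option linter.style.haveILetI false

universe u

open CategoryTheory CategoryTheory.Limits AlgebraicGeometry IsLocalRing
open RichLib.UnrLocus

noncomputable section

namespace WeilResLib

theorem isIso_of_points_of_tangent {k : Type u} [Field k] {N : Scheme.{u}} (p : N ⟶ Spec (CommRingCat.of k))
    [LocallyOfFiniteType p] (σ : Spec (CommRingCat.of k) ⟶ N) (hσ : σ ≫ p = 𝟙 _)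
    (hpt : ∀ (K : Type u) [Field K] [IsAlgClosed K] [Algebra k K] (x : Spec (CommRingCat.of K) ⟶ N),
      x ≫ p = Spec.map (CommRingCat.ofHom (algebraMap k K)) →
        x = Spec.map (CommRingCat.ofHom (algebraMap k K)) ≫ σ)
    (htan : ∀ v : Spec (CommRingCat.of (DualNumber k)) ⟶ N,
      v ≫ p = Spec.map (CommRingCat.ofHom (algebraMap k (DualNumber k))) →
      Spec.map (CommRingCat.ofHom (TrivSqZeroExt.fstHom k k k).toRingHom) ≫ v = σ →
        v = Spec.map (CommRingCat.ofHom (algebraMap k (DualNumber k))) ≫ σ) : IsIso p := by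
  have hall : ∀ x : N, x = σ (closedPoint k) := by
    intro x
    let K := AlgebraicClosure (N.residueField x)
    let j : Spec (CommRingCat.of K) ⟶ N :=
      Spec.map (CommRingCat.ofHom (algebraMap (N.residueField x) K)) ≫ N.fromSpecResidueField x
    obtain ⟨φ, hφ⟩ := Spec.map_surjective (j ≫ p)
    letI : Algebra k K := φ.hom.toAlgebra
    have h := hpt K j (by rw [← hφ]; rfl)
    have hj : j (closedPoint K) = x := by
      simp only [j, Scheme.Hom.comp_apply]
      exact Scheme.fromSpecResidueField_apply x _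
    rw [← hj, h, Scheme.Hom.comp_apply]
    exact congrArg σ (Subsingleton.elim (α := PrimeSpectrum k) _ _)
  haveI : Subsingleton N := ⟨fun a b => (hall a).trans (hall b).symm⟩
  have hk : Function.Bijective (algebraMap k k) := by simpa using Function.bijective_id
  let φ := CommRingCat.ofHom (TrivSqZeroExt.fstHom k k k).toRingHom
  have hred : CommRingCat.ofHom (algebraMap k (DualNumber k)) ≫ φ = 𝟙 _ :=
    CommRingCat.hom_ext (RingHom.ext fun a => rfl)
  have hkpt : ∀ v : Spec (CommRingCat.of (DualNumber k)) ⟶ N,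
      v ≫ p = Spec.map (CommRingCat.ofHom (algebraMap k (DualNumber k))) → Spec.map φ ≫ v = σ := by
    intro v hv
    let K := AlgebraicClosure k
    let a : Spec (CommRingCat.of K) ⟶ Spec (CommRingCat.of k) := Spec.map (CommRingCat.ofHom (algebraMap k K))
    have h1 : (Spec.map φ ≫ v) ≫ p = 𝟙 _ := by
      rw [Category.assoc, hv, ← Spec.map_comp, hred, Spec.map_id]
    have h2 : a ≫ (Spec.map φ ≫ v) = a ≫ σ := hpt K _ (by rw [Category.assoc, h1, Category.comp_id])
    haveI : Epi a := by
      obtain ⟨hb1, hb2⟩ := (flat_and_surjective_SpecMap_iff (CommRingCat.ofHom (algebraMap k K))).mpr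
        (RingHom.faithfullyFlat_algebraMap_iff.mpr inferInstance)
      haveI : Flat a := hb1
      haveI : Surjective a := hb2
      exact Flat.epi_of_flat_of_surjective a
    exact (cancel_epi a).mp h2
  have hun : (p.stalkMap (σ (closedPoint k))).hom.FormallyUnramified :=
    UnrStalkLib.formallyUnramified_of_dualNumber p σ rfl hσ fun v₁ v₂ h1 h2 _ =>
      (htan v₁ h1 (hkpt v₁ h1)).trans (htan v₂ h2 (hkpt v₂ h2)).symm
  haveI : FormallyUnramified p := (locus_eq_univ_iff p).mp (Set.eq_univ_iff_forall.mpr fun x => by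
    rw [hall x]; exact UnrStalkLib.mem_locus_of_stalkMap p hun)
  haveI : IsOpenImmersion σ := FFDescLib.isOpenImmersion_of_section p σ hσ
  haveI : Surjective σ := ⟨fun x => ⟨closedPoint k, (hall x).symm⟩⟩
  haveI : IsIso σ := (isIso_iff_isOpenImmersion_and_epi_base σ).mpr ⟨inferInstance, by
    rw [TopCat.epi_iff_surjective]; exact Surjective.surj⟩
  exact ⟨σ, by rw [← cancel_epi σ, reassoc_of% hσ, Category.comp_id], hσ⟩

end WeilResLib
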