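import Groth.Agent.WeilResLib.GrpGen
import Groth.Agent.HomogSepLib.Irr
import Groth.Prelude.Def_AlgGrp

/-!
# Equivariant etale maps reflect fixed points for groups with connected fibres
-/

set_option autoImplicit false
set_option backward.isDefEq.respectTransparency false

noncomputable section

universe u

open CategoryTheory CategoryTheory.Limits MonoidalCategory CartesianMonoidalCategory AlgebraicGeometry
open scoped MonObj

namespace Groth.Agent.WeilRes

variable {S : Scheme.{u}} {G : Over S} [GrpObj G]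

/-- In a group with connected fibres every geometric point is a product of two points of a given open
neighbourhood of the unit. -/
theorem exists_mul_mem [LocallyOfFiniteType G.hom] [GeometricallyConnected G.hom] {L : Type u} [Field L] [IsAlgClosed L]
    (t : Spec (CommRingCat.of L) ⟶ S) (W : Set ↥(G ⊗ Over.mk t).left) (hW : IsOpen W)
    (h1 : (lift (1 : Over.mk t ⟶ G) (𝟙 _)).left (IsLocalRing.closedPoint L) ∈ W) (g : Over.mk t ⟶ G) :
    ∃ g₁ g₂ : Over.mk t ⟶ G, g = g₁ * g₂ ∧
      (lift g₁ (𝟙 (Over.mk t))).left (IsLocalRing.closedPoint L) ∈ W ∧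
      (lift g₂ (𝟙 (Over.mk t))).left (IsLocalRing.closedPoint L) ∈ W := by
  let T : Over S := Over.mk t
  let pt : T.left := IsLocalRing.closedPoint L
  let Gt := (Over.pullback t).obj G
  letI : GrpObj Gt := Functor.grpObjObj
  haveI : LocallyOfFiniteType Gt.hom := MorphismProperty.pullback_snd _ _ inferInstance
  haveI : GeometricallyConnected Gt.hom := inferInstanceAs (GeometricallyConnected (pullback.snd G.hom t))
  haveI : ConnectedSpace Gt.left := GeometricallyConnected.connectedSpace_of_subsingleton Gt.hom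
  haveI : IrreducibleSpace ↥(G ⊗ T).left := HomogSep.irreducibleSpace_grp (G := Gt)
  haveI : JacobsonSpace ↥(G ⊗ T).left := LocallyOfFiniteType.jacobsonSpace Gt.hom
  let v : G ⊗ T ⟶ G ⊗ T := lift ((fst G T)⁻¹ * (snd G T ≫ g)) (snd G T)
  let b : T ⟶ G ⊗ T := lift g (𝟙 T)
  have hb : (b ≫ v).left pt ∈ W := by
    rw [show b ≫ v = lift 1 (𝟙 T) from CartesianMonoidalCategory.hom_ext _ _
      (by simp [v, b, MonObj.comp_mul, GrpObj.comp_inv]) (by simp [v, b])]
    exact h1
  obtain ⟨z₀, -, hz₀, hzv⟩ := (IrreducibleSpace.isIrreducible_univ ↥(G ⊗ T).left).2 W (v.left ⁻¹' W) hW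
    (hW.preimage v.left.continuous) ⟨_, Set.mem_univ _, h1⟩ ⟨b.left pt, Set.mem_univ _, hb⟩
  obtain ⟨z, ⟨hzW, hzv⟩, hzc⟩ := nonempty_inter_closedPoints (Z := W ∩ v.left ⁻¹' W) ⟨z₀, hz₀, hzv⟩
    (hW.inter (hW.preimage v.left.continuous)).isLocallyClosed
  obtain ⟨⟨q, hq⟩, e⟩ := (pointEquivClosedPoint Gt.hom).surjective ⟨z, hzc⟩
  have hqz : q pt = z := congrArg Subtype.val e
  let Q : T ⟶ G ⊗ T := Over.homMk q (by
    show q ≫ pullback.fst G.hom t ≫ G.hom = t
    rw [pullback.condition, ← Category.assoc,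
      show q ≫ pullback.snd G.hom t = 𝟙 _ from hq, Category.id_comp])
  have hQ : Q ≫ snd G T = 𝟙 T := Over.OverMorphism.ext (show q ≫ pullback.snd G.hom t = 𝟙 _ from hq)
  have hQ' : lift (Q ≫ fst G T) (𝟙 T) = Q := CartesianMonoidalCategory.hom_ext _ _ (by simp) (by simp [hQ])
  refine ⟨Q ≫ fst G T, (Q ≫ fst G T)⁻¹ * g, (mul_inv_cancel_left _ _).symm, ?_, ?_⟩
  · rw [hQ']
    show q pt ∈ W
    rwa [hqz]
  · rw [show lift ((Q ≫ fst G T)⁻¹ * g) (𝟙 T) = Q ≫ v from CartesianMonoidalCategory.hom_ext _ _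
      (by simp [v, MonObj.comp_mul, GrpObj.comp_inv, reassoc_of% hQ]) (by simp [v, hQ])]
    show (q ≫ v.left) pt ∈ W
    rw [Scheme.Hom.comp_apply, hqz]
    exact hzv

theorem act_mul {G X : Over S} [GrpObj G] (a : AlgGrp.Action G X) {T : Over S} (g h : T ⟶ G) (x : T ⟶ X) :
    lift (g * h) x ≫ a.act = lift g (lift h x ≫ a.act) ≫ a.act := by
  have := congrArg (lift (lift g h) x ≫ ·) a.mul_act
  simp only [lift_whiskerRight_assoc] at this
  rw [Hom.mul_def]
  refine this.trans ?_
  rw [← Category.assoc, lift_lift_associator_hom, ← Category.assoc, lift_whiskerLeft]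

theorem act_one {G X : Over S} [GrpObj G] (a : AlgGrp.Action G X) {T : Over S} (x : T ⟶ X) :
    lift (1 : T ⟶ G) x ≫ a.act = x := by
  rw [Hom.one_def, ← lift_whiskerRight, Category.assoc, a.one_act, lift_leftUnitor_hom]

/-- An etale equivariant map reflects fixed points. -/
theorem isFixed_of_etale [LocallyOfFiniteType G.hom] [GeometricallyConnected G.hom] {X Y : Over S}
    (a : AlgGrp.Action G X) (f : X ⟶ Y) [Etale f.left] {T : Over S} (x : T ⟶ X)
    (hx : lift (fst G T) (snd G T ≫ x) ≫ a.act ≫ f = (snd G T ≫ x) ≫ f)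
    {T' : Over S} (t : T' ⟶ T) (g : T' ⟶ G) : lift g (t ≫ x) ≫ a.act = t ≫ x := by
  let φ₁ : G ⊗ T ⟶ X := lift (fst G T) (snd G T ≫ x) ≫ a.act
  let φ₂ : G ⊗ T ⟶ X := snd G T ≫ x
  have hφ : φ₁.left ≫ f.left = φ₂.left ≫ f.left := by
    rw [← Over.comp_left, ← Over.comp_left]
    exact congrArg CommaMorphism.left ((Category.assoc _ _ _).trans hx)
  let m : (G ⊗ T).left ⟶ pullback f.left f.left := pullback.lift φ₁.left φ₂.left hφ
  let j := pullback.fst m (pullback.diagonal f.left)
  haveI : IsOpenImmersion j := inferInstanceAs (IsOpenImmersion (pullback.fst m _))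
  have heq : j ≫ φ₁.left = j ≫ φ₂.left := by
    have h1 := congrArg (· ≫ pullback.fst f.left f.left) (pullback.condition (f := m) (g := pullback.diagonal f.left))
    have h2 := congrArg (· ≫ pullback.snd f.left f.left) (pullback.condition (f := m) (g := pullback.diagonal f.left))
    simp only [m, Category.assoc, pullback.lift_fst, pullback.lift_snd, pullback.diagonal_fst,
      pullback.diagonal_snd] at h1 h2
    exact h1.trans h2.symm
  -- a geometric point lies in the range of `j` iff it stabilises `x`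
  have hmem : ∀ {L : Type u} [Field L] (tL : Spec (CommRingCat.of L) ⟶ S) (P : Over.mk tL ⟶ G ⊗ T),
      (P.left (IsLocalRing.closedPoint L) ∈ Set.range j ↔ P ≫ φ₁ = P ≫ φ₂) := by
    intro L _ tL P
    constructor
    · intro h
      have hr : Set.range P.left ⊆ Set.range j := by
        rintro _ ⟨q, rfl⟩
        rw [Subsingleton.elim (α := ↥(Spec (CommRingCat.of L))) q (IsLocalRing.closedPoint L)]
        exact h
      refine Over.OverMorphism.ext ?_
      show P.left ≫ φ₁.left = P.left ≫ φ₂.left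
      exact (congrArg (· ≫ φ₁.left) (IsOpenImmersion.lift_fac j P.left hr).symm).trans (((Category.assoc _ _ _).trans
        ((congrArg (IsOpenImmersion.lift j P.left hr ≫ ·) heq).trans (Category.assoc _ _ _).symm)).trans
          (congrArg (· ≫ φ₂.left) (IsOpenImmersion.lift_fac j P.left hr)))
    · intro h
      have h' : P.left ≫ φ₁.left = P.left ≫ φ₂.left := congrArg CommaMorphism.left h
      let w : Spec (CommRingCat.of L) ⟶ pullback m (pullback.diagonal f.left) :=
        pullback.lift P.left (P.left ≫ φ₁.left) (by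
          refine pullback.hom_ext ?_ ?_
          · simp [m]
          · simp [m, h'])
      refine ⟨w (IsLocalRing.closedPoint L), ?_⟩
      rw [← Scheme.Hom.comp_apply, pullback.lift_fst]
      rfl
  haveI : Surjective j := by
    refine ⟨fun p => ?_⟩
    let κp := (G ⊗ T).left.residueField p
    let L := AlgebraicClosure κp
    let π : Spec (CommRingCat.of L) ⟶ (G ⊗ T).left :=
      Spec.map (CommRingCat.ofHom (algebraMap κp L)) ≫ (G ⊗ T).left.fromSpecResidueField p
    let TL : Over S := Over.mk (π ≫ (G ⊗ T).hom)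
    let P : TL ⟶ G ⊗ T := Over.homMk π rfl
    let pt : TL.left := IsLocalRing.closedPoint L
    have hpt : P.left pt = p := by
      show π pt = p
      rw [Scheme.Hom.comp_apply]
      exact Scheme.fromSpecResidueField_apply _ _
    let sL : TL ⟶ T := P ≫ snd G T
    let ι₀ : G ⊗ TL ⟶ G ⊗ T := G ◁ sL
    have hι : ∀ g' : TL ⟶ G, lift g' (𝟙 TL) ≫ ι₀ = lift g' sL := fun g' => by simp [ι₀]
    have hstab : ∀ g' : TL ⟶ G, (lift g' (𝟙 TL)).left pt ∈ ι₀.left ⁻¹' Set.range j ↔
        lift g' (sL ≫ x) ≫ a.act = sL ≫ x := fun g' => by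
      rw [Set.mem_preimage, ← Scheme.Hom.comp_apply, ← Over.comp_left, hι, hmem]
      simp [φ₁, φ₂, comp_lift_assoc]
    obtain ⟨g₁, g₂, hg, hg₁, hg₂⟩ := exists_mul_mem (π ≫ (G ⊗ T).hom) (ι₀.left ⁻¹' Set.range j)
      (j.isOpenEmbedding.isOpen_range.preimage ι₀.left.continuous) ((hstab 1).2 (act_one a _)) (P ≫ fst G T)
    have hP : lift (P ≫ fst G T) sL = P := CartesianMonoidalCategory.hom_ext _ _ (by simp) (by simp [sL])
    have h3 := (hstab (P ≫ fst G T)).2 (by
      rw [hg, act_mul, (hstab g₂).1 hg₂, (hstab g₁).1 hg₁])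
    rwa [Set.mem_preimage, ← Scheme.Hom.comp_apply, ← Over.comp_left, hι, hP, hpt] at h3
  haveI : IsIso j := (isIso_iff_isOpenImmersion_and_epi_base j).2
    ⟨inferInstance, (TopCat.epi_iff_surjective _).2 j.surjective⟩
  have hall : φ₁ = φ₂ := Over.OverMorphism.ext ((cancel_epi j).1 heq)
  have := congrArg (lift g t ≫ ·) hall
  simpa [φ₁, φ₂, comp_lift_assoc] using this

end Groth.Agent.WeilRes
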