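import Groth.Agent.WeilResLib.Maps

/-!
# Fixed loci of actions stabilising every open
-/

set_option autoImplicit false
set_option backward.isDefEq.respectTransparency false

noncomputable section

universe u

open CategoryTheory CategoryTheory.Limits MonoidalCategory CartesianMonoidalCategory AlgebraicGeometry

namespace Groth.Agent.WeilRes

variable {S : Scheme.{u}} {P X : Over S}

/-- The equalizer of a stable family of morphisms with the projection is closed. -/
theorem isClosedImmersion_eq_fst_of_stable (a : P ⊗ X ⟶ P)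
    (hst : ∀ U : P.left.Opens, (fst P X).left ⁻¹ᵁ U ≤ a.left ⁻¹ᵁ U) :
    IsClosedImmersion (pullback.fst (lift a (fst P X)).left (lift (𝟙 P) (𝟙 P) : P ⟶ P ⊗ P).left) := by
  haveI : IsImmersion (lift (𝟙 P) (𝟙 P) : P ⟶ P ⊗ P).left :=
    inferInstanceAs (IsImmersion (pullback.diagonal P.hom))
  rw [IsClosedImmersion.iff_isPreimmersion]
  refine ⟨inferInstance, ?_⟩
  rw [Scheme.Pullback.range_fst]
  let U : P.left → P.left.Opens := fun z =>
    (exists_isAffineOpen_mem_and_subset (X := P.left) (x := z) (U := ⊤) trivial).choose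
  have hU : ∀ z, IsAffineOpen (U z) ∧ z ∈ U z := fun z =>
    let h := (exists_isAffineOpen_mem_and_subset (X := P.left) (x := z) (U := ⊤) trivial).choose_spec
    ⟨h.1, h.2.1⟩
  let W : P.left → (P ⊗ X).left.Opens := fun z => (fst P X).left ⁻¹ᵁ U z
  have hW : TopologicalSpace.IsOpenCover W := by
    refine TopologicalSpace.IsOpenCover.mk (eq_top_iff.2 fun w _ => TopologicalSpace.Opens.mem_iSup.2 ?_)
    exact ⟨(fst P X).left w, (hU _).2⟩
  rw [hW.isClosed_iff_coe_preimage]
  intro z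
  haveI : IsAffine (U z : Scheme.{u}) := (hU z).1
  let PU : Over S := Over.mk ((U z).ι ≫ P.hom)
  haveI : IsSeparated PU.hom := by
    haveI : IsAffine PU.left := (hU z).1
    have : IsSeparated (PU.hom ≫ terminal.from S) := by
      rw [Subsingleton.elim (PU.hom ≫ terminal.from S) (terminal.from _)]
      exact Scheme.IsSeparated.isSeparated_terminal_from
    exact IsSeparated.of_comp PU.hom (terminal.from S)
  let ι : PU ⟶ P := Over.homMk (U z).ι rfl
  let WU : Over S := Over.mk ((W z).ι ≫ (P ⊗ X).hom)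
  let ιW : WU ⟶ P ⊗ X := Over.homMk (W z).ι rfl
  have r1 : Set.range (ιW ≫ a).left ⊆ Set.range (U z).ι := by
    rintro _ ⟨w, rfl⟩
    rw [Scheme.Opens.range_ι]
    exact hst (U z) w.2
  have r2 : Set.range (ιW ≫ fst P X).left ⊆ Set.range (U z).ι := by
    rintro _ ⟨w, rfl⟩
    rw [Scheme.Opens.range_ι]
    exact w.2
  let a' : WU ⟶ PU := Over.homMk (IsOpenImmersion.lift (U z).ι (ιW ≫ a).left r1) (by
    show _ ≫ (U z).ι ≫ P.hom = _
    rw [IsOpenImmersion.lift_fac_assoc, Over.w])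
  let b' : WU ⟶ PU := Over.homMk (IsOpenImmersion.lift (U z).ι (ιW ≫ fst P X).left r2) (by
    show _ ≫ (U z).ι ≫ P.hom = _
    rw [IsOpenImmersion.lift_fac_assoc, Over.w])
  have ha' : a' ≫ ι = ιW ≫ a := Over.OverMorphism.ext (IsOpenImmersion.lift_fac _ _ r1)
  have hb' : b' ≫ ι = ιW ≫ fst P X := Over.OverMorphism.ext (IsOpenImmersion.lift_fac _ _ r2)
  haveI : IsClosedImmersion (lift (𝟙 PU) (𝟙 PU) : PU ⟶ PU ⊗ PU).left :=
    inferInstanceAs (IsClosedImmersion (pullback.diagonal PU.hom))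
  have hc : lift a' b' ≫ (ι ⊗ₘ ι) = ιW ≫ lift a (fst P X) := by
    rw [lift_map, ha', hb', comp_lift]
  have hd : lift (𝟙 PU) (𝟙 PU) ≫ (ι ⊗ₘ ι) = ι ≫ lift (𝟙 P) (𝟙 P) := by
    rw [lift_map, comp_lift, Category.id_comp, Category.comp_id]
  haveI : Mono ι := Over.mono_of_mono_left ι
  have hinj : Function.Injective (ι ⊗ₘ ι).left := by
    haveI : IsOpenImmersion (ι ⊗ₘ ι).left := by
      haveI : IsOpenImmersion ι.left := inferInstanceAs (IsOpenImmersion (U z).ι)
      rw [Over.tensorHom_left]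
      exact inferInstanceAs (IsOpenImmersion (pullback.map ..))
    exact (ι ⊗ₘ ι).left.isOpenEmbedding.injective
  have key : (Subtype.val ⁻¹' ((lift a (fst P X)).left ⁻¹' Set.range (lift (𝟙 P) (𝟙 P) : P ⟶ P ⊗ P).left) :
      Set (W z)) = (lift a' b').left ⁻¹' Set.range (lift (𝟙 PU) (𝟙 PU) : PU ⟶ PU ⊗ PU).left := by
    ext w
    have hw : (lift a (fst P X)).left w.1 = (ι ⊗ₘ ι).left ((lift a' b').left w) := by
      rw [← Scheme.Hom.comp_apply, ← Over.comp_left, hc, Over.comp_left, Scheme.Hom.comp_apply]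
      rfl
    constructor
    · rintro ⟨q, hq⟩
      have hq1 : q ∈ U z := by
        have h1 : q = (fst P P).left ((lift a (fst P X)).left w.1) := by
          rw [← hq, ← Scheme.Hom.comp_apply, ← Over.comp_left, lift_fst]; rfl
        rw [h1, ← Scheme.Hom.comp_apply, ← Over.comp_left, lift_fst]
        exact hst (U z) w.2
      refine ⟨⟨q, hq1⟩, hinj ?_⟩
      rw [← hw, ← hq, ← Scheme.Hom.comp_apply, ← Over.comp_left, hd, Over.comp_left, Scheme.Hom.comp_apply]
      rfl
    · rintro ⟨q, hq⟩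
      refine ⟨ι.left q, ?_⟩
      show (lift (𝟙 P) (𝟙 P) : P ⟶ P ⊗ P).left (ι.left q) = (lift a (fst P X)).left w.1
      rw [hw, ← hq, ← Scheme.Hom.comp_apply, ← Scheme.Hom.comp_apply, ← Over.comp_left, ← Over.comp_left, hd]
  show IsClosed (Subtype.val ⁻¹' _ : Set (W z))
  rw [key]
  exact ((lift (𝟙 PU) (𝟙 PU) : PU ⟶ PU ⊗ PU).left.isClosedEmbedding.isClosed_range).preimage
    (lift a' b').left.continuous

/-- The fixed locus of a stable family along an essentially free parameter is closed. -/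
theorem exists_fixed_of_stable (a : P ⊗ X ⟶ P) (hX : SGA3x.IsEssentiallyFree X.hom)
    (hst : ∀ U : P.left.Opens, (fst P X).left ⁻¹ᵁ U ≤ a.left ⁻¹ᵁ U) :
    ∃ (T : Over S) (t : T ⟶ P), IsClosedImmersion t.left ∧
      ∀ (S' : Over S) (g : S' ⟶ P), (∃ z : S' ⟶ T, z ≫ t = g) ↔
        ∀ (S'' : Over S) (s : S'' ⟶ S') (x : S'' ⟶ X), lift (s ≫ g) x ≫ a = s ≫ g := by
  obtain ⟨T, t, h1, h2, -⟩ := exists_eqLocus_essFree' a (fst P X) hX (isClosedImmersion_eq_fst_of_stable a hst)
  exact ⟨T, t, h1, fun S' g => (h2 S' g).trans (forall₃_congr fun S'' s x => by rw [lift_fst])⟩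

end Groth.Agent.WeilRes
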