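import Groth.Agent.WeilResLib.Closed
import Mathlib.RingTheory.TensorProduct.Free

/-!
# Weil restriction of a closed subscheme along a morphism to a field
-/

set_option autoImplicit false
set_option backward.isDefEq.respectTransparency false

noncomputable section

universe u

open CategoryTheory CategoryTheory.Limits AlgebraicGeometry
open scoped TensorProduct

namespace Groth.Agent.WeilRes

/-- The ring map underlying a base change of a coefficient map, on coordinates. -/
theorem repr_baseChange_map {k R R' A : Type u} [Field k] [CommRing R] [CommRing R'] [CommRing A]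
    [Algebra k R] [Algebra k R'] [Algebra k A] (φ : R →ₐ[k] R') {ι : Type*} (b : Module.Basis ι k A)
    (x : R ⊗[k] A) (i : ι) :
    (b.baseChange R').repr (Algebra.TensorProduct.map φ (AlgHom.id k A) x) i =
      φ ((b.baseChange R).repr x i) := by
  induction x using TensorProduct.induction_on with
  | zero => simp
  | tmul r a => simp [Module.Basis.baseChange_repr_tmul, map_smul]
  | add x y hx hy => simp [map_add, hx, hy]

/-- Over a field, the locus over which all of `X` lands in a closed subscheme is closed. -/
theorem exists_closed_inY_field {k : Type u} [Field k] {P X Y : Scheme.{u}}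
    (p : P ⟶ Spec (CommRingCat.of k)) (q : X ⟶ Spec (CommRingCat.of k))
    (y : Y ⟶ pullback p q) [IsClosedImmersion y] :
    ∃ (T : Scheme.{u}) (t : T ⟶ P), IsClosedImmersion t ∧
      ∀ ⦃S' : Scheme.{u}⦄ (g : S' ⟶ P), (∃ g' : S' ⟶ T, g' ≫ t = g) ↔ InY (pullback.fst p q) y g := by
  obtain ⟨T, t, h1, h2, -⟩ := exists_closed (isLocalProp_inY (pullback.fst p q) y) False fun s => by
    obtain ⟨V, hV, hsV, -⟩ := exists_isAffineOpen_mem_and_subset (X := P) (x := s) (U := ⊤) trivial
    let R : Type u := Γ(P, V)
    let j : Spec (CommRingCat.of R) ⟶ P := hV.fromSpec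
    refine ⟨CommRingCat.of R, j, inferInstanceAs (IsOpenImmersion hV.fromSpec), hV.range_fromSpec.ge hsV, ?_⟩
    obtain ⟨ρ, hρ⟩ := Spec.map_surjective (j ≫ p)
    letI : Algebra k R := ρ.hom.toAlgebra
    let 𝒰 := X.affineCover
    suffices key : ∀ (A : CommRingCat.{u}) (ja : Spec A ⟶ X), ∃ I : Ideal R,
        ∀ (R' : Type u) [CommRing R'] (φ : R →+* R'), I ≤ RingHom.ker φ ↔
          ∃ l : pullback (pullback.fst (pullback.fst p q) (sp φ ≫ j) ≫ pullback.snd p q) ja ⟶ Y,
            l ≫ y = pullback.fst _ _ ≫ pullback.fst (pullback.fst p q) (sp φ ≫ j) by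
      choose I hI using fun a => key _ (𝒰.f a)
      refine ⟨⨆ a, I a, fun R' _ φ => ?_, False.elim⟩
      rw [iSup_le_iff]
      constructor
      · rintro ⟨l, hl⟩ a
        exact (hI a R' φ).2 ⟨pullback.fst _ _ ≫ l, by rw [Category.assoc, hl]⟩
      · intro h
        exact factors_of_cover y (𝒰.pullback₁ (pullback.fst (pullback.fst p q) (sp φ ≫ j) ≫ pullback.snd p q))
          (pullback.fst (pullback.fst p q) (sp φ ≫ j)) fun a => (hI a R' φ).1 (h a)
    intro A ja
    obtain ⟨σA, hσA⟩ := Spec.map_surjective (ja ≫ q)
    letI : Algebra k A := σA.hom.toAlgebra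
    have hA : ja ≫ q = sp (algebraMap k A) := hσA.symm
    have hR : j ≫ p = sp (algebraMap k R) := hρ.symm
    let B : Type u := R ⊗[k] A
    let m : Spec (CommRingCat.of B) ⟶ pullback p q :=
      pullback.lift (sp (Algebra.TensorProduct.includeLeftRingHom : R →+* B) ≫ j)
        (sp (Algebra.TensorProduct.includeRight : A →ₐ[k] B).toRingHom ≫ ja) (by
          rw [Category.assoc, Category.assoc, hR, hA, sp_comp]
          erw [sp_comp]
          refine congrArg sp (RingHom.ext fun r => ?_)
          exact ((Algebra.TensorProduct.includeRight : A →ₐ[k] B).commutes r).symm)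
    obtain ⟨J, θ, hθ⟩ := IsClosedImmersion.Spec_iff.1
      (inferInstance : IsClosedImmersion (pullback.snd y m))
    have hfac : ∀ {D : Type u} [CommRing D] (ψ : B →+* D),
        (∃ l, l ≫ y = sp ψ ≫ m) ↔ ∀ x ∈ J, ψ x = 0 := by
      intro D _ ψ
      constructor
      · rintro ⟨l, hl⟩ x hx
        let l' := pullback.lift l (sp ψ) hl ≫ θ.hom
        obtain ⟨ψ', hψ'⟩ := Spec.map_surjective l'
        have h1 : sp ψ = Spec.map (CommRingCat.ofHom (Ideal.Quotient.mk J) ≫ ψ') := by
          rw [Spec.map_comp, hψ']
          show _ = (pullback.lift l (sp ψ) hl ≫ θ.hom) ≫ _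
          rw [Category.assoc]
          exact ((congrArg (pullback.lift l (sp ψ) hl ≫ ·) hθ.symm).trans (pullback.lift_snd _ _ _)).symm
        have h2 : ψ x = ψ'.hom (Ideal.Quotient.mk J x) :=
          congrArg (fun m => (CommRingCat.Hom.hom m) x) (Spec.map_injective h1)
        rw [h2, Ideal.Quotient.eq_zero_iff_mem.2 hx, map_zero]
      · intro h
        refine ⟨sp (Ideal.Quotient.lift J ψ h) ≫ θ.inv ≫ pullback.fst _ _, ?_⟩
        rw [Category.assoc, Category.assoc, pullback.condition, ← Category.assoc θ.inv,
          show θ.inv ≫ pullback.snd y m = sp (Ideal.Quotient.mk J) from by rw [hθ, Iso.inv_hom_id_assoc],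
          ← Category.assoc, sp_comp, Ideal.Quotient.lift_comp_mk]
    let b := Module.Free.chooseBasis k A
    refine ⟨Ideal.span {r | ∃ x ∈ J, ∃ i, (b.baseChange R).repr x i = r}, fun R' _ φ => ?_⟩
    letI : Algebra k R' := (φ.comp (algebraMap k R)).toAlgebra
    let φk : R →ₐ[k] R' := { φ with commutes' := fun _ => rfl }
    let Φ : B →ₐ[k] R' ⊗[k] A := Algebra.TensorProduct.map φk (AlgHom.id k A)
    let ψ : B →+* R' ⊗[k] A := Φ.toRingHom
    let U := pullback (pullback.fst p q) (sp φ ≫ j)
    have hR' : sp φ ≫ j ≫ p = sp (algebraMap k R') := by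
      rw [hR, sp_comp]; rfl
    have hUk : ∀ {Z : Scheme.{u}} (a : Z ⟶ U),
        (a ≫ pullback.fst _ _ ≫ pullback.snd p q) ≫ q = (a ≫ pullback.snd _ _) ≫ sp (algebraMap k R') := by
      intro Z a
      rw [← hR']
      simp only [Category.assoc, ← pullback.condition (f := p) (g := q)]
      rw [pullback.condition_assoc]
      simp only [Category.assoc]
    let μ : Spec (CommRingCat.of (R' ⊗[k] A)) ⟶ U :=
      pullback.lift (sp ψ ≫ m) (sp (Algebra.TensorProduct.includeLeftRingHom : R' →+* R' ⊗[k] A)) (by
        rw [Category.assoc, pullback.lift_fst, ← Category.assoc, sp_comp, ← Category.assoc, sp_comp]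
        refine congrArg (fun h => sp h ≫ j) (RingHom.ext fun r => ?_)
        exact (Algebra.TensorProduct.map_tmul φk (AlgHom.id k A) r 1))
    let ν : pullback (pullback.fst (pullback.fst p q) (sp φ ≫ j) ≫ pullback.snd p q) ja ⟶
        Spec (CommRingCat.of (R' ⊗[k] A)) :=
      pullback.lift (pullback.fst _ _ ≫ pullback.snd _ _) (pullback.snd _ _)
        (by
          show _ ≫ sp (algebraMap k R') = _ ≫ sp (algebraMap k A)
          rw [← hA, ← pullback.condition_assoc, ← hUk]
          simp only [Category.assoc]) ≫ (pullbackSpecIso k R' A).hom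
    have hν : ν ≫ sp ψ ≫ m = pullback.fst _ _ ≫ pullback.fst (pullback.fst p q) (sp φ ≫ j) := by
      apply pullback.hom_ext
      · simp only [Category.assoc, m, pullback.lift_fst]
        rw [← Category.assoc (sp ψ), sp_comp,
          show ψ.comp (Algebra.TensorProduct.includeLeftRingHom : R →+* B) =
            (Algebra.TensorProduct.includeLeftRingHom : R' →+* R' ⊗[k] A).comp φ by
              ext r
              exact (Algebra.TensorProduct.map_tmul φk (AlgHom.id k A) r 1),
          ← sp_comp, Category.assoc]
        simp only [ν, Category.assoc]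
        rw [pullback.condition (f := pullback.fst p q), pullbackSpecIso_hom_fst_assoc, pullback.lift_fst_assoc,
          Category.assoc]
      · simp only [Category.assoc, m, pullback.lift_snd]
        rw [← Category.assoc (sp ψ), sp_comp,
          show ψ.comp (Algebra.TensorProduct.includeRight : A →ₐ[k] B).toRingHom =
            (Algebra.TensorProduct.includeRight : A →ₐ[k] R' ⊗[k] A).toRingHom by
              ext r
              exact (Algebra.TensorProduct.map_tmul φk (AlgHom.id k A) 1 r).trans (by rw [map_one]; rfl)]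
        simp only [ν, Category.assoc]
        rw [← Category.assoc (pullbackSpecIso k R' A).hom, show (pullbackSpecIso k R' A).hom ≫ sp (Algebra.TensorProduct.includeRight : A →ₐ[k] R' ⊗[k] A).toRingHom = pullback.snd _ _ from pullbackSpecIso_hom_snd k R' A]
        rw [pullback.lift_snd_assoc, ← pullback.condition]
    have hiff : Ideal.span {r | ∃ x ∈ J, ∃ i, (b.baseChange R).repr x i = r} ≤ RingHom.ker φ ↔
        ∀ x ∈ J, ψ x = 0 := by
      rw [Ideal.span_le]
      constructor
      · intro h x hx
        refine (b.baseChange R').repr.injective (Finsupp.ext fun i => ?_)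
        rw [map_zero, Finsupp.zero_apply]
        exact (repr_baseChange_map φk b x i).trans (h ⟨x, hx, i, rfl⟩)
      · rintro h _ ⟨x, hx, i, rfl⟩
        have h1 := repr_baseChange_map φk b x i
        rw [show Algebra.TensorProduct.map φk (AlgHom.id k A) x = 0 from h x hx, map_zero,
          Finsupp.zero_apply] at h1
        exact h1.symm
    rw [hiff, ← hfac]
    constructor
    · rintro ⟨l, hl⟩
      exact ⟨ν ≫ l, by rw [Category.assoc, hl, hν]⟩
    · rintro ⟨l, hl⟩
      refine ⟨pullback.lift μ (sp (Algebra.TensorProduct.includeRight : A →ₐ[k] R' ⊗[k] A).toRingHom) ?_ ≫ l, ?_⟩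
      · simp only [μ, ← Category.assoc, pullback.lift_fst]
        rw [Category.assoc, pullback.lift_snd, ← Category.assoc, sp_comp]
        refine congrArg (fun h => sp h ≫ ja) (RingHom.ext fun r => ?_)
        exact (Algebra.TensorProduct.map_tmul φk (AlgHom.id k A) 1 r).trans (by rw [map_one]; rfl)
      · rw [Category.assoc, hl, pullback.lift_fst_assoc, pullback.lift_fst]
  exact ⟨T, t, h1, h2⟩

end Groth.Agent.WeilRes
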