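import Mathlib

/-!
# Infinitesimal neighbourhoods of a section of a smooth algebra

`B / 𝔪 ^ n` is finite projective over the base, so that the vanishing of an element in the `n`-th
infinitesimal neighbourhood after a change of base is controlled by an ideal of the base.
-/

set_option autoImplicit false

universe u

open TensorProduct

namespace Groth.Agent.WeilRes

variable {R B : Type u} [CommRing R] [CommRing B] [Algebra R B] (e : B →ₐ[R] R)

theorem sub_mem_ker (b : B) : b - algebraMap R B (e b) ∈ RingHom.ker e := by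
  rw [RingHom.mem_ker, map_sub, e.commutes]
  exact sub_self _

theorem projective_quot [Algebra.FormallySmooth R B] [Algebra.FiniteType R B] (n : ℕ) :
    Module.Projective R (B ⧸ RingHom.ker e ^ n) ∧ Module.Finite R (B ⧸ RingHom.ker e ^ n) := by
  rcases Nat.eq_zero_or_pos n with rfl | hn
  · haveI : Subsingleton (B ⧸ RingHom.ker e ^ 0) :=
      Ideal.Quotient.subsingleton_iff.2 (by rw [pow_zero, Ideal.one_eq_top])
    exact ⟨inferInstance, inferInstance⟩
  obtain ⟨m, π₀, hπ₀⟩ := Algebra.FiniteType.iff_quotient_mvPolynomial''.1 ‹Algebra.FiniteType R B›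
  let π : MvPolynomial (Fin m) R →ₐ[R] B :=
    MvPolynomial.aeval fun i => π₀ (MvPolynomial.X i) - algebraMap R B (e (π₀ (MvPolynomial.X i)))
  have hπ : Function.Surjective π := by
    intro b
    obtain ⟨p, rfl⟩ := hπ₀ b
    induction p using MvPolynomial.induction_on with
    | C a => exact ⟨MvPolynomial.C a, by simp [π]⟩
    | add p q hp hq =>
      obtain ⟨a, ha⟩ := hp
      obtain ⟨c, hc⟩ := hq
      exact ⟨a + c, by rw [map_add, map_add, ha, hc]⟩
    | mul_X p i hp =>
      obtain ⟨a, ha⟩ := hp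
      refine ⟨a * (MvPolynomial.X i + MvPolynomial.C (e (π₀ (MvPolynomial.X i)))), ?_⟩
      rw [map_mul, map_mul, ha]
      congr 1
      simp [π]
  let V : Ideal (MvPolynomial (Fin m) R) := MvPolynomial.idealOfVars (Fin m) R
  have hV : ∀ p ∈ V, e (π p) = 0 := by
    have hle : V ≤ RingHom.ker (e.comp π) := Ideal.span_le.2 <| by
      rintro _ ⟨i, rfl⟩
      show e (π (MvPolynomial.X i)) = 0
      simp [π]
    exact hle
  have hker : ∀ p, e (π p) = 0 → p ∈ V := by
    intro p hp
    have h1 : e.comp π = MvPolynomial.aeval (fun _ : Fin m => (0 : R)) := MvPolynomial.algHom_ext fun i => by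
      simp [π]
    have h2 : e (π p) = MvPolynomial.constantCoeff p := by
      show (e.comp π) p = _
      rw [h1, MvPolynomial.aeval_zero']
      rfl
    have h3 : p.coeff 0 = 0 := by
      rw [← MvPolynomial.constantCoeff_eq, ← h2, hp]
    rw [← pow_one V]
    refine (MvPolynomial.mem_pow_idealOfVars_iff' 1 p).2 fun x hx => ?_
    obtain rfl : x = 0 := (Finsupp.degree_eq_zero_iff x).1 (Nat.lt_one_iff.1 hx)
    exact h3
  let I : Ideal (MvPolynomial (Fin m) R) := V ^ n
  have hI : ∀ p ∈ I, π p ∈ RingHom.ker e ^ n := by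
    have h1 : V.map π ≤ RingHom.ker e := by
      rw [Ideal.map_le_iff_le_comap]
      exact fun p hp => hV p hp
    intro p hp
    have h2 : π p ∈ (V ^ n).map π := Ideal.mem_map_of_mem _ hp
    rw [Ideal.map_pow] at h2
    exact Ideal.pow_right_mono h1 n h2
  let πb : (MvPolynomial (Fin m) R ⧸ I) →ₐ[R] B ⧸ RingHom.ker e ^ n :=
    Ideal.Quotient.liftₐ I ((Ideal.Quotient.mkₐ R _).comp π) fun p hp =>
      Ideal.Quotient.eq_zero_iff_mem.2 (hI p hp)
  have hπb : Function.Surjective πb := by
    intro b
    obtain ⟨b, rfl⟩ := Ideal.Quotient.mk_surjective b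
    obtain ⟨p, rfl⟩ := hπ b
    exact ⟨Ideal.Quotient.mk I p, rfl⟩
  have hvar : ∀ p, π p ∈ RingHom.ker e → Ideal.Quotient.mk I p ∈ V.map (Ideal.Quotient.mk I) := fun p hp =>
    Ideal.mem_map_of_mem _ (hker p hp)
  have hnil : V.map (Ideal.Quotient.mk I) ^ n = ⊥ := by
    rw [← Ideal.map_pow, Ideal.map_quotient_self]
  have hkerle : RingHom.ker πb.toRingHom ≤ V.map (Ideal.Quotient.mk I) := by
    intro a ha
    obtain ⟨p, rfl⟩ := Ideal.Quotient.mk_surjective a
    refine hvar p ?_
    have : π p ∈ RingHom.ker e ^ n := Ideal.Quotient.eq_zero_iff_mem.1 ha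
    exact Ideal.pow_le_self hn.ne' this
  obtain ⟨σ, hσ⟩ : ∃ σ : B →ₐ[R] MvPolynomial (Fin m) R ⧸ I, πb.comp σ = Ideal.Quotient.mkₐ R _ :=
    ⟨Algebra.FormallySmooth.liftOfSurjective _ πb hπb ⟨n, le_bot_iff.1 (hnil ▸ Ideal.pow_right_mono hkerle n)⟩,
      Algebra.FormallySmooth.comp_liftOfSurjective _ _ _ _⟩
  have hσm : (RingHom.ker e).map σ ≤ V.map (Ideal.Quotient.mk I) := by
    rw [Ideal.map_le_iff_le_comap]
    intro b hb
    rw [Ideal.mem_comap]
    obtain ⟨p, hp⟩ := Ideal.Quotient.mk_surjective (σ b)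
    have h1 : Ideal.Quotient.mk (RingHom.ker e ^ n) (π p) = Ideal.Quotient.mk _ b := by
      have := DFunLike.congr_fun hσ b
      rw [AlgHom.comp_apply, ← hp] at this
      exact this
    rw [← hp]
    refine hvar p ?_
    have h2 := Ideal.pow_le_self hn.ne' (Ideal.Quotient.eq.1 h1)
    simpa using Ideal.add_mem _ h2 hb
  have hσn : ∀ b ∈ RingHom.ker e ^ n, σ b = 0 := fun b hb => by
    have h2 : σ b ∈ (RingHom.ker e ^ n).map σ := Ideal.mem_map_of_mem _ hb
    rw [Ideal.map_pow] at h2
    have := Ideal.pow_right_mono hσm n h2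
    rwa [hnil, Ideal.mem_bot] at this
  let σb : (B ⧸ RingHom.ker e ^ n) →ₐ[R] MvPolynomial (Fin m) R ⧸ I := Ideal.Quotient.liftₐ _ σ hσn
  have hret : πb.toLinearMap.comp σb.toLinearMap = LinearMap.id := LinearMap.ext fun b => by
    obtain ⟨b, rfl⟩ := Ideal.Quotient.mk_surjective b
    exact DFunLike.congr_fun hσ b
  -- the truncation gives a section of the quotient map
  let tr : MvPolynomial (Fin m) R →ₗ[R] MvPolynomial (Fin m) R :=
    ∑ i ∈ Finset.range n, MvPolynomial.homogeneousComponent i
  have htr : ∀ p, ∀ x : Fin m →₀ ℕ, (tr p).coeff x = if x.degree < n then p.coeff x else 0 := by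
    classical
    intro p x
    simp only [tr, LinearMap.sum_apply, MvPolynomial.coeff_sum, MvPolynomial.coeff_homogeneousComponent]
    by_cases hx : x.degree < n
    · rw [if_pos hx, Finset.sum_eq_single_of_mem x.degree (Finset.mem_range.2 hx) (fun i _ hi => if_neg (Ne.symm hi)),
        if_pos rfl]
    · rw [if_neg hx]
      exact Finset.sum_eq_zero fun i hi => if_neg fun h => hx (by rw [h]; exact Finset.mem_range.1 hi)
  have htrI : I.restrictScalars R ≤ LinearMap.ker tr := fun p hp => MvPolynomial.ext _ _ fun x => by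
    rw [htr, MvPolynomial.coeff_zero]
    split_ifs with hx
    · exact (MvPolynomial.mem_pow_idealOfVars_iff' n p).1 hp x hx
    · rfl
  have htrsub : ∀ p, tr p - p ∈ I := fun p =>
    (MvPolynomial.mem_pow_idealOfVars_iff' n _).2 fun x hx => by
      rw [MvPolynomial.coeff_sub, htr, if_pos hx, sub_self]
  let secI : (MvPolynomial (Fin m) R ⧸ I) →ₗ[R] MvPolynomial (Fin m) R :=
    (Submodule.liftQ (I.restrictScalars R) tr htrI) ∘ₗ
      (Submodule.Quotient.restrictScalarsEquiv R I).symm.toLinearMap
  have hsec : (Ideal.Quotient.mkₐ R I).toLinearMap ∘ₗ secI = LinearMap.id := LinearMap.ext fun a => by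
    obtain ⟨p, rfl⟩ := Ideal.Quotient.mk_surjective a
    show Ideal.Quotient.mk I (tr p) = Ideal.Quotient.mk I p
    exact Ideal.Quotient.eq.2 (htrsub p)
  haveI : Module.Projective R (MvPolynomial (Fin m) R ⧸ I) := Module.Projective.of_split secI _ hsec
  haveI : Module.Finite R (MvPolynomial (Fin m) R ⧸ I) := by
    have hmem : ∀ p, tr p ∈ MvPolynomial.restrictTotalDegree (Fin m) R n := fun p => by
      rw [MvPolynomial.mem_restrictTotalDegree, MvPolynomial.totalDegree, Finset.sup_le_iff]
      intro x hx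
      rw [MvPolynomial.mem_support_iff, htr] at hx
      have : x.degree < n := by by_contra h; exact hx (if_neg h)
      exact this.le
    refine Module.Finite.of_surjective ((Ideal.Quotient.mkₐ R I).toLinearMap ∘ₗ
      (MvPolynomial.restrictTotalDegree (Fin m) R n).subtype) fun a => ?_
    obtain ⟨p, rfl⟩ := Ideal.Quotient.mk_surjective a
    exact ⟨⟨tr p, hmem p⟩, Ideal.Quotient.eq.2 (htrsub p)⟩
  exact ⟨Module.Projective.of_split σb.toLinearMap πb.toLinearMap hret, Module.Finite.of_surjective πb.toLinearMap hπb⟩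

/-- The coefficient ideal of an element of a module. -/
def coef {M : Type u} [AddCommGroup M] [Module R M] (v : M) : Ideal R :=
  Ideal.span (Set.range fun φ : M →ₗ[R] R => φ v)

theorem coef_le_iff {M : Type u} [AddCommGroup M] [Module R M] [Module.Finite R M] [Module.Projective R M]
    (v : M) (R' : Type u) [CommRing R'] [Algebra R R'] :
    coef v ≤ RingHom.ker (algebraMap R R') ↔ (1 : R') ⊗ₜ[R] v = 0 := by
  constructor
  · intro h
    obtain ⟨k, f, g, -, -, hfg⟩ := Module.Finite.exists_comp_eq_id_of_projective R M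
    have hv : f (∑ i, g v i • Pi.single i 1) = v := by
      have h1 : (∑ i, g v i • (Pi.single i 1 : Fin k → R)) = g v := by
        ext j
        simp [Finset.sum_apply, Pi.single_apply]
      rw [h1]
      exact DFunLike.congr_fun hfg v
    rw [← hv, map_sum, tmul_sum]
    refine Finset.sum_eq_zero fun i _ => ?_
    have h0 : algebraMap R R' (g v i) = 0 :=
      RingHom.mem_ker.1 (h (Ideal.subset_span ⟨(LinearMap.proj i).comp g, rfl⟩))
    rw [map_smul, tmul_smul, smul_tmul', Algebra.smul_def, h0, zero_mul, zero_tmul]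
  · intro h
    refine Ideal.span_le.2 ?_
    rintro _ ⟨φ, rfl⟩
    have := congrArg (fun z => TensorProduct.rid R R' (φ.lTensor R' z)) h
    simpa [Algebra.smul_def] using this

theorem coef_fg {M : Type u} [AddCommGroup M] [Module R M] [Module.Finite R M] [Module.Projective R M]
    (v : M) : (coef (R := R) v).FG := by
  obtain ⟨k, f, g, -, -, hfg⟩ := Module.Finite.exists_comp_eq_id_of_projective R M
  classical
  refine ⟨Finset.univ.image fun i => g v i, le_antisymm (Ideal.span_le.2 ?_) (Ideal.span_le.2 ?_)⟩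
  · intro x hx
    obtain ⟨i, -, rfl⟩ := Finset.mem_image.1 (Finset.mem_coe.1 hx)
    exact Ideal.subset_span ⟨(LinearMap.proj i).comp g, rfl⟩
  · rintro _ ⟨φ, rfl⟩
    have hv : v = ∑ i, g v i • f (Pi.single i 1) := by
      have h1 : g v = ∑ i, g v i • (Pi.single i 1 : Fin k → R) := pi_eq_sum_univ' (g v)
      refine (DFunLike.congr_fun hfg v).symm.trans ?_
      show f (g v) = _
      rw [h1, map_sum]
      simp only [map_smul, ← h1]
    have h2 : φ v = ∑ i, g v i * φ (f (Pi.single i 1)) := by
      refine (congrArg φ hv).trans ?_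
      simp only [map_sum, map_smul, smul_eq_mul]
    refine (show φ v ∈ _ from h2 ▸ Submodule.sum_mem _ fun i _ => ?_)
    exact Ideal.mul_mem_right _ _ (Ideal.subset_span (Finset.mem_coe.2 (Finset.mem_image.2 ⟨i, Finset.mem_univ i, rfl⟩)))

/-- The base change of a section. -/
noncomputable def secBC (R' : Type u) [CommRing R'] [Algebra R R'] : R' ⊗[R] B →ₐ[R'] R' :=
  Algebra.TensorProduct.lift (Algebra.ofId R' R') ((Algebra.ofId R R').comp e) fun _ _ => Commute.all _ _

theorem secBC_tmul (R' : Type u) [CommRing R'] [Algebra R R'] (r : R') (b : B) :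
    secBC e R' (r ⊗ₜ b) = r * algebraMap R R' (e b) := by
  simp [secBC]

theorem ker_secBC (R' : Type u) [CommRing R'] [Algebra R R'] :
    RingHom.ker (secBC e R') = (RingHom.ker e).map (Algebra.TensorProduct.includeRight : B →ₐ[R] R' ⊗[R] B) := by
  apply le_antisymm
  · intro z hz
    suffices h : ∀ z : R' ⊗[R] B, z - algebraMap R' _ (secBC e R' z) ∈
        (RingHom.ker e).map (Algebra.TensorProduct.includeRight : B →ₐ[R] R' ⊗[R] B) by
      have := h z
      rwa [RingHom.mem_ker.1 hz, map_zero, sub_zero] at this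
    intro z
    induction z using TensorProduct.induction_on with
    | zero => simp
    | add a b ha hb =>
      rw [map_add, map_add, add_sub_add_comm]
      exact Ideal.add_mem _ ha hb
    | tmul r b =>
      have h1 : r ⊗ₜ[R] b - algebraMap R' _ (secBC e R' (r ⊗ₜ b)) =
          (r ⊗ₜ[R] (1 : B)) * ((1 : R') ⊗ₜ[R] (b - algebraMap R B (e b))) := by
        rw [secBC_tmul, Algebra.TensorProduct.algebraMap_apply, Algebra.algebraMap_self, RingHom.id_apply,
          Algebra.TensorProduct.tmul_mul_tmul, mul_one, one_mul, tmul_sub]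
        congr 1
        rw [Algebra.algebraMap_eq_smul_one (A := B) (e b), tmul_smul, smul_tmul', Algebra.smul_def, mul_comm]
      rw [h1]
      exact Ideal.mul_mem_left _ _ (Ideal.mem_map_of_mem _ (sub_mem_ker e b))
  · rw [Ideal.map_le_iff_le_comap]
    intro b hb
    show secBC e R' ((1 : R') ⊗ₜ b) = 0
    rw [secBC_tmul, RingHom.mem_ker.1 hb, map_zero, mul_zero]

/-- An element vanishes on the `n`-th infinitesimal neighbourhood of the section after a base change. -/
def Van (R' : Type u) [CommRing R'] [Algebra R R'] (n : ℕ) (x : B) : Prop :=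
  (1 : R') ⊗ₜ[R] x ∈ RingHom.ker (secBC e R') ^ n

theorem van_iff_tmul (R' : Type u) [CommRing R'] [Algebra R R'] (n : ℕ) (x : B) :
    Van e R' n x ↔ (1 : R') ⊗ₜ[R] Ideal.Quotient.mk (RingHom.ker e ^ n) x = 0 := by
  have h := Algebra.TensorProduct.lTensor_ker (A := R') (Ideal.Quotient.mkₐ R (RingHom.ker e ^ n))
    (Ideal.Quotient.mkₐ_surjective _ _)
  rw [show RingHom.ker (Ideal.Quotient.mkₐ R (RingHom.ker e ^ n)) = RingHom.ker e ^ n from Ideal.mk_ker,
    Ideal.map_pow, ← ker_secBC] at h
  unfold Van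
  exact (Eq.to_iff (congrArg (fun I => (1 : R') ⊗ₜ[R] x ∈ I) h)).symm.trans RingHom.mem_ker

theorem Van.anti {R' : Type u} [CommRing R'] [Algebra R R'] {n k : ℕ} (hk : k ≤ n) {x : B}
    (h : Van e R' n x) : Van e R' k x := Ideal.pow_le_pow_right hk h

/-- The ideal of the base controlling the vanishing of a family on a neighbourhood of the section. -/
def vanIdeal (n : ℕ) (s : Set B) : Ideal R := ⨆ x ∈ s, coef (Ideal.Quotient.mk (RingHom.ker e ^ n) x)

variable [Algebra.FormallySmooth R B] [Algebra.FiniteType R B]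

theorem vanIdeal_le_iff (n : ℕ) (s : Set B) (R' : Type u) [CommRing R'] [Algebra R R'] :
    vanIdeal e n s ≤ RingHom.ker (algebraMap R R') ↔ ∀ x ∈ s, Van e R' n x := by
  haveI := (projective_quot e n).1
  haveI := (projective_quot e n).2
  simp only [vanIdeal, iSup_le_iff]
  exact forall₂_congr fun x _ => (coef_le_iff _ R').trans (van_iff_tmul e R' n x).symm

theorem vanIdeal_fg (n : ℕ) (s : Finset B) : (vanIdeal e n (s : Set B)).FG := by
  haveI := (projective_quot e n).1
  haveI := (projective_quot e n).2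
  have h : vanIdeal e n (s : Set B) = s.sup fun x => coef (Ideal.Quotient.mk (RingHom.ker e ^ n) x) := by
    rw [vanIdeal, Finset.sup_eq_iSup]
    simp
  rw [h]
  exact Submodule.fg_finset_sup s _ fun x _ => coef_fg _

end Groth.Agent.WeilRes
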