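import Groth.Agent.WeilResLib.GrpGen
import Groth.Agent.AlgSpLib.MonoScheme

/-!
# Weil restriction of a monomorphism of group schemes with smooth connected source
-/

set_option autoImplicit false
set_option backward.isDefEq.respectTransparency false

noncomputable section

universe u

open CategoryTheory CategoryTheory.Limits MonoidalCategory CartesianMonoidalCategory AlgebraicGeometry
open scoped MonObj
open scoped TensorProduct

namespace Groth.Agent.WeilRes

variable {S : Scheme.{u}}

/-- `InY` for the morphism underlying a morphism over the base. -/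
abbrev InG {X Y : Over S} (i : Y ⟶ X) ⦃S' : Scheme.{u}⦄ (g : S' ⟶ S) : Prop := InY X.hom i.left g

theorem inG_iff_isIso {X Y : Over S} (i : Y ⟶ X) [Mono i] {S' : Scheme.{u}} (g : S' ⟶ S) :
    InG i g ↔ IsIso ((Over.pullback g).map i) := by
  haveI : Mono i.left := inferInstanceAs (Mono ((Over.forget S).map i))
  constructor
  · rintro ⟨l, hl⟩
    haveI : Mono ((Over.pullback g).map i) := inferInstance
    haveI : IsSplitEpi ((Over.pullback g).map i) := by
      refine ⟨⟨⟨Over.homMk (pullback.lift l (pullback.snd _ _) ?_) (pullback.lift_snd _ _ _), ?_⟩⟩⟩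
      · rw [← Over.w i, ← Category.assoc, hl]
        exact pullback.condition
      · refine Over.OverMorphism.ext ?_
        show pullback.lift l (pullback.snd _ _) _ ≫ pullback.lift (pullback.fst _ _ ≫ i.left) (pullback.snd _ _) _ = 𝟙 _
        apply pullback.hom_ext <;> simp [hl]
    exact isIso_of_mono_of_isSplitEpi _
  · intro h
    refine ⟨(inv ((Over.pullback g).map i)).left ≫ pullback.fst _ _, ?_⟩
    have h1 : ((Over.pullback g).map i).left ≫ pullback.fst _ _ = pullback.fst _ _ ≫ i.left :=
      pullback.lift_fst _ _ _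
    rw [Category.assoc, ← h1, ← Category.assoc, ← Over.comp_left, IsIso.inv_hom_id]
    exact Category.id_comp _

theorem inG_base_change {X Y : Over S} (i : Y ⟶ X) {S₀ S' : Scheme.{u}} (j : S₀ ⟶ S) (g : S' ⟶ S₀) :
    InG ((Over.pullback j).map i) g ↔ InG i (g ≫ j) := by
  let e : pullback (pullback.snd X.hom j) g ⟶ pullback X.hom (g ≫ j) :=
    pullback.lift (pullback.fst _ _ ≫ pullback.fst X.hom j) (pullback.snd _ _)
      (by rw [Category.assoc, pullback.condition, ← Category.assoc, pullback.condition, Category.assoc])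
  let e' : pullback X.hom (g ≫ j) ⟶ pullback (pullback.snd X.hom j) g :=
    pullback.lift (pullback.lift (pullback.fst _ _) (pullback.snd _ _ ≫ g)
      (by rw [pullback.condition, Category.assoc])) (pullback.snd _ _) (by rw [pullback.lift_snd])
  constructor
  · rintro ⟨l, hl⟩
    refine ⟨e' ≫ l ≫ pullback.fst Y.hom j, ?_⟩
    have h1 : ((Over.pullback j).map i).left ≫ pullback.fst X.hom j = pullback.fst Y.hom j ≫ i.left :=
      pullback.lift_fst _ _ _
    rw [Category.assoc, Category.assoc, ← h1, ← Category.assoc l, hl]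
    show e' ≫ pullback.fst (pullback.snd X.hom j) g ≫ pullback.fst X.hom j = _
    rw [pullback.lift_fst_assoc, pullback.lift_fst]
  · rintro ⟨l, hl⟩
    refine ⟨pullback.lift (e ≫ l) (pullback.snd _ _ ≫ g) ?_, ?_⟩
    · rw [← Over.w i, Category.assoc, reassoc_of% hl]
      show e ≫ pullback.fst _ _ ≫ X.hom = _
      rw [pullback.condition, pullback.lift_snd_assoc, Category.assoc]
      rfl
    · show pullback.lift (e ≫ l) _ _ ≫ pullback.lift (pullback.fst _ _ ≫ i.left) (pullback.snd _ _) _ =
        pullback.fst (pullback.snd X.hom j) g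
      apply pullback.hom_ext
      · simp [hl, e]
      · simp [pullback.condition]

theorem chart_baseChange (P : MorphismProperty Scheme.{u}) [P.IsStableUnderBaseChange] {R B : Type u} [CommRing R]
    [CommRing B] [Algebra R B] {X : Scheme.{u}} (fR : X ⟶ Spec (CommRingCat.of R))
    (j : Spec (CommRingCat.of B) ⟶ X) (hP : P j) (hj : j ≫ fR = sp (algebraMap R B)) (R' : Type u) [CommRing R']
    [Algebra R R'] :
    ∃ m : Spec (CommRingCat.of (R' ⊗[R] B)) ⟶ pullback fR (sp (algebraMap R R')),
      P m ∧ m ≫ pullback.snd _ _ = sp (algebraMap R' (R' ⊗[R] B)) ∧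
      m ≫ pullback.fst _ _ =
        sp (Algebra.TensorProduct.includeRight : B →ₐ[R] R' ⊗[R] B).toRingHom ≫ j := by
  let m₀ : pullback (sp (algebraMap R B)) (sp (algebraMap R R')) ⟶ pullback fR (sp (algebraMap R R')) :=
    pullback.lift (pullback.fst _ _ ≫ j) (pullback.snd _ _) (by rw [Category.assoc, hj, pullback.condition])
  have hm₀ : P m₀ := by
    refine P.of_isPullback (IsPullback.of_right ?_ (pullback.lift_fst _ _ _)
      (IsPullback.of_hasPullback fR (sp (algebraMap R R'))).flip).flip hP
    rw [pullback.lift_snd, hj]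
    exact (IsPullback.of_hasPullback (sp (algebraMap R B)) (sp (algebraMap R R'))).flip
  refine ⟨(pullbackSpecIso R R' B).inv ≫ (pullbackSymmetry _ _).hom ≫ m₀, ?_, ?_, ?_⟩
  · rw [P.cancel_left_of_respectsIso, P.cancel_left_of_respectsIso]
    exact hm₀
  · simp only [m₀, Category.assoc, pullback.lift_snd, pullbackSymmetry_hom_comp_snd]
    exact pullbackSpecIso_inv_fst' R R' B
  · simp only [m₀, Category.assoc, pullback.lift_fst, pullbackSymmetry_hom_comp_fst_assoc]
    exact pullbackSpecIso_inv_snd_assoc R R' B j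

theorem ker_le_mul_of_etale {A C : Type u} [CommRing A] [CommRing C] (ψ : A →+* C) (hψ : Function.Surjective ψ)
    [Etale (sp ψ)] : RingHom.ker ψ ≤ RingHom.ker ψ ^ 2 := by
  letI := ψ.toAlgebra
  haveI : Algebra.Etale A C :=
    RingHom.etale_algebraMap.1 ((HasRingHomProperty.Spec_iff (P := @Etale)).1 ‹Etale (sp ψ)›)
  let K := RingHom.ker ψ
  let g : (A ⧸ K ^ 2) →ₐ[A] C := Ideal.Quotient.liftₐ _ (Algebra.ofId A C) fun a ha =>
    Ideal.pow_le_self two_ne_zero ha
  have hg : Function.Surjective g := fun c => by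
    obtain ⟨a, rfl⟩ := hψ c
    exact ⟨Ideal.Quotient.mk _ a, rfl⟩
  have hnil : IsNilpotent (RingHom.ker (g : (A ⧸ K ^ 2) →+* C)) := by
    refine ⟨2, le_bot_iff.1 ?_⟩
    have hle : RingHom.ker (g : (A ⧸ K ^ 2) →+* C) ≤ K.map (Ideal.Quotient.mk (K ^ 2)) := fun z hz => by
      obtain ⟨a, rfl⟩ := Ideal.Quotient.mk_surjective z
      exact Ideal.mem_map_of_mem _ hz
    refine (Ideal.pow_right_mono hle 2).trans ?_
    rw [← Ideal.map_pow, Ideal.map_quotient_self]
  intro a ha
  let s := Algebra.FormallySmooth.liftOfSurjective (AlgHom.id A C) g hg hnil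
  have h := s.commutes a
  rw [show algebraMap A C a = 0 from ha, map_zero] at h
  exact Ideal.Quotient.eq_zero_iff_mem.1 h.symm

variable {R : Type u} [CommRing R] (X Y : Over (Spec (CommRingCat.of R))) [GrpObj X] [GrpObj Y]

theorem exists_repIdeal_grpChart [Smooth X.hom] [GeometricallyConnected X.hom] [QuasiSeparated X.hom]
    (i : Y ⟶ X) [IsMonHom i] [Mono i] {B C : Type u} [CommRing B] [CommRing C] [Algebra R B] [Algebra R C]
    [Algebra.Smooth R B] (φ : B →ₐ[R] C) (hφ : Function.Surjective φ) (hfg : (RingHom.ker φ).FG)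
    (κ : Spec (CommRingCat.of B) ⟶ X.left) [Etale κ] (hκ : κ ≫ X.hom = sp (algebraMap R B))
    (o : Spec (CommRingCat.of C) ⟶ Y.left) [IsOpenImmersion o] (ho : o ≫ i.left = sp φ.toRingHom ≫ κ)
    (eC : C →ₐ[R] R) (hε : sp eC.toRingHom ≫ sp φ.toRingHom ≫ κ = (η[X] : 𝟙_ _ ⟶ X).left) :
    ∃ I : Ideal R, RepIdeal (InG i) (𝟙 _) I ∧ I.FG := by
  obtain ⟨t, ht⟩ := hfg
  let e : B →ₐ[R] R := eC.comp φ
  obtain ⟨N, hN⟩ := exists_uniform e t
  refine ⟨vanIdeal e N (t : Set B), fun R' _ ψ => ?_, vanIdeal_fg e N t⟩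
  letI := ψ.toAlgebra
  rw [show RingHom.ker ψ = RingHom.ker (algebraMap R R') from rfl, vanIdeal_le_iff, Category.comp_id,
    show sp ψ = sp (algebraMap R R') from rfl, inG_iff_isIso]
  obtain ⟨κ', hκ'e, hκ'₂, hκ'₁⟩ := chart_baseChange @Etale X.hom κ ‹_› hκ R'
  have hoY : o ≫ Y.hom = sp (algebraMap R C) := by
    rw [← Over.w i, reassoc_of% ho, hκ, sp_comp]
    exact congrArg sp φ.comp_algebraMap
  obtain ⟨o', ho'i, ho'₂, ho'₁⟩ := chart_baseChange @IsOpenImmersion Y.hom o ‹_› hoY R'
  let g := sp (algebraMap R R')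
  let i' := (Over.pullback g).map i
  let Ψ : R' ⊗[R] B →ₐ[R'] R' ⊗[R] C := Algebra.TensorProduct.map (AlgHom.id R' R') φ
  have hΨ : Function.Surjective Ψ := LinearMap.lTensor_surjective R' (g := φ.toLinearMap) hφ
  have hcompat : o' ≫ i'.left = sp Ψ.toRingHom ≫ κ' := by
    have h1 : i'.left ≫ pullback.fst X.hom g = pullback.fst Y.hom g ≫ i.left := pullback.lift_fst _ _ _
    have h2 : i'.left ≫ pullback.snd X.hom g = pullback.snd Y.hom g := pullback.lift_snd _ _ _
    refine pullback.hom_ext ?_ ?_
    · rw [Category.assoc, Category.assoc, h1, ← Category.assoc, ho'₁, Category.assoc, ho, hκ'₁, ← Category.assoc,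
        ← Category.assoc, sp_comp, sp_comp]
      congr 2
    · rw [Category.assoc, Category.assoc, h2, ho'₂, hκ'₂, sp_comp]
      exact congrArg sp Ψ.comp_algebraMap.symm
  constructor
  · intro hiso x hx
    haveI : IsIso i'.left := inferInstanceAs (IsIso ((Over.forget _).map i'))
    haveI : Etale (sp Ψ.toRingHom ≫ κ') := by
      rw [← hcompat]
      infer_instance
    haveI : Etale (sp Ψ.toRingHom) := MorphismProperty.of_postcomp (W := @Etale) (W' := @Etale) _ κ' hκ'e ‹_›
    have hidem := ker_le_mul_of_etale Ψ.toRingHom hΨ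
    have hpow : ∀ n, RingHom.ker Ψ.toRingHom ≤ RingHom.ker Ψ.toRingHom ^ n := by
      intro n
      induction n with
      | zero => simp
      | succ n ih =>
        refine hidem.trans ?_
        rw [pow_two, pow_succ]
        exact Ideal.mul_mono_left ih
    have hxK : ∀ z ∈ RingHom.ker Ψ.toRingHom, z ∈ RingHom.ker (secBC e R') := by
      intro z hz
      have hfac : (secBC eC R').comp Ψ = secBC e R' := Algebra.TensorProduct.ext (Subsingleton.elim _ _)
        (AlgHom.ext fun b => by
          show secBC eC R' (Ψ ((1 : R') ⊗ₜ b)) = secBC e R' ((1 : R') ⊗ₜ b)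
          rw [Algebra.TensorProduct.map_tmul, secBC_tmul, secBC_tmul]
          rfl)
      rw [RingHom.mem_ker, ← hfac]
      show secBC eC R' (Ψ z) = 0
      rw [show Ψ z = 0 from hz, map_zero]
    show _ ∈ _
    refine Ideal.pow_right_mono hxK N (hpow N ?_)
    show Ψ ((1 : R') ⊗ₜ x) = 0
    rw [Algebra.TensorProduct.map_tmul, show φ x = 0 from (ht ▸ Ideal.subset_span hx : x ∈ RingHom.ker φ),
      TensorProduct.tmul_zero]
  · intro hv
    choose v hv1 hv2 using fun y (hy : y ∈ t) =>
      exists_kill (secBC e R') ((1 : R') ⊗ₜ[R] y) fun n => hN R' hv n y hy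
    let u : R' ⊗[R] B := ∏ y ∈ t.attach, v y.1 y.2
    have hu1 : secBC e R' u = 1 := by
      rw [map_prod]
      exact Finset.prod_eq_one fun y _ => hv1 y.1 y.2
    have hu0 : ∀ y ∈ t, u * (1 : R') ⊗ₜ[R] y = 0 := fun y hy => by
      obtain ⟨w, hw⟩ : v y hy ∣ u := Finset.dvd_prod_of_mem (fun z : t => v z.1 z.2) (Finset.mem_attach t ⟨y, hy⟩)
      rw [hw, mul_comm (v y hy), mul_assoc, hv2, mul_zero]
    let L := Localization.Away u
    let a : R' ⊗[R] B →ₐ[R'] L := IsScalarTower.toAlgHom R' (R' ⊗[R] B) L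
    let aB : B →ₐ[R] L := (a.restrictScalars R).comp Algebra.TensorProduct.includeRight
    have haB : RingHom.ker φ ≤ RingHom.ker aB := by
      rw [← ht]
      refine Ideal.span_le.2 fun y hy => ?_
      show a ((1 : R') ⊗ₜ[R] y) = 0
      have hu : IsUnit (a u) := IsLocalization.Away.algebraMap_isUnit u
      rw [← hu.mul_right_eq_zero, ← map_mul, hu0 y hy, map_zero]
    let cC : C →ₐ[R] L := AlgHom.liftOfSurjective φ hφ aB haB
    have hcC : cC.comp φ = aB := AlgHom.liftOfSurjective_comp _ _ _ _
    let c : R' ⊗[R] C →ₐ[R'] L := Algebra.TensorProduct.lift (Algebra.ofId R' L) cC fun _ _ => Commute.all _ _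
    have hc : c.toRingHom.comp Ψ.toRingHom = a.toRingHom := by
      have : c.comp Ψ = a := Algebra.TensorProduct.ext (Subsingleton.elim _ _) (AlgHom.ext fun b => by
        show c (Ψ ((1 : R') ⊗ₜ b)) = a ((1 : R') ⊗ₜ b)
        rw [Algebra.TensorProduct.map_tmul, Algebra.TensorProduct.lift_tmul]
        simp only [map_one, one_mul]
        exact DFunLike.congr_fun hcC b)
      exact congrArg AlgHom.toRingHom this
    let εL : L →+* R' := IsLocalization.Away.lift u (g := (secBC e R').toRingHom)
      (by show IsUnit (secBC e R' u); rw [hu1]; exact isUnit_one)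
    have hεL : εL.comp a.toRingHom = (secBC e R').toRingHom := IsLocalization.Away.lift_comp _ _
    haveI : IsOpenImmersion (sp a.toRingHom) := isOpenImmersion_sp_away u
    letI : GrpObj ((Over.pullback g).obj X) := Functor.grpObjObj
    letI : GrpObj ((Over.pullback g).obj Y) := Functor.grpObjObj
    haveI : IsMonHom i' := @Functor.map.instIsMonHom _ _ _ _ _ _ (Over.pullback g) _ _ _ _ _ i _
    haveI : Mono i' := inferInstance
    haveI : Smooth ((Over.pullback g).obj X).hom := MorphismProperty.pullback_snd _ _ inferInstance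
    haveI : GeometricallyConnected ((Over.pullback g).obj X).hom :=
      inferInstanceAs (GeometricallyConnected (pullback.snd X.hom g))
    haveI : QuasiSeparated ((Over.pullback g).obj X).hom := MorphismProperty.pullback_snd _ _ inferInstance
    have hw : (sp a.toRingHom ≫ κ') ≫ pullback.snd X.hom g = sp (algebraMap R' L) := by
      rw [Category.assoc, hκ'₂, sp_comp]
      exact congrArg sp a.comp_algebraMap
    let O : Over (Spec (CommRingCat.of R')) := Over.mk (sp (algebraMap R' L))
    haveI : QuasiCompact O.hom := inferInstanceAs (QuasiCompact (sp (algebraMap R' L)))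
    haveI : QuasiSeparated O.hom := inferInstanceAs (QuasiSeparated (sp (algebraMap R' L)))
    let κO : O ⟶ (Over.pullback g).obj X := Over.homMk (sp a.toRingHom ≫ κ') hw
    haveI : Etale κO.left := inferInstanceAs (Etale (sp a.toRingHom ≫ κ'))
    let oO : O ⟶ (Over.pullback g).obj Y := Over.homMk (sp c.toRingHom ≫ o') (by
      show (sp c.toRingHom ≫ o') ≫ pullback.snd Y.hom g = sp (algebraMap R' L)
      rw [Category.assoc, ho'₂, sp_comp]
      exact congrArg sp c.comp_algebraMap)
    have hoO : oO ≫ i' = κO := Over.OverMorphism.ext (by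
      show (sp c.toRingHom ≫ o') ≫ i'.left = sp a.toRingHom ≫ κ'
      rw [Category.assoc, hcompat, ← Category.assoc, sp_comp, hc])
    let εO : 𝟙_ (Over (Spec (CommRingCat.of R'))) ⟶ O := Over.homMk (sp εL) (by
      show sp εL ≫ sp (algebraMap R' L) = 𝟙 _
      rw [sp_comp, ← a.comp_algebraMap, ← RingHom.comp_assoc,
        show εL.comp (a : R' ⊗[R] B →+* L) = (secBC e R').toRingHom from hεL,
        show (secBC e R').toRingHom.comp (algebraMap R' (R' ⊗[R] B)) = RingHom.id R' from (secBC e R').comp_algebraMap]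
      exact Spec.map_id _)
    refine isIso_of_chart _ _ i' O κO oO hoO εO (Over.OverMorphism.ext ?_)
    show sp εL ≫ sp a.toRingHom ≫ κ' = (η[(Over.pullback g).obj X] : 𝟙_ _ ⟶ _).left
    rw [← Category.assoc, sp_comp, hεL]
    refine pullback.hom_ext ?_ ?_
    · rw [Category.assoc, hκ'₁, ← Category.assoc, sp_comp,
        show (secBC e R').toRingHom.comp (Algebra.TensorProduct.includeRight : B →ₐ[R] R' ⊗[R] B).toRingHom =
          (algebraMap R R').comp e.toRingHom from RingHom.ext fun b => by
            show secBC e R' ((1 : R') ⊗ₜ b) = algebraMap R R' (e b)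
            rw [secBC_tmul, one_mul],
        ← sp_comp, Category.assoc]
      have he : sp e.toRingHom ≫ κ = (η[X] : 𝟙_ _ ⟶ X).left := by
        rw [show sp e.toRingHom = sp eC.toRingHom ≫ sp φ.toRingHom from (sp_comp _ _).symm, Category.assoc, hε]
      rw [he, CategoryTheory.Functor.obj.η_def]
      simp
      rw [pullback.lift_fst, ← Category.assoc, ← pullback.condition, Category.assoc]
      exact congrArg (pullback.fst (𝟙 (Spec (CommRingCat.of R))) g ≫ ·) (Category.id_comp _)
    · rw [Category.assoc, hκ'₂, sp_comp,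
        show (secBC e R').toRingHom.comp (algebraMap R' (R' ⊗[R] B)) = RingHom.id R' from (secBC e R').comp_algebraMap,
        show sp (RingHom.id R') = 𝟙 _ from Spec.map_id _]
      exact (Over.w (η[(Over.pullback g).obj X] : 𝟙_ _ ⟶ _)).symm

end Groth.Agent.WeilRes
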