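import Groth.Agent.WeilResLib.GrpChart

/-!
# Weil restriction of a monomorphism of group schemes along a smooth group with connected fibres
-/

set_option autoImplicit false
set_option backward.isDefEq.respectTransparency false

noncomputable section

universe u

open CategoryTheory CategoryTheory.Limits MonoidalCategory CartesianMonoidalCategory AlgebraicGeometry
open scoped MonObj TensorProduct

namespace Groth.Agent.WeilRes

theorem one_left_fst {S₀ S : Scheme.{u}} (g : S₀ ⟶ S) (X : Over S) [GrpObj X] :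
    letI : GrpObj ((Over.pullback g).obj X) := Functor.grpObjObj
    (η[(Over.pullback g).obj X] : 𝟙_ _ ⟶ _).left ≫ pullback.fst X.hom g = g ≫ (η[X] : 𝟙_ _ ⟶ X).left := by
  letI : GrpObj ((Over.pullback g).obj X) := Functor.grpObjObj
  rw [CategoryTheory.Functor.obj.η_def]
  simp

/-- A chart of a monomorphism around the unit, near a given point of an affine base. -/
theorem exists_grpChart {A : Type u} [CommRing A] (X Y : Over (Spec (CommRingCat.of A))) [GrpObj X] [GrpObj Y]
    [Smooth X.hom] [LocallyOfFinitePresentation Y.hom] (i : Y ⟶ X) [IsMonHom i] [Mono i]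
    (p : PrimeSpectrum A) :
    ∃ (r : A) (B C : Type u) (_ : CommRing B) (_ : CommRing C) (_ : Algebra (Localization.Away r) B)
      (_ : Algebra (Localization.Away r) C) (φ : B →ₐ[Localization.Away r] C)
      (eC : C →ₐ[Localization.Away r] Localization.Away r)
      (κ : Spec (CommRingCat.of B) ⟶ pullback X.hom (sp (algebraMap A (Localization.Away r))))
      (o : Spec (CommRingCat.of C) ⟶ pullback Y.hom (sp (algebraMap A (Localization.Away r)))),
      r ∉ p.asIdeal ∧ Algebra.Smooth (Localization.Away r) B ∧ Function.Surjective φ ∧ (RingHom.ker φ).FG ∧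
      Etale κ ∧ IsOpenImmersion o ∧ κ ≫ pullback.snd _ _ = sp (algebraMap (Localization.Away r) B) ∧
      o ≫ pullback.map Y.hom _ X.hom _ i.left (𝟙 _) (𝟙 _) (by simp) (by simp) = sp φ.toRingHom ≫ κ ∧
      sp eC.toRingHom ≫ o ≫ pullback.fst _ _ =
        sp (algebraMap A (Localization.Away r)) ≫ (η[Y] : 𝟙_ _ ⟶ Y).left := by
  let eY : Spec (CommRingCat.of A) ⟶ Y.left := (η[Y] : 𝟙_ _ ⟶ Y).left
  obtain ⟨U, hU, hxU, -⟩ := exists_isAffineOpen_mem_and_subset (X := X.left) (x := i.left (eY p)) (U := ⊤) trivial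
  obtain ⟨W, hW, hyW, hWU⟩ := exists_isAffineOpen_mem_and_subset (X := Y.left) (x := eY p) (U := i.left ⁻¹ᵁ U) hxU
  haveI : IsAffine U.toScheme := hU
  haveI : IsAffine W.toScheme := hW
  haveI : Mono i.left := inferInstanceAs (Mono ((Over.forget _).map i))
  haveI : LocallyOfFiniteType i.left := by
    haveI : LocallyOfFiniteType (i.left ≫ X.hom) := by rw [Over.w i]; infer_instance
    exact locallyOfFiniteType_of_comp i.left X.hom
  let i₁ : W.toScheme ⟶ U.toScheme := i.left.resLE U W hWU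
  have hi₁ : i₁ ≫ U.ι = W.ι ≫ i.left := Scheme.Hom.resLE_comp_ι _ _
  haveI : Mono i₁ := by
    haveI : Mono (i₁ ≫ U.ι) := by rw [hi₁]; infer_instance
    exact mono_of_mono i₁ U.ι
  haveI : LocallyOfFiniteType i₁ := by
    haveI : LocallyOfFiniteType (i₁ ≫ U.ι) := by rw [hi₁]; infer_instance
    exact locallyOfFiniteType_of_comp i₁ U.ι
  haveI : FormallyUnramified i₁ := inferInstance
  obtain ⟨U', V', j', ci, q, hU', hV', hj', hci, hq, hy, hcomm⟩ :=
    AlgSpLib.exists_etale_nbhd_closedImmersion i₁ (⟨eY p, hyW⟩ : W.toScheme)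
  haveI := hU'; haveI := hV'; haveI := hj'; haveI := hci; haveI := hq
  let κ₀ : Spec Γ(V', ⊤) ⟶ X.left := V'.isoSpec.inv ≫ q ≫ U.ι
  let o₀ : Spec Γ(U', ⊤) ⟶ Y.left := U'.isoSpec.inv ≫ j' ≫ W.ι
  have hκo : o₀ ≫ i.left = sp ci.appTop.hom ≫ κ₀ := by
    show (U'.isoSpec.inv ≫ j' ≫ W.ι) ≫ i.left = Spec.map ci.appTop ≫ V'.isoSpec.inv ≫ q ≫ U.ι
    rw [Category.assoc, Category.assoc, ← hi₁, ← Category.assoc j', hcomm, Category.assoc,
      Scheme.isoSpec_inv_naturality_assoc]
  obtain ⟨φB, hφB⟩ := Spec.map_surjective (κ₀ ≫ X.hom)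
  obtain ⟨φC, hφC⟩ := Spec.map_surjective (o₀ ≫ Y.hom)
  letI : Algebra A Γ(V', ⊤) := φB.hom.toAlgebra
  letI : Algebra A Γ(U', ⊤) := φC.hom.toAlgebra
  have hB₀ : sp (algebraMap A Γ(V', ⊤)) = κ₀ ≫ X.hom := hφB
  have hC₀ : sp (algebraMap A Γ(U', ⊤)) = o₀ ≫ Y.hom := hφC
  haveI : Algebra.Smooth A Γ(V', ⊤) := by
    refine RingHom.smooth_algebraMap.1 ((HasRingHomProperty.Spec_iff (P := @Smooth)).1 ?_)
    show Smooth (sp (algebraMap A Γ(V', ⊤)))
    rw [hB₀]
    haveI : Smooth q := inferInstance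
    exact inferInstance
  haveI : Algebra.FinitePresentation A Γ(U', ⊤) := by
    refine RingHom.finitePresentation_algebraMap.1 ((HasRingHomProperty.Spec_iff (P := @LocallyOfFinitePresentation)).1 ?_)
    show LocallyOfFinitePresentation (sp (algebraMap A Γ(U', ⊤)))
    rw [hC₀]
    exact inferInstance
  have hciA : ci.appTop.hom.comp (algebraMap A Γ(V', ⊤)) = algebraMap A Γ(U', ⊤) := by
    have h1 : sp (ci.appTop.hom.comp (algebraMap A Γ(V', ⊤))) = sp (algebraMap A Γ(U', ⊤)) := by
      rw [← sp_comp, hB₀, ← Category.assoc, ← hκo, Category.assoc, Over.w i, hC₀]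
    exact congrArg CommRingCat.Hom.hom (Spec.map_injective h1)
  let φ₀ : Γ(V', ⊤) →ₐ[A] Γ(U', ⊤) := { toRingHom := ci.appTop.hom, commutes' := RingHom.congr_fun hciA }
  have hφ₀ : Function.Surjective φ₀ := (IsClosedImmersion.isAffine_surjective_of_isAffine ci).2
  have hpo : eY p ∈ Set.range o₀ := by
    obtain ⟨z, hz⟩ := hy
    refine ⟨U'.isoSpec.hom z, ?_⟩
    rw [← Scheme.Hom.comp_apply, Iso.hom_inv_id_assoc, Scheme.Hom.comp_apply, hz]
    rfl
  obtain ⟨_, ⟨r, rfl⟩, hrp, hr⟩ := PrimeSpectrum.isTopologicalBasis_basic_opens.exists_subset_of_mem_open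
    (show p ∈ eY ⁻¹' Set.range o₀ from hpo) (o₀.isOpenEmbedding.isOpen_range.preimage eY.continuous)
  let L := Localization.Away r
  have hrange : Set.range (sp (algebraMap A L) ≫ eY) ⊆ Set.range o₀ := by
    rintro _ ⟨z, rfl⟩
    rw [Scheme.Hom.comp_apply]
    exact hr ((sp_away_range r).le ⟨z, rfl⟩)
  obtain ⟨ψ, hψ⟩ := Spec.map_surjective (IsOpenImmersion.lift o₀ _ hrange)
  have hψ' : sp ψ.hom ≫ o₀ = sp (algebraMap A L) ≫ eY := by
    rw [show sp ψ.hom = Spec.map ψ from rfl, hψ, IsOpenImmersion.lift_fac]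
  have hψA : ψ.hom.comp (algebraMap A Γ(U', ⊤)) = algebraMap A L := by
    have h1 : sp (ψ.hom.comp (algebraMap A Γ(U', ⊤))) = sp (algebraMap A L) := by
      rw [← sp_comp, hC₀, ← Category.assoc, hψ', Category.assoc, Over.w (η[Y] : 𝟙_ _ ⟶ Y)]
      exact Category.comp_id _
    exact congrArg CommRingCat.Hom.hom (Spec.map_injective h1)
  let ψa : Γ(U', ⊤) →ₐ[A] L := { toRingHom := ψ.hom, commutes' := RingHom.congr_fun hψA }
  haveI : Etale κ₀ := inferInstanceAs (Etale (_ ≫ _ ≫ _))
  haveI : IsOpenImmersion o₀ := inferInstanceAs (IsOpenImmersion (_ ≫ _ ≫ _))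
  obtain ⟨κ, hκe, hκ₂, hκ₁⟩ := chart_baseChange @Etale X.hom κ₀ inferInstance hB₀.symm L
  obtain ⟨o, hoo, ho₂, ho₁⟩ := chart_baseChange @IsOpenImmersion Y.hom o₀ inferInstance hC₀.symm L
  let φ : L ⊗[A] Γ(V', ⊤) →ₐ[L] L ⊗[A] Γ(U', ⊤) := Algebra.TensorProduct.map (AlgHom.id L L) φ₀
  have hφ : Function.Surjective φ := LinearMap.lTensor_surjective L (g := φ₀.toLinearMap) hφ₀
  let eC : L ⊗[A] Γ(U', ⊤) →ₐ[L] L :=
    Algebra.TensorProduct.lift (Algebra.ofId L L) ψa fun _ _ => Commute.all _ _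
  refine ⟨r, L ⊗[A] Γ(V', ⊤), L ⊗[A] Γ(U', ⊤), inferInstance, inferInstance, inferInstance, inferInstance, φ, eC, κ,
    o, hrp, inferInstance, hφ, Algebra.FinitePresentation.ker_fG_of_surjective φ hφ, hκe, hoo, hκ₂, ?_, ?_⟩
  · refine pullback.hom_ext ?_ ?_
    · rw [Category.assoc, Category.assoc, pullback.lift_fst, ← Category.assoc, ho₁, Category.assoc, hκo, hκ₁]
      refine ((Category.assoc _ _ _).symm.trans (congrArg (· ≫ κ₀) ?_)).trans (Category.assoc _ _ _)
      rw [sp_comp, sp_comp]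
      congr 1
    · rw [Category.assoc, Category.assoc, pullback.lift_snd, Category.comp_id, ho₂, hκ₂, sp_comp]
      exact congrArg sp φ.comp_algebraMap.symm
  · rw [ho₁, ← Category.assoc, sp_comp, ← hψ']
    congr 2
    refine RingHom.ext fun a => ?_
    show eC ((1 : L) ⊗ₜ[A] a) = ψ.hom a
    rw [Algebra.TensorProduct.lift_tmul]
    simp only [map_one, _root_.one_mul]
    rfl

variable {S : Scheme.{u}} (X Y : Over S) [GrpObj X] [GrpObj Y]

/-- Weil restriction of a monomorphism of group schemes. -/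
theorem exists_closed_inG [Smooth X.hom] [GeometricallyConnected X.hom] [QuasiSeparated X.hom]
    [LocallyOfFinitePresentation Y.hom] (i : Y ⟶ X) [IsMonHom i] [Mono i] :
    ∃ (T : Scheme.{u}) (t : T ⟶ S), IsClosedImmersion t ∧ LocallyOfFinitePresentation t ∧
      ∀ ⦃S' : Scheme.{u}⦄ (g : S' ⟶ S), (∃ g' : S' ⟶ T, g' ≫ t = g) ↔ InG i g := by
  haveI : Mono i.left := inferInstanceAs (Mono ((Over.forget S).map i))
  suffices H : ∀ s : S, ∃ (R : CommRingCat.{u}) (j : Spec (CommRingCat.of R) ⟶ S), IsOpenImmersion j ∧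
      s ∈ Set.range j ∧ ∃ I : Ideal R, RepIdeal (InG i) j I ∧ (True → I.FG) by
    obtain ⟨T, t, ht, h, hfp⟩ := exists_closed (isLocalProp_inY X.hom i.left) True H
    exact ⟨T, t, ht, hfp trivial, h⟩
  intro s
  obtain ⟨V, hV, hsV, -⟩ := exists_isAffineOpen_mem_and_subset (X := S) (x := s) (U := ⊤) trivial
  obtain ⟨p, rfl⟩ : s ∈ Set.range hV.fromSpec := hV.range_fromSpec.ge hsV
  let A : Type u := Γ(S, V)
  let jV : Spec (CommRingCat.of A) ⟶ S := hV.fromSpec
  haveI : IsOpenImmersion jV := inferInstanceAs (IsOpenImmersion hV.fromSpec)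
  let XA := (Over.pullback jV).obj X
  let YA := (Over.pullback jV).obj Y
  let iA : YA ⟶ XA := (Over.pullback jV).map i
  letI : GrpObj XA := Functor.grpObjObj
  letI : GrpObj YA := Functor.grpObjObj
  haveI : IsMonHom iA := @Functor.map.instIsMonHom _ _ _ _ _ _ (Over.pullback jV) _ _ _ _ _ i _
  haveI : Smooth XA.hom := MorphismProperty.pullback_snd _ _ inferInstance
  haveI : LocallyOfFinitePresentation YA.hom := MorphismProperty.pullback_snd _ _ inferInstance
  haveI : GeometricallyConnected XA.hom := inferInstanceAs (GeometricallyConnected (pullback.snd X.hom jV))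
  haveI : QuasiSeparated XA.hom := MorphismProperty.pullback_snd _ _ inferInstance
  haveI : Mono iA := inferInstance
  obtain ⟨r, B, C, _, _, _, _, φ, eC, κ, o, hr, hsm, hφ, hfg, hκe, hoo, hκ, hoκ, hε⟩ := exists_grpChart XA YA iA p
  haveI := hsm; haveI := hκe; haveI := hoo
  let g := sp (algebraMap A (Localization.Away r))
  haveI := isOpenImmersion_sp_away r
  let XL := (Over.pullback g).obj XA
  let YL := (Over.pullback g).obj YA
  let iL : YL ⟶ XL := (Over.pullback g).map iA
  letI : GrpObj XL := Functor.grpObjObj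
  letI : GrpObj YL := Functor.grpObjObj
  haveI : IsMonHom iL := @Functor.map.instIsMonHom _ _ _ _ _ _ (Over.pullback g) _ _ _ _ _ iA _
  haveI : Smooth XL.hom := MorphismProperty.pullback_snd _ _ inferInstance
  haveI : GeometricallyConnected XL.hom := inferInstanceAs (GeometricallyConnected (pullback.snd XA.hom g))
  haveI : QuasiSeparated XL.hom := MorphismProperty.pullback_snd _ _ inferInstance
  haveI : Mono iL := inferInstance
  have hiL : iL.left = pullback.map YA.hom g XA.hom g iA.left (𝟙 _) (𝟙 _) (by simp) (by simp) := by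
    apply pullback.hom_ext
    · exact (pullback.lift_fst _ _ _).trans (pullback.lift_fst _ _ _).symm
    · refine (pullback.lift_snd _ _ _).trans ((pullback.lift_snd _ _ _).trans (Category.comp_id _)).symm
  obtain ⟨I, hI, hIfg⟩ := exists_repIdeal_grpChart XL YL iL φ hφ hfg κ hκ o (by rw [hiL]; exact hoκ) eC (by
    rw [← hoκ, ← hiL]
    have h2 : sp eC.toRingHom ≫ o = (η[YL] : 𝟙_ _ ⟶ YL).left := by
      refine pullback.hom_ext ?_ ?_
      · rw [Category.assoc, hε]
        exact (one_left_fst g YA).symm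
      · rw [Category.assoc]
        have h3 : o ≫ pullback.snd YA.hom g = sp (algebraMap (Localization.Away r) C) := by
          have h4 := congrArg (· ≫ pullback.snd XA.hom g) hoκ
          simp only [Category.assoc] at h4
          refine Eq.trans (congrArg (o ≫ ·) ?_) (h4.trans (((congrArg (sp φ.toRingHom ≫ ·) hκ).trans (sp_comp _ _)).trans
            (congrArg sp φ.comp_algebraMap)))
          exact ((pullback.lift_snd _ _ _).trans (Category.comp_id _)).symm
        rw [h3, sp_comp, show eC.toRingHom.comp (algebraMap _ C) = RingHom.id _ from eC.comp_algebraMap,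
          show sp (RingHom.id (Localization.Away r)) = 𝟙 _ from Spec.map_id _]
        exact (Over.w (η[YL] : 𝟙_ _ ⟶ YL)).symm
    rw [← Category.assoc, h2, ← Over.comp_left, IsMonHom.one_hom])
  refine ⟨CommRingCat.of (Localization.Away r), g ≫ jV, inferInstance, ?_, I, fun R' _ ψ => ?_, fun _ => hIfg⟩
  · obtain ⟨z, hz⟩ := (sp_away_range r).ge hr
    exact ⟨z, by rw [Scheme.Hom.comp_apply, hz]; rfl⟩
  · rw [← hI R' ψ, Category.comp_id, inG_base_change, inG_base_change, Category.assoc]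

end Groth.Agent.WeilRes
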