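import Groth.Agent.WeilResLib.Coef

/-!
# Noetherian models of smooth algebras with section

We prove: an element vanishing on all infinitesimal neighbourhoods of a section vanishes near the
section; finitely many neighbourhoods suffice; a fibrewise non-zero-divisor is a non-zero-divisor.
-/

set_option autoImplicit false

universe u

open TensorProduct

namespace Groth.Agent.WeilRes

variable {R B : Type u} [CommRing R] [CommRing B] [Algebra R B]

/-- A model of an algebra over a subring of finite type over the integers. -/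
structure Model (R B : Type u) [CommRing R] [CommRing B] [Algebra R B] where
  R₀ : Subalgebra ℤ R
  fg : R₀.FG
  B₀ : Type u
  [ring : CommRing B₀]
  [alg : Algebra R₀ B₀]
  [smooth : Algebra.Smooth R₀ B₀]
  Φ : R ⊗[R₀] B₀ ≃ₐ[R] B

attribute [instance] Model.ring Model.alg Model.smooth

namespace Model

variable (M : Model R B)

instance : IsNoetherianRing M.R₀ :=
  haveI : Algebra.FiniteType ℤ M.R₀ := ⟨M.R₀.fg_top.mpr M.fg⟩
  Algebra.FiniteType.isNoetherianRing ℤ M.R₀

instance : IsNoetherianRing M.B₀ := Algebra.FiniteType.isNoetherianRing M.R₀ M.B₀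

/-- The map from the model. -/
noncomputable def β : M.B₀ →+* B :=
  M.Φ.toAlgHom.toRingHom.comp (Algebra.TensorProduct.includeRight : M.B₀ →ₐ[M.R₀] R ⊗[M.R₀] M.B₀).toRingHom

theorem β_apply (b : M.B₀) : M.β b = M.Φ (1 ⊗ₜ b) := rfl

theorem β_algebraMap (r : M.R₀) : M.β (algebraMap M.R₀ M.B₀ r) = algebraMap R B r := by
  rw [β_apply, Algebra.algebraMap_eq_smul_one (A := M.B₀), tmul_smul, smul_tmul']
  show M.Φ (((r : R) * 1) ⊗ₜ (1 : M.B₀)) = _
  rw [mul_one]
  exact M.Φ.commutes (r : R)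

theorem Φ_tmul (r : R) (b : M.B₀) : M.Φ (r ⊗ₜ b) = r • M.β b := by
  rw [β_apply, ← map_smul, smul_tmul', smul_eq_mul, mul_one]

/-- A model over a bigger subring. -/
theorem exists_enlarge (F : Finset R) : ∃ M' : Model R B, M.R₀ ≤ M'.R₀ ∧ ↑F ⊆ (M'.R₀ : Set R) ∧
    Set.range M.β ⊆ Set.range M'.β ∧
    ∀ S : Subring B, (∀ r : R, r ∈ M'.R₀ → algebraMap R B r ∈ S) → Set.range M.β ⊆ S → Set.range M'.β ⊆ S := by
  let R₁ := M.R₀ ⊔ Algebra.adjoin ℤ (↑F : Set R)
  have hle : M.R₀ ≤ R₁ := le_sup_left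
  letI : Algebra M.R₀ R₁ := (Subalgebra.inclusion hle).toRingHom.toAlgebra
  haveI : IsScalarTower M.R₀ R₁ R := IsScalarTower.of_algebraMap_eq fun _ => rfl
  let Φ' : R ⊗[R₁] (R₁ ⊗[M.R₀] M.B₀) ≃ₐ[R] B :=
    (Algebra.TensorProduct.cancelBaseChange M.R₀ R₁ R R M.B₀).trans M.Φ
  let M' : Model R B := { R₀ := R₁, fg := M.fg.sup ⟨F, rfl⟩, B₀ := R₁ ⊗[M.R₀] M.B₀, Φ := Φ' }
  have hβ : ∀ (r : R₁) (b : M.B₀), M'.β ((r ⊗ₜ[M.R₀] b : R₁ ⊗[M.R₀] M.B₀)) = (r : R) • M.β b := fun r b => by
    show Φ' ((1 : R) ⊗ₜ[R₁] (r ⊗ₜ[M.R₀] b)) = _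
    simp only [Φ', AlgEquiv.trans_apply, Algebra.TensorProduct.cancelBaseChange_tmul]
    rw [Φ_tmul, Algebra.smul_def r (1 : R), mul_one]
    rfl
  refine ⟨M', hle, fun x hx => (le_sup_right : Algebra.adjoin ℤ (↑F : Set R) ≤ R₁) (Algebra.subset_adjoin hx),
    ?_, fun S hS hS' => ?_⟩
  · rintro _ ⟨b, rfl⟩
    exact ⟨(1 : R₁) ⊗ₜ[M.R₀] b, (hβ 1 b).trans (one_smul R _)⟩
  · rintro _ ⟨z, rfl⟩
    induction (show R₁ ⊗[M.R₀] M.B₀ from z) using TensorProduct.induction_on with
    | zero => exact (map_zero M'.β).symm ▸ S.zero_mem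
    | tmul r b => exact (hβ r b).symm ▸ (Algebra.smul_def (r : R) (M.β b)).symm ▸ S.mul_mem (hS r r.2) (hS' ⟨b, rfl⟩)
    | add a c ha hc => exact (map_add M'.β a c).symm ▸ S.add_mem ha hc

end Model

/-- Models containing given elements. -/
theorem exists_model (R B : Type u) [CommRing R] [CommRing B] [Algebra R B] [Algebra.Smooth R B] (F : Finset B) :
    ∃ M : Model R B, ↑F ⊆ Set.range M.β := by
  classical
  obtain ⟨R₀, B₀, _, _, hfg, hsm, ⟨ψ⟩⟩ := Algebra.Smooth.exists_subalgebra_fg ℤ R B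
  let M : Model R B := { R₀ := R₀, fg := hfg, B₀ := B₀, Φ := ψ.symm }
  have key : ∀ z : R ⊗[M.R₀] M.B₀, ∃ G : Finset R, ∀ S : Subring B,
      (∀ r ∈ G, algebraMap R B r ∈ S) → Set.range M.β ⊆ S → M.Φ z ∈ S := by
    intro z
    induction z using TensorProduct.induction_on with
    | zero => exact ⟨∅, fun S _ _ => by rw [map_zero]; exact S.zero_mem⟩
    | tmul r b =>
      refine ⟨{r}, fun S hr hb => ?_⟩
      rw [M.Φ_tmul, Algebra.smul_def]
      exact S.mul_mem (hr r (Finset.mem_singleton_self r)) (hb ⟨b, rfl⟩)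
    | add a c ha hc =>
      obtain ⟨G₁, h₁⟩ := ha
      obtain ⟨G₂, h₂⟩ := hc
      exact ⟨G₁ ∪ G₂, fun S hr hb => by
        rw [map_add]
        exact S.add_mem (h₁ S (fun r hr' => hr r (Finset.mem_union_left _ hr')) hb)
          (h₂ S (fun r hr' => hr r (Finset.mem_union_right _ hr')) hb)⟩
  choose G hG using fun b : B => key (M.Φ.symm b)
  obtain ⟨M', -, hF, hrange, -⟩ := M.exists_enlarge (F.biUnion G)
  refine ⟨M', fun b hb => ?_⟩
  have := hG b M'.β.range (fun r hr => ⟨algebraMap M'.R₀ M'.B₀ ⟨r, hF (Finset.mem_coe.2 (Finset.mem_biUnion.2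
    ⟨b, Finset.mem_coe.1 hb, hr⟩))⟩, M'.β_algebraMap _⟩) hrange
  rw [AlgEquiv.apply_symm_apply] at this
  exact this

/-- Models with a section. -/
theorem exists_model_section [Algebra.Smooth R B] (e : B →ₐ[R] R) (F : Finset B) :
    ∃ (M : Model R B) (e₀ : M.B₀ →ₐ[M.R₀] M.R₀), ↑F ⊆ Set.range M.β ∧ ∀ b, (e₀ b : R) = e (M.β b) := by
  classical
  obtain ⟨M, hF⟩ := exists_model R B F
  obtain ⟨s, hs⟩ := (inferInstance : Algebra.FiniteType M.R₀ M.B₀).out
  obtain ⟨M', hle, hG, hrange, hmin⟩ := M.exists_enlarge (s.image fun b => e (M.β b))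
  let S : Subring B := (M'.R₀.toSubring).comap e.toRingHom
  have hbase : ∀ r : R, r ∈ M'.R₀ → algebraMap R B r ∈ S := fun r hr => by
    show e (algebraMap R B r) ∈ M'.R₀
    rw [e.commutes]
    exact hr
  have hold : Set.range M.β ⊆ S := by
    rintro _ ⟨b, rfl⟩
    show e (M.β b) ∈ M'.R₀
    have hb : b ∈ Algebra.adjoin M.R₀ (↑s : Set M.B₀) := hs ▸ Algebra.mem_top
    induction hb using Algebra.adjoin_induction with
    | mem x hx => exact hG (Finset.mem_coe.2 (Finset.mem_image.2 ⟨x, hx, rfl⟩))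
    | algebraMap r => rw [M.β_algebraMap, e.commutes]; exact hle r.2
    | add x y _ _ hx hy => rw [map_add, map_add]; exact M'.R₀.add_mem hx hy
    | mul x y _ _ hx hy => rw [map_mul, map_mul]; exact M'.R₀.mul_mem hx hy
  have hnew := hmin S hbase hold
  let e₀ : M'.B₀ →ₐ[M'.R₀] M'.R₀ :=
    { (e.toRingHom.comp M'.β).codRestrict M'.R₀.toSubring fun b => hnew ⟨b, rfl⟩ with
      commutes' := fun r => Subtype.ext (by
        show e (M'.β (algebraMap M'.R₀ M'.B₀ r)) = (r : R)
        rw [M'.β_algebraMap, e.commutes]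
        rfl) }
  exact ⟨M', e₀, hF.trans hrange, fun b => rfl⟩

/-- Vanishing on infinitesimal neighbourhoods can be tested on a model. -/
theorem van_model (e : B →ₐ[R] R) (M : Model R B) (e₀ : M.B₀ →ₐ[M.R₀] M.R₀)
    (he : ∀ b, (e₀ b : R) = e (M.β b)) (R' : Type u) [CommRing R'] [Algebra R R'] (n : ℕ) (b : M.B₀) : Van e R' n (M.β b) ↔ Van e₀ R' n b := by
  let ψ : R' ⊗[M.R₀] M.B₀ ≃ₐ[R'] R' ⊗[R] B :=
    (Algebra.TensorProduct.cancelBaseChange M.R₀ R R' R' M.B₀).symm.trans
      (Algebra.TensorProduct.congr (AlgEquiv.refl : R' ≃ₐ[R'] R') M.Φ)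
  have hψ : ∀ b, ψ ((1 : R') ⊗ₜ b) = (1 : R') ⊗ₜ[R] M.β b := fun b => by
    simp only [ψ, AlgEquiv.trans_apply, Algebra.TensorProduct.cancelBaseChange_symm_tmul,
      Algebra.TensorProduct.congr_apply, Algebra.TensorProduct.map_tmul]
    rfl
  have hc : (secBC e R').comp ψ.toAlgHom = secBC e₀ R' :=
    Algebra.TensorProduct.ext (Subsingleton.elim _ _) (AlgHom.ext fun b => by
      show secBC e R' (ψ (1 ⊗ₜ b)) = secBC e₀ R' (1 ⊗ₜ b)
      rw [hψ, secBC_tmul, secBC_tmul, ← he]
      congr 1)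
  have hk : RingHom.ker (secBC e R') = (RingHom.ker (secBC e₀ R')).map ψ.toRingEquiv := by
    rw [← hc]
    ext x
    rw [Ideal.mem_map_iff_of_surjective _ ψ.toRingEquiv.surjective]
    constructor
    · intro hx
      exact ⟨ψ.symm x, by
        rw [RingHom.mem_ker] at hx ⊢
        show secBC e R' (ψ (ψ.symm x)) = 0
        rwa [AlgEquiv.apply_symm_apply], ψ.apply_symm_apply x⟩
    · rintro ⟨y, hy, rfl⟩
      exact hy
  rw [Van, Van, ← hψ, hk, ← Ideal.map_pow]
  show ψ.toRingEquiv (1 ⊗ₜ[M.R₀] b) ∈ _ ↔ _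
  rw [Ideal.mem_map_iff_of_surjective _ ψ.toRingEquiv.surjective]
  exact ⟨fun ⟨x, hx, hxe⟩ => ψ.toRingEquiv.injective hxe ▸ hx, fun h => ⟨_, h, rfl⟩⟩

theorem van_self_iff (e : B →ₐ[R] R) (n : ℕ) (x : B) : Van e R n x ↔ x ∈ RingHom.ker e ^ n := by
  rw [van_iff_tmul, ← (TensorProduct.lid R _).map_eq_zero_iff, TensorProduct.lid_tmul, one_smul,
    Ideal.Quotient.eq_zero_iff_mem]

/-- An element vanishing on all infinitesimal neighbourhoods of a section vanishes near the section. -/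
theorem exists_kill [Algebra.Smooth R B] (e : B →ₐ[R] R) (h : B) (hh : ∀ n, h ∈ RingHom.ker e ^ n) :
    ∃ u : B, e u = 1 ∧ u * h = 0 := by
  classical
  obtain ⟨M, e₀, hF, he⟩ := exists_model_section e {h}
  obtain ⟨h₀, rfl⟩ := hF (Finset.mem_coe.2 (Finset.mem_singleton_self h))
  have h0 : ∀ n, h₀ ∈ RingHom.ker e₀ ^ n := fun n => by
    have h1 : Van e₀ R n h₀ := (van_model e M e₀ he R n h₀).1 ((van_self_iff e n _).2 (hh n))
    refine (van_self_iff e₀ n h₀).1 ((vanIdeal_le_iff e₀ n {h₀} M.R₀).1 (fun r hr => ?_) h₀ rfl)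
    have := ((vanIdeal_le_iff e₀ n {h₀} R).2 (fun x hx => Set.mem_singleton_iff.1 hx ▸ h1)) hr
    rw [RingHom.mem_ker] at this
    exact RingHom.mem_ker.2 (Subtype.ext this)
  have hinf : h₀ ∈ (⨅ i : ℕ, RingHom.ker e₀ ^ i • ⊤ : Submodule M.B₀ M.B₀) :=
    Submodule.mem_iInf _ |>.2 fun i => by rw [smul_eq_mul, Ideal.mul_top]; exact h0 i
  obtain ⟨⟨r, hr⟩, hr'⟩ := (Ideal.mem_iInf_smul_pow_eq_bot_iff _ _).1 hinf
  refine ⟨M.β (1 - r), ?_, ?_⟩
  · rw [← he, map_sub, map_one, RingHom.mem_ker.1 hr, sub_zero]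
    rfl
  · rw [← map_mul, sub_mul, one_mul, show r * h₀ = h₀ from hr', sub_self, map_zero]

/-- Finitely many infinitesimal neighbourhoods suffice, uniformly in the base change. -/
theorem exists_uniform [Algebra.Smooth R B] (e : B →ₐ[R] R) (s : Finset B) :
    ∃ N, ∀ (R' : Type u) [CommRing R'] [Algebra R R'], (∀ x ∈ s, Van e R' N x) → ∀ n, ∀ x ∈ s, Van e R' n x := by
  classical
  obtain ⟨M, e₀, hF, he⟩ := exists_model_section e s
  choose b hb using fun x (hx : x ∈ s) => hF (Finset.mem_coe.2 hx)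
  let t : Set M.B₀ := Set.range fun x : s => b x.1 x.2
  let a : ℕ → Ideal M.R₀ := fun n => vanIdeal e₀ n t
  have hmono : ∀ k n, k ≤ n → a k ≤ a n := fun k n hk => by
    have h1 := (vanIdeal_le_iff e₀ n t (M.R₀ ⧸ a n)).1 (by rw [Ideal.Quotient.algebraMap_eq, Ideal.mk_ker])
    have h2 := (vanIdeal_le_iff e₀ k t (M.R₀ ⧸ a n)).2 fun x hx => (h1 x hx).anti e₀ hk
    rwa [Ideal.Quotient.algebraMap_eq, Ideal.mk_ker] at h2
  obtain ⟨N, hN⟩ := monotone_stabilizes_iff_noetherian.mpr
    (inferInstance : IsNoetherian M.R₀ M.R₀) ⟨a, fun k n => hmono k n⟩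
  refine ⟨N, fun R' _ _ hv n x hx => ?_⟩
  have h1 : a N ≤ RingHom.ker (algebraMap M.R₀ R') := (vanIdeal_le_iff e₀ N t R').2 fun z hz => by
    obtain ⟨⟨y, hy⟩, rfl⟩ := hz
    exact (van_model e M e₀ he R' N (b y hy)).1 (by rw [hb]; exact hv y hy)
  have h2 : a n ≤ RingHom.ker (algebraMap M.R₀ R') := by
    rcases le_total n N with h | h
    · exact (hmono n N h).trans h1
    · exact le_of_eq_of_le (show a n = a N from (hN n h).symm) h1
  rw [← hb x hx]
  exact (van_model e M e₀ he R' n _).2 ((vanIdeal_le_iff e₀ n t R').1 h2 _ ⟨⟨x, hx⟩, rfl⟩)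

section Noetherian

variable {P : Type u} [CommRing P] (m : Ideal P)

/-- If a map of a flat module is injective modulo a maximal ideal, its kernel lies in all powers. -/
theorem mem_pow_smul_of_lTensor_injective {M : Type u} [AddCommGroup M] [Module P M] [Module.Flat P M]
    [m.IsMaximal] (f : M →ₗ[P] M) (hf : Function.Injective (f.lTensor (P ⧸ m))) {h : M} (hh : f h = 0) (n : ℕ) :
    h ∈ (m ^ n • ⊤ : Submodule P M) := by
  letI := Ideal.Quotient.field m
  induction n with
  | zero => simp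
  | succ n ih =>
    let I : Submodule P P := m ^ n
    let μ : I ⊗[P] M →ₗ[P] M := (TensorProduct.lid P M).toLinearMap ∘ₗ I.subtype.rTensor M
    have hμinj : Function.Injective μ :=
      (TensorProduct.lid P M).injective.comp (Module.Flat.rTensor_preserves_injective_linearMap _ Subtype.val_injective)
    obtain ⟨z, rfl⟩ : ∃ z, μ z = h := by
      refine Submodule.smul_induction_on ih (fun r hr x _ => ⟨(⟨r, hr⟩ : I) ⊗ₜ x, by simp [μ]⟩) ?_
      rintro x y ⟨a, rfl⟩ ⟨c, rfl⟩
      exact ⟨a + c, map_add μ a c⟩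
    have hz : f.lTensor I z = 0 := hμinj <| by
      have hcomm : μ ∘ₗ f.lTensor I = f ∘ₗ μ := TensorProduct.ext' fun a x => by simp [μ]
      rw [map_zero, ← LinearMap.comp_apply, hcomm, LinearMap.comp_apply, hh]
    let J : Submodule P I := m • ⊤
    let Q := I ⧸ J
    letI : Module (P ⧸ m) Q := Module.instQuotientIdealSubmoduleHSMulTop I m
    haveI : IsScalarTower P (P ⧸ m) Q := IsScalarTower.of_algebraMap_smul fun r x => by
      obtain ⟨x, rfl⟩ := Submodule.Quotient.mk_surjective _ x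
      rfl
    have hQ : Function.Injective (f.lTensor Q) := by
      let c := TensorProduct.AlgebraTensorModule.cancelBaseChange P (P ⧸ m) (P ⧸ m) Q M
      let F : (P ⧸ m) ⊗[P] M →ₗ[P ⧸ m] (P ⧸ m) ⊗[P] M := TensorProduct.AlgebraTensorModule.map LinearMap.id f
      have hF : Function.Injective F := hf
      have h1 : Function.Injective (F.lTensor Q) := Module.Flat.lTensor_preserves_injective_linearMap F hF
      have h2 : ∀ w, f.lTensor Q (c w) = c (F.lTensor Q w) := by
        intro w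
        induction w using TensorProduct.induction_on with
        | zero => simp
        | add a d ha hd => simp only [map_add, ha, hd]
        | tmul q y =>
          induction y using TensorProduct.induction_on with
          | zero => simp
          | add a d ha hd => simp only [tmul_add, map_add, ha, hd]
          | tmul r x => simp [c, F]
      intro w w' hw
      obtain ⟨v, rfl⟩ := c.surjective w
      obtain ⟨v', rfl⟩ := c.surjective w'
      rw [h2, h2] at hw
      rw [h1 (c.injective hw)]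
    have hzQ : J.mkQ.rTensor M z = 0 := hQ <| by
      rw [map_zero, ← LinearMap.comp_apply, LinearMap.lTensor_comp_rTensor, ← LinearMap.rTensor_comp_lTensor,
        LinearMap.comp_apply, hz, map_zero]
    obtain ⟨w, rfl⟩ := ((rTensor_exact M (LinearMap.exact_subtype_mkQ J) J.mkQ_surjective) z).1 hzQ
    clear hh hz hzQ ih
    induction w using TensorProduct.induction_on with
    | zero => simp
    | add a d ha hd => rw [map_add, map_add]; exact add_mem ha hd
    | tmul j x =>
      obtain ⟨j, hj⟩ := j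
      rw [show μ (J.subtype.rTensor M ((⟨j, hj⟩ : J) ⊗ₜ x)) = (j : P) • x by simp [μ]]
      refine Submodule.smul_mem_smul ?_ Submodule.mem_top
      have : (j : P) ∈ Submodule.map I.subtype J := ⟨j, hj, rfl⟩
      rw [Submodule.map_smul'', Submodule.map_subtype_top, smul_eq_mul] at this
      rw [pow_succ']
      exact this

variable (Q : Type u) [CommRing Q] [Algebra P Q] [IsNoetherianRing P] [Algebra.FiniteType P Q]

/-- An element lying in all powers of the maximal ideal after localisation at `q ∩ P` vanishes near `q`. -/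
theorem exists_kill_of_mem_pow (h : Q) (q : Ideal Q) [q.IsPrime]
    (hmem : ∀ n : ℕ, ((1 : Localization.AtPrime (q.under P)) ⊗ₜ[P] h) ∈
      (IsLocalRing.maximalIdeal (Localization.AtPrime (q.under P)) ^ n • ⊤ :
        Submodule (Localization.AtPrime (q.under P)) (Localization.AtPrime (q.under P) ⊗[P] Q))) :
    ∃ t, t ∉ q ∧ t * h = 0 := by
  let p := q.under P
  let L := Localization.AtPrime p
  let mL := IsLocalRing.maximalIdeal L
  haveI : IsNoetherianRing (L ⊗[P] Q) := Algebra.FiniteType.isNoetherianRing L _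
  let h₁ : L ⊗[P] Q := 1 ⊗ₜ h
  let I : Ideal (L ⊗[P] Q) := mL.map (algebraMap L (L ⊗[P] Q))
  have hinf : h₁ ∈ (⨅ i : ℕ, I ^ i • ⊤ : Submodule (L ⊗[P] Q) (L ⊗[P] Q)) :=
    (Submodule.mem_iInf _).2 fun i => by
      rw [smul_eq_mul, Ideal.mul_top, ← Ideal.map_pow]
      have := hmem i
      rw [Ideal.smul_top_eq_map] at this
      exact this
  obtain ⟨⟨r, hr⟩, hr'⟩ := (Ideal.mem_iInf_smul_pow_eq_bot_iff _ _).1 hinf
  haveI : IsLocalizedModule p.primeCompl (TensorProduct.mk P L Q 1) :=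
    (isLocalizedModule_iff_isBaseChange p.primeCompl L _).2 (TensorProduct.isBaseChange P Q L)
  obtain ⟨⟨b, s⟩, hbs⟩ := IsLocalizedModule.surj p.primeCompl (TensorProduct.mk P L Q 1) (1 - r)
  have hbq : b ∉ q := by
    intro hb
    let ι : L ⊗[P] Q →ₐ[P] Localization.AtPrime q := Algebra.TensorProduct.lift
      ({ Localization.localRingHom p q (algebraMap P Q) rfl with
          commutes' := fun x => by
            show Localization.localRingHom p q (algebraMap P Q) rfl (algebraMap P L x) = _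
            rw [Localization.localRingHom_to_map, ← IsScalarTower.algebraMap_apply] } : L →ₐ[P] Localization.AtPrime q)
      (IsScalarTower.toAlgHom P Q (Localization.AtPrime q)) fun _ _ => Commute.all _ _
    have hIle : I ≤ (IsLocalRing.maximalIdeal (Localization.AtPrime q)).comap ι := by
      refine Ideal.map_le_iff_le_comap.2 fun x hx => ?_
      rw [Ideal.mem_comap, Ideal.mem_comap, Algebra.TensorProduct.algebraMap_apply, Algebra.algebraMap_self,
        RingHom.id_apply, Algebra.TensorProduct.lift_tmul, map_one, mul_one]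
      exact map_nonunit (Localization.localRingHom p q (algebraMap P Q) rfl) x hx
    have h1 : ι ((s : P) • (1 - r)) ∈ IsLocalRing.maximalIdeal (Localization.AtPrime q) := by
      rw [show (s : P) • (1 - r) = (1 : L) ⊗ₜ b from hbs, Algebra.TensorProduct.lift_tmul, map_one, one_mul]
      exact (IsLocalization.AtPrime.to_map_mem_maximal_iff (Localization.AtPrime q) q b).2 hb
    rw [map_smul, Algebra.smul_def] at h1
    have hs : IsUnit (algebraMap P (Localization.AtPrime q) s) := by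
      rw [IsScalarTower.algebraMap_apply P Q]
      exact IsLocalization.map_units (Localization.AtPrime q) (⟨algebraMap P Q s, s.2⟩ : q.primeCompl)
    rw [Ideal.unit_mul_mem_iff_mem _ hs, map_sub, map_one] at h1
    have h2 := Ideal.add_mem _ h1 (hIle hr)
    rw [sub_add_cancel] at h2
    exact (IsLocalRing.maximalIdeal.isMaximal _).ne_top ((Ideal.eq_top_iff_one _).2 h2)
  have h0 : (TensorProduct.mk P L Q 1) (b * h) = TensorProduct.mk P L Q 1 0 := by
    have h1 : (1 - r) * h₁ = 0 := by rw [sub_mul, one_mul, show r * h₁ = h₁ from hr', sub_self]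
    rw [map_zero, TensorProduct.mk_apply, show (1 : L) ⊗ₜ[P] (b * h) = ((1 : L) ⊗ₜ[P] b) * h₁ by
      rw [Algebra.TensorProduct.tmul_mul_tmul, one_mul], show (1 : L) ⊗ₜ[P] b = (s : P) • (1 - r) from hbs.symm,
      smul_mul_assoc, h1, smul_zero]
  obtain ⟨c, hc⟩ := IsLocalizedModule.exists_of_eq (S := p.primeCompl) h0
  refine ⟨algebraMap P Q c * b, fun hcb => ?_, ?_⟩
  · rcases Ideal.IsPrime.mem_or_mem ‹_› hcb with h | h
    · exact c.2 h
    · exact hbq h
  · rw [mul_assoc, ← Algebra.smul_def]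
    exact hc.trans (smul_zero _)

variable [Module.Flat P Q]

theorem local_zero_noeth (g h : Q) (hgh : g * h = 0) (q : Ideal Q) [q.IsPrime]
    (hq : ∀ z : (q.under P).ResidueField ⊗[P] Q, ((1 : (q.under P).ResidueField) ⊗ₜ[P] g) * z = 0 → z = 0) :
    ∃ t, t ∉ q ∧ t * h = 0 := by
  let p := q.under P
  let L := Localization.AtPrime p
  let mL := IsLocalRing.maximalIdeal L
  haveI : IsNoetherianRing (L ⊗[P] Q) := Algebra.FiniteType.isNoetherianRing L _
  let g₁ : L ⊗[P] Q := 1 ⊗ₜ g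
  let h₁ : L ⊗[P] Q := 1 ⊗ₜ h
  have hinj : Function.Injective ((LinearMap.mulLeft L g₁).lTensor (L ⧸ mL)) := by
    refine (injective_iff_map_eq_zero _).2 fun w hw => ?_
    let c : (L ⧸ mL) ⊗[L] (L ⊗[P] Q) ≃ₐ[L] p.ResidueField ⊗[P] Q :=
      Algebra.TensorProduct.cancelBaseChange P L L (L ⧸ mL) Q
    have h2 : ∀ v, c ((LinearMap.mulLeft L g₁).lTensor (L ⧸ mL) v) =
        ((1 : p.ResidueField) ⊗ₜ[P] g) * c v := by
      intro v
      induction v using TensorProduct.induction_on with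
      | zero => simp
      | add a d ha hd => simp only [map_add, ha, hd, mul_add]
      | tmul r x =>
        rw [LinearMap.lTensor_tmul, LinearMap.mulLeft_apply,
          show r ⊗ₜ[L] (g₁ * x) = ((1 : L ⧸ mL) ⊗ₜ[L] g₁) * (r ⊗ₜ[L] x) by
            rw [Algebra.TensorProduct.tmul_mul_tmul, one_mul], map_mul]
        congr 1
        refine (Algebra.TensorProduct.cancelBaseChange_tmul ..).trans ?_
        rw [one_smul]
        rfl
    have h3 := h2 w
    rw [hw, map_zero] at h3
    exact (map_eq_zero_iff c c.injective).1 (hq _ h3.symm)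
  have hmem := fun n => mem_pow_smul_of_lTensor_injective mL (LinearMap.mulLeft L g₁) hinj (h := h₁)
    (by rw [LinearMap.mulLeft_apply, Algebra.TensorProduct.tmul_mul_tmul, hgh, tmul_zero]) n
  exact exists_kill_of_mem_pow Q h q hmem

end Noetherian

/-- A fibrewise non-zero-divisor is a non-zero-divisor, near a point. -/
theorem local_zero [Algebra.Smooth R B] (g h : B) (hgh : g * h = 0) (q : Ideal B) [q.IsPrime]
    (hq : ∀ z : (q.under R).ResidueField ⊗[R] B, ((1 : (q.under R).ResidueField) ⊗ₜ[R] g) * z = 0 → z = 0) :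
    ∃ t, t ∉ q ∧ t * h = 0 := by
  classical
  obtain ⟨M, hF⟩ := exists_model R B {g, h}
  obtain ⟨g₀, rfl⟩ := hF (Finset.mem_coe.2 (Finset.mem_insert_self _ _))
  obtain ⟨h₀, rfl⟩ := hF (Finset.mem_coe.2 (Finset.mem_insert_of_mem (Finset.mem_singleton_self _)))
  have hβinj : Function.Injective M.β := by
    have := Algebra.TensorProduct.includeRight_injective (R := M.R₀) (A := R) (B := M.B₀) Subtype.val_injective
    exact M.Φ.injective.comp this
  let q₀ := q.comap M.β
  have hgh₀ : g₀ * h₀ = 0 := hβinj (by rw [map_mul, hgh, map_zero])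
  have hp : q₀.under M.R₀ = (q.under R).comap M.R₀.subtype := by
    ext r
    show M.β (algebraMap M.R₀ M.B₀ r) ∈ q ↔ algebraMap R B r ∈ q
    rw [M.β_algebraMap]
  let φ : (q₀.under M.R₀).ResidueField →+* (q.under R).ResidueField :=
    Ideal.ResidueField.map (q₀.under M.R₀) (q.under R) M.R₀.subtype hp
  let φa : (q₀.under M.R₀).ResidueField →ₐ[M.R₀] (q.under R).ResidueField :=
    { φ with commutes' := fun r => Ideal.ResidueField.map_algebraMap (q₀.under M.R₀) (q.under R) M.R₀.subtype hp r }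
  let ψ : (q.under R).ResidueField ⊗[M.R₀] M.B₀ ≃ₐ[(q.under R).ResidueField] (q.under R).ResidueField ⊗[R] B :=
    (Algebra.TensorProduct.cancelBaseChange M.R₀ R _ _ M.B₀).symm.trans
      (Algebra.TensorProduct.congr AlgEquiv.refl M.Φ)
  have hψ : ψ ((1 : (q.under R).ResidueField) ⊗ₜ g₀) = 1 ⊗ₜ[R] M.β g₀ := by
    simp only [ψ, AlgEquiv.trans_apply, Algebra.TensorProduct.cancelBaseChange_symm_tmul,
      Algebra.TensorProduct.congr_apply, Algebra.TensorProduct.map_tmul]
    rfl
  let T := Algebra.TensorProduct.map φa (AlgHom.id M.R₀ M.B₀)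
  have hT : Function.Injective T := Module.Flat.rTensor_preserves_injective_linearMap φa.toLinearMap φ.injective
  obtain ⟨t₀, ht₀, ht₀h⟩ := local_zero_noeth M.B₀ g₀ h₀ hgh₀ q₀ fun z hz => hT <| by
    rw [map_zero]
    have h1 : ((1 : (q.under R).ResidueField) ⊗ₜ[R] M.β g₀) * ψ (T z) = 0 := by
      rw [← hψ, ← map_mul, show (1 : (q.under R).ResidueField) ⊗ₜ[M.R₀] g₀ = T (1 ⊗ₜ g₀) by
        rw [Algebra.TensorProduct.map_tmul, map_one]; rfl, ← map_mul, hz, map_zero, map_zero]
    exact (map_eq_zero_iff ψ ψ.injective).1 (hq _ h1)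
  exact ⟨M.β t₀, ht₀, by rw [← map_mul, ht₀h, map_zero]⟩

end Groth.Agent.WeilRes
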