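import Groth.Agent.FinHomLib.Glue

/-!
# Closed subschemes of the base representing a property of morphisms to it
-/

set_option autoImplicit false
set_option backward.isDefEq.respectTransparency false

noncomputable section

universe u

open CategoryTheory CategoryTheory.Limits AlgebraicGeometry Opposite

namespace Groth.Agent.WeilRes

variable {S : Scheme.{u}} (P : ∀ ⦃S' : Scheme.{u}⦄, (S' ⟶ S) → Prop)

/-- A property of `S`-schemes which is stable under pullback and Zariski local. -/
structure IsLocalProp : Prop where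
  comp : ∀ {S'' S' : Scheme.{u}} (h : S'' ⟶ S') (g : S' ⟶ S), P g → P (h ≫ g)
  of_cover : ∀ {S' : Scheme.{u}} (g : S' ⟶ S) {I : Type u} {S'' : I → Scheme.{u}} (j : ∀ i, S'' i ⟶ S'),
    (∀ i, IsOpenImmersion (j i)) → (∀ x : S', ∃ i, x ∈ Set.range (j i)) → (∀ i, P (j i ≫ g)) → P g

/-- The morphism of spectra given by a ring map. -/
abbrev sp {R R' : Type u} [CommRing R] [CommRing R'] (φ : R →+* R') :
    Spec (CommRingCat.of R') ⟶ Spec (CommRingCat.of R) := Spec.map (CommRingCat.ofHom φ)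

theorem sp_comp {R R' R'' : Type u} [CommRing R] [CommRing R'] [CommRing R''] (φ : R →+* R') (ψ : R' →+* R'') :
    sp ψ ≫ sp φ = sp (ψ.comp φ) := by
  rw [sp, sp, ← Spec.map_comp]; rfl

/-- An ideal represents the property on affine schemes over a chart. -/
def RepIdeal {R : Type u} [CommRing R] (j : Spec (CommRingCat.of R) ⟶ S) (I : Ideal R) : Prop :=
  ∀ (R' : Type u) [CommRing R'] (φ : R →+* R'), P (sp φ ≫ j) ↔ I ≤ RingHom.ker φ

variable {P}

theorem RepIdeal.unique {R : Type u} [CommRing R] {j : Spec (CommRingCat.of R) ⟶ S} {I I' : Ideal R}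
    (h : RepIdeal P j I) (h' : RepIdeal P j I') : I = I' := by
  refine le_antisymm ?_ ?_
  · exact ((h _ (Ideal.Quotient.mk I')).1 ((h' _ _).2 Ideal.mk_ker.ge)).trans Ideal.mk_ker.le
  · exact ((h' _ (Ideal.Quotient.mk I)).1 ((h _ _).2 Ideal.mk_ker.ge)).trans Ideal.mk_ker.le

theorem RepIdeal.map {R R₀ : Type u} [CommRing R] [CommRing R₀] {j : Spec (CommRingCat.of R) ⟶ S} {I : Ideal R}
    (h : RepIdeal P j I) (φ₀ : R →+* R₀) : RepIdeal P (sp φ₀ ≫ j) (I.map φ₀) := by
  intro R' _ φ
  rw [← Category.assoc, sp_comp, h, Ideal.map_le_iff_le_comap, ← RingHom.comap_ker]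

theorem sp_away_range {R : Type u} [CommRing R] (r : R) :
    Set.range (sp (algebraMap R (Localization.Away r))) = {p | r ∉ p.asIdeal} :=
  PrimeSpectrum.localization_away_comap_range (Localization.Away r) r

theorem isOpenImmersion_sp_away {R : Type u} [CommRing R] (r : R) :
    IsOpenImmersion (sp (algebraMap R (Localization.Away r))) := IsOpenImmersion.of_isLocalization r

variable (hP : IsLocalProp P)

include hP

theorem exists_repIdeal {R : Type u} [CommRing R] (j : Spec (CommRingCat.of R) ⟶ S)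
    (hloc : ∀ p : PrimeSpectrum R, ∃ r : R, r ∉ p.asIdeal ∧
      ∃ I, RepIdeal P (sp (algebraMap R (Localization.Away r)) ≫ j) I) :
    ∃ I, RepIdeal P j I := by
  choose r hr I hI using hloc
  let T : Set R := Set.range r
  have hT : Ideal.span T = ⊤ := by
    by_contra hne
    obtain ⟨m, hm, hle⟩ := Ideal.exists_le_maximal _ hne
    exact hr ⟨m, hm.isPrime⟩ (hle (Ideal.subset_span ⟨_, rfl⟩))
  let J : Ideal R := ⨅ p, (I p).comap (algebraMap R (Localization.Away (r p)))
  obtain ⟨F, hFT, hF⟩ : ∃ F : Finset R, ↑F ⊆ T ∧ Ideal.span (↑F : Set R) = ⊤ := by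
    have h1 := (Ideal.eq_top_iff_one _).1 hT
    obtain ⟨F, hFT, hF⟩ := Submodule.mem_span_finite_of_mem_span h1
    exact ⟨F, hFT, (Ideal.eq_top_iff_one _).2 hF⟩
  choose pt hpt using fun x : (↑F : Set R) => hFT x.2
  let J' : Ideal R := ⨅ x, (I (pt x)).comap (algebraMap R (Localization.Away (r (pt x))))
  have hkey : ∀ x, J'.map (algebraMap R (Localization.Away (r (pt x)))) = I (pt x) := by
    intro x
    refine le_antisymm (Ideal.map_le_iff_le_comap.2 (iInf_le _ x)) fun z hz => ?_
    obtain ⟨⟨a, s⟩, hzs⟩ := IsLocalization.surj (Submonoid.powers (r (pt x))) z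
    have haI : algebraMap R _ a ∈ I (pt x) := hzs ▸ Ideal.mul_mem_right _ _ hz
    have hM : ∀ y, ∃ M : ℕ, algebraMap R (Localization.Away (r (pt y))) (r (pt x) ^ M * a) ∈ I (pt y) := by
      intro y
      set A := Localization.Away (r (pt y)) with hA
      set L := Localization.Away (algebraMap R A (r (pt x))) with hL
      let ψy : A →+* L := algebraMap A L
      have hu : IsUnit ((ψy.comp (algebraMap R A)) (r (pt x))) :=
        IsLocalization.Away.algebraMap_isUnit (algebraMap R A (r (pt x)))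
      let ψx : Localization.Away (r (pt x)) →+* L := IsLocalization.Away.lift (r (pt x)) hu
      have hψ : ψx.comp (algebraMap R _) = ψy.comp (algebraMap R A) := IsLocalization.Away.lift_comp (r (pt x)) hu
      have h1 := (hI (pt x)).map ψx
      have h2 := (hI (pt y)).map ψy
      rw [← Category.assoc, sp_comp, hψ, ← sp_comp, Category.assoc] at h1
      have h3 : ψx (algebraMap R _ a) ∈ (I (pt y)).map ψy := h1.unique h2 ▸ Ideal.mem_map_of_mem ψx haI
      rw [show ψx (algebraMap R _ a) = ψy (algebraMap R A a) from RingHom.congr_fun hψ a,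
        IsLocalization.mem_map_algebraMap_iff (Submonoid.powers (algebraMap R A (r (pt x))))] at h3
      obtain ⟨⟨⟨w, hw⟩, ⟨_, ⟨M, rfl⟩⟩⟩, hwM⟩ := h3
      rw [← map_mul] at hwM
      obtain ⟨⟨_, ⟨N, rfl⟩⟩, hN⟩ :=
        (IsLocalization.eq_iff_exists (Submonoid.powers (algebraMap R A (r (pt x)))) L).1 hwM
      refine ⟨N + M, ?_⟩
      have h4 : algebraMap R A (r (pt x) ^ (N + M) * a) =
          (algebraMap R A (r (pt x))) ^ N * (algebraMap R A a * algebraMap R A (r (pt x)) ^ M) := by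
        rw [map_mul, map_pow, pow_add]; ring
      rw [h4]
      exact (show _ = _ from hN) ▸ Ideal.mul_mem_left _ _ hw
    choose M hM using hM
    haveI : Finite (↑F : Set R) := F.finite_toSet
    cases nonempty_fintype (↑F : Set R)
    let N := Finset.univ.sup M
    have hmem : r (pt x) ^ N * a ∈ J' := Ideal.mem_iInf.2 fun y => by
      rw [Ideal.mem_comap, show r (pt x) ^ N * a = r (pt x) ^ (N - M y) * (r (pt x) ^ M y * a) by
        rw [← mul_assoc, ← pow_add, Nat.sub_add_cancel (Finset.le_sup (Finset.mem_univ y))], map_mul]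
      exact Ideal.mul_mem_left _ _ (hM y)
    have h5 := Ideal.mem_map_of_mem (algebraMap R (Localization.Away (r (pt x)))) hmem
    rw [map_mul, ← hzs, map_pow] at h5
    rw [Ideal.unit_mul_mem_iff_mem _ ((IsLocalization.Away.algebraMap_isUnit (r (pt x))).pow N),
      Ideal.mul_unit_mem_iff_mem _ (IsLocalization.map_units _ s)] at h5
    exact h5
  refine ⟨J', fun R' _ φ => ?_⟩
  have hcovF : Ideal.span (Set.range fun x => φ (r (pt x))) = ⊤ := by
    have hsub : (φ '' (↑F : Set R)) = Set.range fun x => φ (r (pt x)) := by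
      ext z
      simp [hpt, Subtype.exists]
    rw [← hsub, ← Ideal.map_span, hF, Ideal.map_top]
  let φl : ∀ x, Localization.Away (r (pt x)) →+* Localization.Away (φ (r (pt x))) := fun x =>
    IsLocalization.Away.lift (r (pt x)) (g := (algebraMap R' (Localization.Away (φ (r (pt x))))).comp φ)
      (IsLocalization.Away.algebraMap_isUnit (φ (r (pt x))))
  have hφl : ∀ x, (φl x).comp (algebraMap R _) = (algebraMap R' _).comp φ := fun x =>
    IsLocalization.Away.lift_comp _ _
  have hsq : ∀ x, sp (algebraMap R' (Localization.Away (φ (r (pt x))))) ≫ sp φ ≫ j =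
      sp (φl x) ≫ sp (algebraMap R (Localization.Away (r (pt x)))) ≫ j := fun x => by
    rw [← Category.assoc, sp_comp, ← hφl x, ← sp_comp, Category.assoc]
  constructor
  · intro h a ha
    have h0 : ∀ x, algebraMap R' (Localization.Away (φ (r (pt x)))) (φ a) = 0 := fun x => by
      have h1 := hP.comp (sp (algebraMap R' (Localization.Away (φ (r (pt x)))))) _ h
      rw [hsq] at h1
      have h2 := (hI (pt x) _ (φl x)).1 h1 ((Ideal.mem_iInf.1 ha x) : _)
      exact (RingHom.congr_fun (hφl x) a).symm.trans h2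
    rw [RingHom.mem_ker]
    have hle : ∀ x, ∃ N : ℕ, φ (r (pt x)) ^ N * φ a = 0 := fun x => by
      obtain ⟨⟨_, ⟨N, rfl⟩⟩, hN⟩ := (IsLocalization.map_eq_zero_iff (Submonoid.powers (φ (r (pt x)))) _ _).1 (h0 x)
      exact ⟨N, hN⟩
    choose N hN using hle
    let Ann : Ideal R' := LinearMap.ker (LinearMap.mulRight R' (φ a))
    have htop : Ann.radical = ⊤ := by
      rw [eq_top_iff, ← hcovF, Ideal.span_le]
      rintro _ ⟨x, rfl⟩
      exact ⟨N x, hN x⟩
    rw [Ideal.radical_eq_top, Ideal.eq_top_iff_one] at htop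
    have := LinearMap.mem_ker.1 htop
    rwa [LinearMap.mulRight_apply, one_mul] at this
  · intro h
    refine hP.of_cover _ (fun x => sp (algebraMap R' (Localization.Away (φ (r (pt x))))))
      (fun x => isOpenImmersion_sp_away _) (fun q => ?_) fun x => ?_
    · by_contra hq
      simp only [sp_away_range, Set.mem_setOf_eq, not_exists, not_not] at hq
      refine q.isPrime.ne_top (eq_top_iff.2 (hcovF ▸ Ideal.span_le.2 ?_))
      rintro _ ⟨x, rfl⟩
      exact hq x
    · rw [hsq]
      refine (hI (pt x) _ (φl x)).2 ?_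
      rw [← hkey x, Ideal.map_le_iff_le_comap, RingHom.comap_ker, hφl]
      exact h.trans fun a ha => by rw [RingHom.mem_ker, RingHom.comp_apply, RingHom.mem_ker.1 ha, map_zero]

variable (Q : Prop)

/-- If a local property is locally represented by ideals, it is represented by a closed subscheme. -/
theorem exists_closed
    (hrep : ∀ s : S, ∃ (R : CommRingCat.{u}) (j : Spec (CommRingCat.of R) ⟶ S), IsOpenImmersion j ∧ s ∈ Set.range j ∧
      ∃ I : Ideal R, RepIdeal P j I ∧ (Q → I.FG)) :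
    ∃ (T : Scheme.{u}) (t : T ⟶ S), IsClosedImmersion t ∧
      (∀ ⦃S' : Scheme.{u}⦄ (g : S' ⟶ S), (∃ g' : S' ⟶ T, g' ≫ t = g) ↔ P g) ∧
      (Q → LocallyOfFinitePresentation t) := by
  choose R j hj hs I hI hfg using hrep
  let Φ : (Over S)ᵒᵖ ⥤ Type u :=
    { obj := fun T => ULift.{u} (PLift (P T.unop.hom))
      map := fun {T T'} f => TypeCat.ofHom fun a => ⟨⟨Over.w f.unop ▸ hP.comp f.unop.left _ a.down.down⟩⟩
      map_id := fun _ => rfl
      map_comp := fun _ _ => rfl }
  haveI hsub : ∀ T, Subsingleton (Φ.obj T) := fun T => inferInstanceAs (Subsingleton (ULift (PLift _)))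
  have hΦ : FinHom.IsZarSheaf Φ := by
    refine ⟨fun _ _ _ a b _ => Subsingleton.elim _ _, fun {T I T'} g hg hc a _ => ?_⟩
    refine ⟨⟨⟨hP.of_cover T.hom (fun i => (g i).left) hg hc fun i => ?_⟩⟩, fun i => Subsingleton.elim _ _⟩
    rw [Over.w]
    exact (a i).down.down
  -- representing ideals on all affine opens
  have hall : ∀ U : S.AffineZariskiSite, ∃ J : Ideal Γ(S, U.1), RepIdeal P U.2.fromSpec J ∧ (Q → J.FG) := by
    intro U
    have hl : ∀ p : PrimeSpectrum Γ(S, U.1), ∃ r : Γ(S, U.1), r ∉ p.asIdeal ∧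
        ∃ J, RepIdeal P (sp (algebraMap Γ(S, U.1) (Localization.Away r)) ≫ U.2.fromSpec) J ∧ (Q → J.FG) := by
      intro p
      haveI := hj (U.2.fromSpec p)
      obtain ⟨_, ⟨r, rfl⟩, hrp, hr⟩ := PrimeSpectrum.isTopologicalBasis_basic_opens.exists_subset_of_mem_open
        (show p ∈ U.2.fromSpec ⁻¹' Set.range (j (U.2.fromSpec p)) from hs (U.2.fromSpec p))
        ((j (U.2.fromSpec p)).isOpenEmbedding.isOpen_range.preimage U.2.fromSpec.continuous)
      refine ⟨r, hrp, ?_⟩
      have hrange : Set.range (sp (algebraMap Γ(S, U.1) (Localization.Away r)) ≫ U.2.fromSpec) ⊆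
          Set.range (j (U.2.fromSpec p)) := by
        rintro _ ⟨q, rfl⟩
        exact hr (show sp (algebraMap Γ(S, U.1) (Localization.Away r)) q ∈ _ from
          (sp_away_range r).le ⟨q, rfl⟩)
      obtain ⟨φ, hφ⟩ := Spec.map_surjective (IsOpenImmersion.lift (j (U.2.fromSpec p)) _ hrange)
      refine ⟨(I (U.2.fromSpec p)).map φ.hom, ?_, fun hq => Ideal.FG.map (hfg _ hq) _⟩
      have := (hI (U.2.fromSpec p)).map φ.hom
      rwa [show sp φ.hom ≫ j (U.2.fromSpec p) = sp (algebraMap Γ(S, U.1) (Localization.Away r)) ≫ U.2.fromSpec by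
        rw [show sp φ.hom = Spec.map φ from rfl, hφ, IsOpenImmersion.lift_fac]] at this
    choose r hr J hJ hJfg using hl
    obtain ⟨J₀, hJ₀⟩ := exists_repIdeal hP U.2.fromSpec fun p => ⟨r p, hr p, J p, hJ p⟩
    refine ⟨J₀, hJ₀, fun hq => Ideal.fg_of_localizationSpan (Set.range r) ?_ fun x => ?_⟩
    · by_contra hne
      obtain ⟨m, hm, hle⟩ := Ideal.exists_le_maximal _ hne
      exact hr ⟨m, hm.isPrime⟩ (hle (Ideal.subset_span ⟨_, rfl⟩))
    · obtain ⟨_, p, rfl⟩ := x
      rw [(hJ₀.map (algebraMap _ (Localization.Away (r p)))).unique (hJ p)]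
      exact hJfg p hq
  choose J hJ hJfg using hall
  let q : ∀ U : S.AffineZariskiSite, Spec (CommRingCat.of (Γ(S, U.1) ⧸ J U)) ⟶ Spec Γ(S, U.1) := fun U =>
    sp (Ideal.Quotient.mk (J U))
  haveI : ∀ U, IsClosedImmersion (q U) := fun U =>
    IsClosedImmersion.spec_of_surjective _ Ideal.Quotient.mk_surjective
  let Mo : S.AffineZariskiSite → Over S := fun U => Over.mk (q U ≫ U.2.fromSpec)
  let ξ : ∀ U, Φ.obj (op (Mo U)) := fun U => ⟨⟨(hJ U _ _).2 Ideal.mk_ker.ge⟩⟩
  let h : ∀ U, (Mo U).left ⟶ (U.1 : Scheme.{u}) := fun U => q U ≫ U.2.isoSpec.inv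
  have hrepU : ∀ U, FinHom.RepOn Φ U.1 (Mo U) (ξ U) := by
    intro U
    refine FinHom.repOn_of_affine Φ hΦ U.1 (Mo U) (ξ U) ?_ fun T hT hTU => ⟨fun a b _ => ?_, fun z => ?_⟩
    · rintro _ ⟨x, rfl⟩
      show (q U ≫ U.2.fromSpec) x ∈ (U.1 : Set S)
      rw [Scheme.Hom.comp_apply, ← U.2.range_fromSpec]
      exact ⟨_, rfl⟩
    · refine Over.OverMorphism.ext ((cancel_mono (q U ≫ U.2.fromSpec)).1 ?_)
      exact (Over.w a).trans (Over.w b).symm
    · haveI := hT
      obtain ⟨φ, hφ⟩ := Spec.map_surjective (T.left.isoSpec.inv ≫ IsOpenImmersion.lift U.2.fromSpec T.hom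
        (by rwa [U.2.range_fromSpec]))
      have hfac : sp φ.hom ≫ U.2.fromSpec = T.left.isoSpec.inv ≫ T.hom := by
        rw [show sp φ.hom = Spec.map φ from rfl, hφ, Category.assoc, IsOpenImmersion.lift_fac]
      have hle := (hJ U _ φ.hom).1 (hfac ▸ hP.comp T.left.isoSpec.inv _ z.down.down)
      refine ⟨Over.homMk (T.left.isoSpec.hom ≫ sp (Ideal.Quotient.lift (J U) φ.hom fun a ha => hle ha)) ?_,
        Subsingleton.elim _ _⟩
      show (T.left.isoSpec.hom ≫ sp _) ≫ q U ≫ U.2.fromSpec = T.hom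
      rw [Category.assoc, ← Category.assoc (sp _), sp_comp, Ideal.Quotient.lift_comp_mk, hfac,
        Iso.hom_inv_id_assoc]
  obtain ⟨M, ⟨e⟩, hM⟩ := FinHom.exists_rep Φ hΦ Mo ξ h (fun U => by
    show (q U ≫ U.2.isoSpec.inv) ≫ U.1.ι = q U ≫ U.2.fromSpec
    rw [Category.assoc, IsAffineOpen.isoSpec_inv_ι]) hrepU
  refine ⟨M.left, M.hom, hM @IsClosedImmersion fun U => inferInstanceAs (IsClosedImmersion (q U ≫ _)),
    fun S' g => ?_, fun hq => hM @LocallyOfFinitePresentation fun U => ?_⟩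
  · constructor
    · rintro ⟨g', rfl⟩
      exact (e.homEquiv (Over.homMk g' rfl : Over.mk (g' ≫ M.hom) ⟶ M)).down.down
    · intro hg
      exact ⟨(e.homEquiv.symm (⟨⟨hg⟩⟩ : Φ.obj (op (Over.mk g)))).left, Over.w _⟩
  · haveI : LocallyOfFinitePresentation (q U) :=
      (HasRingHomProperty.Spec_iff (P := @LocallyOfFinitePresentation)).2
        (RingHom.FinitePresentation.of_surjective _ Ideal.Quotient.mk_surjective
          ((Ideal.mk_ker (I := J U)).symm ▸ hJfg U hq))
    exact inferInstanceAs (LocallyOfFinitePresentation (q U ≫ _))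

end Groth.Agent.WeilRes
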